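import Groth.Agent.HopfLib.LieKolchin

/-!
# Lie–Kolchin: connected groups, comodules
-/

set_option autoImplicit false
set_option linter.style.haveILetI false

noncomputable section

open TensorProduct WithConv HopfRep
open scoped commutatorElement

universe u v w

namespace Groth.Agent.HopfLib.LieKolchin

variable {k : Type u} [Field k] {A : Type v} [CommRing A] [HopfAlgebra k A]

local notation "Γ" => WithConv (A →ₐ[k] k)

section Group

variable [IsAlgClosed k] [Algebra.FiniteType k A] [IsReduced A]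

theorem pts_ext {a b : A} (h : ∀ x : Γ, x.ofConv a = x.ofConv b) : a = b := by
  by_contra hne
  obtain ⟨x, hx⟩ := exists_algHom_ne_zero (k := k) (f := a - b) fun hn => hne (sub_eq_zero.1 hn.eq_zero)
  exact hx (by rw [map_sub, sub_eq_zero]; exact h (toConv x))

/-- Right translation by a rational point is an automorphism of the coordinate ring. -/
theorem exists_translate (g : Γ) :
    ∃ τ : A ≃ₐ[k] A, RingHom.ker g.ofConv = Ideal.comap τ.toAlgHom (RingHom.ker (Bialgebra.counitAlgHom k A)) := by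
  obtain ⟨P, hP⟩ := (IsAlgMap.id' (k := k) (A := A)).mul (IsAlgMap.const g)
  obtain ⟨Q, hQ⟩ := (IsAlgMap.id' (k := k) (A := A)).mul (IsAlgMap.const g⁻¹)
  refine ⟨AlgEquiv.ofAlgHom P Q (AlgHom.ext fun a => pts_ext (k := k) fun x => ?_) (AlgHom.ext fun a => pts_ext (k := k) fun x => ?_), ?_⟩
  · rw [AlgHom.comp_apply, AlgHom.id_apply, ← hP x (Q a), ← hQ (x * g) a]
    dsimp only
    rw [mul_inv_cancel_right]
  · rw [AlgHom.comp_apply, AlgHom.id_apply, ← hQ x (P a), ← hP (x * g⁻¹) a]
    dsimp only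
    rw [inv_mul_cancel_right]
  · ext a
    rw [Ideal.mem_comap, RingHom.mem_ker, RingHom.mem_ker]
    have h : Bialgebra.counitAlgHom k A (P a) = g.ofConv a := by
      have h1 := hP 1 a
      dsimp only at h1
      rw [_root_.one_mul] at h1
      rw [h1, AlgHom.convOne_apply]
      rfl
    exact (Eq.congr_left h).symm

variable (k) in
include k in
/-- Connected reduced groups are integral. -/
theorem isDomain (hconn : ∀ e : A, IsIdempotentElem e → e = 0 ∨ e = 1) : IsDomain A := by
  classical
  haveI : Nontrivial A := (Bialgebra.counitAlgHom k A).toRingHom.domain_nontrivial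
  haveI : IsNoetherianRing A := Algebra.FiniteType.isNoetherianRing k A
  have hfin := Ideal.finite_minimalPrimes_of_isNoetherianRing A (⊥ : Ideal A)
  have hinf : ∀ f : A, (∀ P ∈ (⊥ : Ideal A).minimalPrimes, f ∈ P) → f = 0 := fun f hf => by
    have h1 : f ∈ sInf (⊥ : Ideal A).minimalPrimes := Ideal.mem_sInf.2 fun {P} hP => hf P hP
    rw [Ideal.sInf_minimalPrimes] at h1
    simpa [Ideal.mem_radical_iff] using h1
  haveI : (RingHom.ker (Bialgebra.counitAlgHom k A)).IsPrime := RingHom.ker_isPrime _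
  obtain ⟨P, hP, -⟩ := Ideal.exists_minimalPrimes_le (J := RingHom.ker (Bialgebra.counitAlgHom k A)) (bot_le : (⊥ : Ideal A) ≤ _)
  let rest := hfin.toFinset.erase P
  have hout : ∀ Q ∈ rest, ∃ f ∈ Q, f ∉ P := fun Q hQ => by
    obtain ⟨hne, hQm⟩ := Finset.mem_erase.1 hQ
    rw [Set.Finite.mem_toFinset] at hQm
    exact SetLike.not_le_iff_exists.1 fun hle => hne (le_antisymm hle (hP.2 ⟨hQm.1.1, bot_le⟩ hle))
  choose! f hfQ hfP using hout
  have hprod : ∏ Q ∈ rest, f Q ∉ P := fun hmem => by
    haveI := hP.1.1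
    obtain ⟨Q, hQ, hQ'⟩ := Ideal.IsPrime.prod_mem_iff.1 hmem
    exact hfP Q hQ hQ'
  by_cases hrest : rest = ∅
  · have hP0 : P = ⊥ := eq_bot_iff.2 fun z hz => hinf z fun Q hQ => by
      by_cases hQP : Q = P
      · rwa [hQP]
      · have hQ' : Q ∈ rest := Finset.mem_erase.2 ⟨hQP, hfin.mem_toFinset.2 hQ⟩
        rw [hrest] at hQ'
        exact absurd hQ' (Finset.notMem_empty _)
    haveI : (⊥ : Ideal A).IsPrime := hP0 ▸ hP.1.1
    exact IsDomain.of_bot_isPrime A
  exfalso
  obtain ⟨g₀, hg₀⟩ := exists_algHom_ne_zero (k := k) (f := ∏ Q ∈ rest, f Q) fun hn => hprod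
    (by haveI := hP.1.1; obtain ⟨n, hn'⟩ := hn; exact hP.1.1.mem_of_pow_mem n (hn' ▸ P.zero_mem))
  have huniq : ∀ g : A →ₐ[k] k, ∀ Q ∈ (⊥ : Ideal A).minimalPrimes, ∀ Q' ∈ (⊥ : Ideal A).minimalPrimes,
      Q ≤ RingHom.ker g → Q' ≤ RingHom.ker g → Q = Q' := by
    intro g Q hQ Q' hQ' h h'
    obtain ⟨τ, hτ⟩ := exists_translate (toConv g)
    obtain ⟨τ₀, hτ₀⟩ := exists_translate (toConv g₀)
    change RingHom.ker g = _ at hτ
    change RingHom.ker g₀ = _ at hτ₀
    let σ : A ≃ₐ[k] A := τ.trans τ₀.symm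
    have hσ : RingHom.ker g = Ideal.comap σ.toAlgHom (RingHom.ker g₀) := by
      rw [hτ, hτ₀]
      ext z
      simp [σ]
    have hmove : ∀ R ∈ (⊥ : Ideal A).minimalPrimes, R ≤ RingHom.ker g → Ideal.comap σ.symm.toAlgHom R = P := by
      intro R hR hle
      haveI := hR.1.1
      have hle₀ : Ideal.comap σ.symm.toAlgHom R ≤ RingHom.ker g₀ := fun z hz => by
        have := hle hz
        rw [hσ] at this
        simpa using this
      obtain ⟨R', hR', hR'le⟩ := Ideal.exists_minimalPrimes_le (bot_le : (⊥ : Ideal A) ≤ Ideal.comap σ.symm.toAlgHom R)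
      have hR'P : R' = P := by
        by_contra hne
        refine hg₀ (hle₀ (hR'le ?_))
        have hmem : R' ∈ rest := Finset.mem_erase.2 ⟨hne, hfin.mem_toFinset.2 hR'⟩
        exact Ideal.prod_mem _ hmem (hfQ R' hmem)
      refine le_antisymm ?_ (hR'P ▸ hR'le)
      haveI := hP.1.1
      have h2 : R ≤ Ideal.comap σ.toAlgHom P := hR.2 ⟨inferInstance, bot_le⟩ fun z hz => by
        have h3 : σ z ∈ Ideal.comap σ.symm.toAlgHom R := hR'le (hR'P.symm ▸ hz)
        simpa using h3
      intro z hz
      have := h2 hz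
      simpa using this
    refine Ideal.comap_injective_of_surjective σ.symm.toAlgHom σ.symm.surjective ?_
    rw [hmove Q hQ h, hmove Q' hQ' h']
  have hco : P ⊔ ⨅ Q ∈ rest, Q = ⊤ := by
    by_contra hne
    obtain ⟨g, hg⟩ := exists_algHom_le_ker (k := k) hne
    have hg' : ∀ z ∈ P ⊔ ⨅ Q ∈ rest, Q, z ∈ RingHom.ker g := fun z hz => hg hz
    have hprime : (RingHom.ker g).IsPrime := RingHom.ker_isPrime _
    obtain ⟨Q, hQ, hQle⟩ := (Ideal.IsPrime.inf_le' hprime).1
      (show rest.inf id ≤ RingHom.ker g by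
        rw [Finset.inf_id_eq_sInf, sInf_eq_iInf]
        exact fun z hz => hg' z (Submodule.mem_sup_right (by simpa using hz)))
    obtain ⟨hne', hQm⟩ := Finset.mem_erase.1 hQ
    exact hne' (huniq g Q (hfin.mem_toFinset.1 hQm) P hP hQle fun z hz => hg' z (Submodule.mem_sup_left hz))
  obtain ⟨e, he, e', he', hsum⟩ := Submodule.mem_sup.1 (hco ▸ Submodule.mem_top : (1 : A) ∈ P ⊔ ⨅ Q ∈ rest, Q)
  have hmul : e * e' = 0 := hinf _ fun Q hQ => by
    by_cases hQP : Q = P
    · rw [hQP]; exact P.mul_mem_right _ he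
    · refine Q.mul_mem_left _ ?_
      simp only [Submodule.mem_iInf] at he'
      exact he' Q (Finset.mem_erase.2 ⟨hQP, hfin.mem_toFinset.2 hQ⟩)
  have hidem : IsIdempotentElem e := by
    show e * e = e
    linear_combination e * hsum - hmul
  rcases hconn e hidem with h | h
  · obtain ⟨Q, hQ⟩ := Finset.nonempty_iff_ne_empty.2 hrest
    have h1 : (1 : A) ∈ Q := by
      rw [← hsum, h, zero_add]
      simp only [Submodule.mem_iInf] at he'
      exact he' Q hQ
    exact (hfin.mem_toFinset.1 (Finset.mem_erase.1 hQ).2).1.1.ne_top ((Ideal.eq_top_iff_one _).2 h1)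
  · exact hP.1.1.ne_top ((Ideal.eq_top_iff_one _).2 (h ▸ he))

theorem irr_top (hconn : ∀ e : A, IsIdempotentElem e → e = 0 ∨ e = 1) :
    Irr ((⊤ : Subgroup Γ) : Set Γ) := by
  haveI := isDomain k hconn
  refine irr_of ⟨1, Subgroup.mem_top _⟩ fun a b h => ?_
  have hab : a * b = 0 := pts_ext (k := k) fun x => by rw [map_mul, map_zero]; exact h x (Subgroup.mem_top _)
  rcases mul_eq_zero.1 hab with h | h
  · exact Or.inl fun x _ => by rw [h, map_zero]
  · exact Or.inr fun x _ => by rw [h, map_zero]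

variable {V : Type w} [AddCommGroup V] [Module k V] [Module.Finite k V]

/-- Lie–Kolchin: a regular representation of a connected solvable group has a common eigenvector. -/
theorem exists_eigenvector [Group.IsSolvable (WithConv (A →ₐ[k] k))] [Nontrivial V]
    (hconn : ∀ e : A, IsIdempotentElem e → e = 0 ∨ e = 1) (ρ : Γ →* Module.End k V) (hρ : IsRegularRep ρ) :
    ∃ v : V, v ≠ 0 ∧ ∀ h : Γ, ∃ c : k, ρ h v = c • v := by
  obtain ⟨n, hn⟩ := (Group.IsSolvable.solvable : ∃ n, derivedSeries Γ n = ⊥)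
  have hit : ∀ m, (fun K : Subgroup Γ => ⁅K, K⁆)^[m] ⊤ = derivedSeries Γ m := fun m => by
    induction m with
    | zero => rfl
    | succ m ih => rw [Function.iterate_succ_apply', ih]; rfl
  obtain ⟨v, hv, h⟩ := exists_eigenvector_derived ρ hρ n ⊤ (irr_top hconn) (by rw [hit]; exact hn)
  exact ⟨v, hv, fun g => h g (Subgroup.mem_top _)⟩

end Group

section Comodule

variable {V : Type w} [AddCommGroup V] [Module k V] [Comod k A V]

theorem act_eq (g : Γ) (v : V) : Comod.act k A V g.ofConv v = hit g.ofConv.toLinearMap v := by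
  simp only [Comod.act, hit_apply, LinearMap.comp_apply, LinearEquiv.coe_coe]
  generalize Comod.coact (k := k) (A := A) v = t
  induction t using TensorProduct.induction_on with
  | zero => simp
  | add p q hp hq => simp only [map_add, hp, hq]
  | tmul a b => simp

variable (k A V) in
/-- The representation of the rational points attached to a comodule. -/
def rep : Γ →* Module.End k V where
  toFun g := Comod.act k A V g.ofConv
  map_one' := LinearMap.ext fun v => by
    rw [act_eq, Module.End.one_apply]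
    refine Eq.trans ?_ (hit_counit (k := k) (A := A) v)
    congr 2
  map_mul' g h := LinearMap.ext fun v => by
    rw [Module.End.mul_apply, act_eq, act_eq, act_eq, hit_hit]
    congr 2

theorem ofConv_cf (g : Γ) (f : V →ₗ[k] k) (v : V) : g.ofConv (cf (A := A) f v) = f (rep k A V g v) := by
  show _ = f (Comod.act k A V g.ofConv v)
  rw [act_eq, cf_apply, hit_apply]
  generalize Comod.coact (k := k) (A := A) v = t
  induction t using TensorProduct.induction_on with
  | zero => simp
  | add p q hp hq => simp only [map_add, hp, hq]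
  | tmul p q => simp [mul_comm]

theorem isRegularRep_rep : IsRegularRep (rep k A V) := fun v f => ⟨cf f v, fun g => ofConv_cf g f v⟩

theorem coact_eq_of_eigen [IsAlgClosed k] [Algebra.FiniteType k A] [IsReduced A] {v : V} (hv : v ≠ 0)
    (h : ∀ g : Γ, ∃ c : k, rep k A V g v = c • v) :
    ∃ a : A, Comod.coact (k := k) (A := A) v = v ⊗ₜ[k] a := by
  obtain ⟨f, hf⟩ : ∃ f : V →ₗ[k] k, f v = 1 := by
    obtain ⟨f, hf⟩ := Module.Projective.exists_dual_ne_zero k hv
    exact ⟨(f v)⁻¹ • f, by rw [LinearMap.smul_apply, smul_eq_mul, inv_mul_cancel₀ hf]⟩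
  refine ⟨cf f v, eq_of_forall_sliceL_eq fun φ => pts_ext (k := k) fun g => ?_⟩
  obtain ⟨c, hc⟩ := h g
  show g.ofConv (cf (A := A) φ v) = g.ofConv (sliceL φ (v ⊗ₜ[k] cf (A := A) f v))
  rw [sliceL_tmul, map_smul, ofConv_cf, ofConv_cf, hc, map_smul, map_smul, hf, smul_eq_mul, smul_eq_mul,
    smul_eq_mul]
  ring

end Comodule

section Unipotent

/-- Commutators act unipotently in every regular representation. -/
theorem isNilpotent_sub_one [IsAlgClosed k] [Algebra.FiniteType k A] [IsReduced A]
    [Group.IsSolvable (WithConv (A →ₐ[k] k))] (hconn : ∀ e : A, IsIdempotentElem e → e = 0 ∨ e = 1)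
    (g : Γ) (hg : g ∈ commutator Γ) : ∀ (n : ℕ) (V : Type w) [AddCommGroup V] [Module k V] [Module.Finite k V]
      (ρ : Γ →* Module.End k V), IsRegularRep ρ → Module.finrank k V = n → IsNilpotent (ρ g - 1) := by
  intro n
  induction n using Nat.strong_induction_on with
  | _ n ih =>
  intro V _ _ _ ρ hρ hn
  by_cases hV : Subsingleton V
  · exact ⟨1, LinearMap.ext fun x => Subsingleton.elim _ _⟩
  haveI := not_subsingleton_iff_nontrivial.1 hV
  obtain ⟨v, hv, hc⟩ := exists_eigenvector hconn ρ hρ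
  choose χ hχ using hc
  let L : Submodule k V := Submodule.span k {v}
  have hL : ∀ h : Γ, L ≤ L.comap (ρ h) := fun h => Submodule.span_le.2 fun x hx => by
    rw [Set.mem_singleton_iff] at hx
    subst hx
    show ρ h x ∈ L
    rw [hχ]
    exact L.smul_mem _ (Submodule.mem_span_singleton_self x)
  let ρ' : Γ →* Module.End k (V ⧸ L) :=
    { toFun := fun h => L.mapQ L (ρ h) (hL h)
      map_one' := Submodule.linearMap_qext _ (LinearMap.ext fun x => by simp)
      map_mul' := fun a b => Submodule.linearMap_qext _ (LinearMap.ext fun x => by simp [map_mul]) }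
  have hρ' : IsRegularRep ρ' := fun q f => by
    obtain ⟨x, rfl⟩ := L.mkQ_surjective q
    exact (hρ x (f ∘ₗ L.mkQ)).imp fun a ha h => ha h
  have hlt : Module.finrank k (V ⧸ L) < n := by
    have h := L.finrank_quotient_add_finrank
    rw [finrank_span_singleton hv] at h
    omega
  obtain ⟨r, hr⟩ := ih _ hlt _ ρ' hρ' rfl
  have hχ1 : χ g = 1 := by
    let ψ : Γ →* k :=
      { toFun := χ
        map_one' := smul_left_injective k hv (show χ 1 • v = (1 : k) • v by rw [← hχ, map_one, one_smul]; rfl)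
        map_mul' := fun a b => smul_left_injective k hv (show χ (a * b) • v = (χ a * χ b) • v by
          rw [← hχ, map_mul, Module.End.mul_apply, hχ, map_smul, hχ, smul_smul, mul_comm]) }
    have h := Abelianization.commutator_subset_ker ψ.toHomUnits hg
    exact congrArg Units.val (MonoidHom.mem_ker.1 h)
  refine ⟨r + 1, LinearMap.ext fun x => ?_⟩
  have hpow : ∀ (m : ℕ) (y : V), L.mkQ (((ρ g - 1) ^ m : Module.End k V) y) =
      ((ρ' g - 1) ^ m : Module.End k (V ⧸ L)) (L.mkQ y) := fun m => by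
    induction m with
    | zero => simp
    | succ m ihm =>
      intro y
      rw [pow_succ, pow_succ, Module.End.mul_apply, Module.End.mul_apply, ihm]
      rfl
  have hmem : ((ρ g - 1) ^ r : Module.End k V) x ∈ L := by
    rw [← L.ker_mkQ, LinearMap.mem_ker, hpow, hr]
    rfl
  obtain ⟨c, hc⟩ := Submodule.mem_span_singleton.1 hmem
  rw [pow_succ', Module.End.mul_apply, ← hc, map_smul, LinearMap.sub_apply, hχ, hχ1, one_smul,
    Module.End.one_apply, sub_self, smul_zero]
  rfl

end Unipotent

end Groth.Agent.HopfLib.LieKolchin
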