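import Groth.Prelude.Def_CoactBr2
import Groth.Prelude.Def_Red
import Groth.Agent.Misc15.AffinePoints
import Mathlib.RingTheory.TensorProduct.MonoidAlgebra
import Mathlib.RingTheory.Bialgebra.MonoidAlgebra
import Mathlib.RingTheory.HopfAlgebra.MonoidAlgebra

/-!
# Points of affine group schemes `CoactBr.sp R A` and of their base changes
-/

set_option autoImplicit false
universe u

open CategoryTheory MonoidalCategory CartesianMonoidalCategory MonObj GrpObj AlgebraicGeometry CategoryTheory.Limits
open scoped TensorProduct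
open CoactBr

noncomputable section

namespace Groth.Agent.HopfLib.SpPoints

variable {R : Type u} [CommRing R]

/-- `Spec R` over itself is the unit object. -/
def unitIso : sp R R ≅ 𝟙_ (Over (Spec (CommRingCat.of R))) :=
  Over.isoMk (Iso.refl _) (by
    change 𝟙 _ ≫ 𝟙 _ = Spec.map (CommRingCat.ofHom (algebraMap R R))
    rw [show CommRingCat.ofHom (algebraMap R R) = 𝟙 _ from rfl, Spec.map_id, Category.comp_id])

variable {K L : Type u} [CommRing K] [Algebra R K] [CommRing L] [Algebra R L]

theorem toUnit_eq : toUnit (sp R K) = pt (Algebra.ofId R K) ≫ unitIso.hom := toUnit_unique _ _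

/-- The algebra map of a point. -/
def algOf {A : Type u} [CommRing A] [Algebra R A] (p : sp R K ⟶ sp R A) : A →ₐ[R] K :=
  (Misc15.AffinePoints.pt_surjective p).choose

@[simp] theorem pt_algOf {A : Type u} [CommRing A] [Algebra R A] (p : sp R K ⟶ sp R A) : pt (algOf p) = p :=
  (Misc15.AffinePoints.pt_surjective p).choose_spec

@[simp] theorem algOf_pt {A : Type u} [CommRing A] [Algebra R A] (φ : A →ₐ[R] K) : algOf (pt φ) = φ :=
  pt_injective (pt_algOf _)

theorem algOf_pt_comp {A : Type u} [CommRing A] [Algebra R A] (φ : K →ₐ[R] L) (p : sp R K ⟶ sp R A) :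
    algOf (pt φ ≫ p) = φ.comp (algOf p) := by
  apply pt_injective
  rw [pt_algOf, CoactBr.pt_comp, pt_algOf]

theorem algOf_mul {A : Type u} [CommRing A] [Bialgebra R A] (p q : sp R K ⟶ sp R A) :
    algOf (p * q) = (Algebra.TensorProduct.lift (algOf p) (algOf q) fun _ _ => .all _ _).comp
      (Bialgebra.comulAlgHom R A) := by
  conv_lhs => rw [← pt_algOf p, ← pt_algOf q, pt_mul_pt, algOf_pt]

theorem pt_includeLeft_mul_includeRight {A : Type u} [CommRing A] [Bialgebra R A] :
    pt (Algebra.TensorProduct.includeLeft : A →ₐ[R] A ⊗[R] A) * pt Algebra.TensorProduct.includeRight =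
      pt (Bialgebra.comulAlgHom R A) := by
  rw [pt_mul_pt, Algebra.TensorProduct.lift_includeLeft_includeRight, AlgHom.id_comp]

/-- `Spec` of a map of bialgebras is a homomorphism. -/
theorem isMonHom_pt {A B : Type u} [CommRing A] [CommRing B] [Bialgebra R A] [Bialgebra R B] (φ : A →ₐ[R] B)
    (hu : (Bialgebra.counitAlgHom R B).comp φ = Bialgebra.counitAlgHom R A)
    (hm : (Bialgebra.comulAlgHom R B).comp φ =
      (Algebra.TensorProduct.map φ φ).comp (Bialgebra.comulAlgHom R A)) :
    IsMonHom (pt φ) where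
  one_hom := by
    have h0 : ∀ {X : Over (Spec (CommRingCat.of R))} [MonObj X],
        unitIso.hom ≫ η[X] = (1 : sp R R ⟶ X) := fun {X} _ => by
      rw [Hom.one_def, toUnit_unique (toUnit (sp R R)) (unitIso (R := R)).hom]
    rw [← cancel_epi (unitIso (R := R)).hom, ← Category.assoc, h0, h0, one_eq_pt, one_eq_pt, ← CoactBr.pt_comp,
      AlgHom.comp_assoc, hu]
  mul_hom := by
    haveI := Misc15.AffinePoints.isIso_Q (R := R) B B
    rw [← cancel_epi (Misc15.AffinePoints.Q (R := R) B B), ← Category.assoc, ← Category.assoc,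
      CartesianMonoidalCategory.lift_map, ← Hom.mul_def, ← Hom.mul_def, pt_includeLeft_mul_includeRight,
      ← CoactBr.pt_comp, ← CoactBr.pt_comp, ← CoactBr.pt_comp, pt_mul_pt, hm]
    congr 1
    refine AlgHom.ext fun a => ?_
    simp only [AlgHom.comp_apply]
    generalize (Bialgebra.comulAlgHom R A) a = t
    induction t using TensorProduct.induction_on with
    | zero => simp
    | add x y hx hy => simp only [map_add, hx, hy]
    | tmul x y => simp

/-- `Spec` of a bialgebra equivalence. -/
def spIso {A B : Type u} [CommRing A] [CommRing B] [Algebra R A] [Algebra R B] (φ : A ≃ₐ[R] B) :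
    sp R B ≅ sp R A where
  hom := pt φ.toAlgHom
  inv := pt φ.symm.toAlgHom
  hom_inv_id := by rw [← CoactBr.pt_comp, AlgEquiv.comp_symm, pt_id]
  inv_hom_id := by rw [← CoactBr.pt_comp, AlgEquiv.symm_comp, pt_id]

section BaseChange

variable {k : Type u} [CommRing k] (K : Type u) [CommRing K] [Algebra k K]

variable (k) in
/-- the structure morphism `Spec K ⟶ Spec k` -/
abbrev str : Spec (CommRingCat.of K) ⟶ Spec (CommRingCat.of k) :=
  Spec.map (CommRingCat.ofHom (algebraMap k K))

variable (k) in
/-- `Spec L` over `k`, as the image of `Spec L` over `K`. -/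
def mapIso (L : Type u) [CommRing L] [Algebra K L] [Algebra k L] [IsScalarTower k K L] :
    sp k L ≅ (Over.map (str k K)).obj (sp K L) :=
  Over.isoMk (Iso.refl _) (by
    change 𝟙 _ ≫ Spec.map (CommRingCat.ofHom (algebraMap K L)) ≫ Spec.map (CommRingCat.ofHom (algebraMap k K)) =
      Spec.map (CommRingCat.ofHom (algebraMap k L))
    rw [Category.id_comp, ← Spec.map_comp, ← CommRingCat.ofHom_comp, ← IsScalarTower.algebraMap_eq])

variable {K} {L : Type u} [CommRing L] [Algebra K L] [Algebra k L] [IsScalarTower k K L]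
  {X : Over (Spec (CommRingCat.of k))}

/-- An `L`-point of the base change, as an `L`-point. -/
def down (p : sp K L ⟶ Red.bc (str k K) X) : sp k L ⟶ X :=
  (mapIso k K L).hom ≫ ((Over.mapPullbackAdj (str k K)).homEquiv _ X).symm p

/-- An `L`-point, as an `L`-point of the base change. -/
def up (q : sp k L ⟶ X) : sp K L ⟶ Red.bc (str k K) X :=
  (Over.mapPullbackAdj (str k K)).homEquiv _ X ((mapIso k K L).inv ≫ q)

@[simp] theorem down_up (q : sp k L ⟶ X) : down (up (K := K) q) = q := by
  simp [down, up]

theorem down_left (p : sp K L ⟶ Red.bc (str k K) X) : (down p).left = p.left ≫ pullback.fst X.hom (str k K) := by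
  rw [down, Adjunction.homEquiv_counit]
  change 𝟙 _ ≫ p.left ≫ _ = _
  rw [Category.id_comp]
  rfl

theorem down_injective : Function.Injective (down : (sp K L ⟶ Red.bc (str k K) X) → (sp k L ⟶ X)) := by
  intro p q h
  exact ((Over.mapPullbackAdj (str k K)).homEquiv _ X).symm.injective ((cancel_epi (mapIso k K L).hom).1 h)

theorem down_map {Y : Over (Spec (CommRingCat.of k))} (p : sp K L ⟶ Red.bc (str k K) X) (f : X ⟶ Y) :
    down (p ≫ (Over.pullback (str k K)).map f) = down p ≫ f := by
  rw [down, down, Category.assoc, Adjunction.homEquiv_naturality_right_symm]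

theorem down_pt_comp {L' : Type u} [CommRing L'] [Algebra K L'] [Algebra k L'] [IsScalarTower k K L']
    (φ : L →ₐ[K] L') (p : sp K L ⟶ Red.bc (str k K) X) :
    down (pt φ ≫ p) = pt (φ.restrictScalars k) ≫ down p := by
  apply Over.OverMorphism.ext
  rw [Over.comp_left, down_left, down_left, Over.comp_left, pt_left, pt_left]
  exact Category.assoc _ _ _

theorem down_mul [GrpObj X] (p q : sp K L ⟶ Red.bc (str k K) X) : down (p * q) = down p * down q := by
  have h : ∀ (a b : (Over.map (str k K)).obj (sp K L) ⟶ X),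
      (Over.mapPullbackAdj (str k K)).homEquiv _ X (a * b) =
        (Over.mapPullbackAdj (str k K)).homEquiv _ X a * (Over.mapPullbackAdj (str k K)).homEquiv _ X b := fun a b => by
    rw [Adjunction.homEquiv_unit, Adjunction.homEquiv_unit, Adjunction.homEquiv_unit, Functor.map_mul,
      MonObj.comp_mul]
  rw [down, down, down, ← MonObj.comp_mul]
  congr 1
  apply ((Over.mapPullbackAdj (str k K)).homEquiv _ X).injective
  rw [h]
  simp only [Equiv.apply_symm_apply]

end BaseChange

section MonoidAlgebra

variable (k K : Type u) [CommRing k] [CommRing K] [Algebra k K] (M : Type) [CommGroup M]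

/-- The base change of `Spec k[M]` is `Spec K[M]`, compatibly with the group laws and the projection. -/
theorem exists_bcIso : ∃ e : sp K (MonoidAlgebra K M) ≅ Red.bc (str k K) (sp k (MonoidAlgebra k M)),
    IsMonHom e.hom ∧ down e.hom = pt (MonoidAlgebra.mapAlgHom M (Algebra.ofId k K)) := by
  let φ : K ⊗[k] MonoidAlgebra k M ≃ₐ[K] MonoidAlgebra K M := MonoidAlgebra.scalarTensorEquiv k K
  have hφ : ∀ c, φ ((1 : K) ⊗ₜ[k] MonoidAlgebra.single c 1) = MonoidAlgebra.single c 1 := fun c => by
    simp [φ]
  let b := spIso φ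
  have hb : IsMonHom b.hom := by
    refine isMonHom_pt φ.toAlgHom ?_ ?_
    · refine Algebra.TensorProduct.ext (Subsingleton.elim _ _)
        (MonoidAlgebra.algHom_ext (fun c => ?_) (Subsingleton.elim _ _))
      simp [hφ c]
    · refine Algebra.TensorProduct.ext (Subsingleton.elim _ _)
        (MonoidAlgebra.algHom_ext (fun c => ?_) (Subsingleton.elim _ _))
      simp [hφ c]
  let e := b ≪≫ (bcIso k K (MonoidAlgebra k M)).symm
  haveI hbc : IsMonHom (bcIso k K (MonoidAlgebra k M)).hom := bcIso_isMonHom k K (MonoidAlgebra k M)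
  haveI := hb
  have hinv : IsMonHom (bcIso k K (MonoidAlgebra k M)).inv := inferInstance
  refine ⟨e, inferInstanceAs (IsMonHom (b.hom ≫ (bcIso k K (MonoidAlgebra k M)).inv)), Over.OverMorphism.ext ?_⟩
  rw [down_left, pt_left]
  have h : (bcIso k K (MonoidAlgebra k M)).hom.left =
      (pullbackSymmetry _ _ ≪≫ pullbackSpecIso' k K (MonoidAlgebra k M)).hom := rfl
  change (b.hom ≫ (bcIso k K (MonoidAlgebra k M)).inv).left ≫ _ = _
  have h2 : (bcIso k K (MonoidAlgebra k M)).inv.left =
      (pullbackSymmetry _ _ ≪≫ pullbackSpecIso' k K (MonoidAlgebra k M)).inv := rfl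
  rw [Over.comp_left, h2, Iso.trans_inv]
  erw [Category.assoc, Category.assoc, pullbackSymmetry_inv_comp_fst]
  simp only [pullbackSpecIso', specOverSpec_over]
  erw [pullbackSpecIso_inv_snd]
  change Spec.map (CommRingCat.ofHom φ.toAlgHom.toRingHom) ≫ Spec.map _ = _
  rw [← Spec.map_comp, ← CommRingCat.ofHom_comp]
  congr 2
  refine MonoidAlgebra.ringHom_ext (fun r => ?_) fun c => ?_
  · simp [φ]
  · simp [φ]

/-- `D(M)` over a ring is `Spec` of the group algebra. -/
theorem exists_dsIso (M : Type) [AddCommGroup M] :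
    ∃ e : sp k (MonoidAlgebra k (Multiplicative M)) ≅ Red.DS (Spec (CommRingCat.of k)) M, IsMonHom e.hom := by
  letI : Algebra (ULift.{u} ℤ) k := ((Int.castRingHom k).comp ULift.ringEquiv.toRingHom).toAlgebra
  have hstr : IsTerminal.from specULiftZIsTerminal (Spec (CommRingCat.of k)) = str (ULift.{u} ℤ) k :=
    specULiftZIsTerminal.hom_ext _ _
  unfold Red.DS
  rw [hstr]
  obtain ⟨e, he, -⟩ := exists_bcIso (ULift.{u} ℤ) k (Multiplicative M)
  exact ⟨e, he⟩

end MonoidAlgebra

end Groth.Agent.HopfLib.SpPoints
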