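import Groth.Agent.HopfLib.Subcoalgebra
import Mathlib.RingTheory.HopfAlgebra.Basic
import Mathlib.RingTheory.HopfAlgebra.Convolution
import Mathlib.LinearAlgebra.Matrix.NonsingularInverse
import Mathlib.RingTheory.FiniteType
import Mathlib.LinearAlgebra.FreeModule.Basic

/-!
# Finite subsets of a commutative Hopf algebra lie in finitely generated Hopf subalgebras

Universe-polymorphic. The corepresentation lemmas are those of `SGA3Union.MatrixCorep` (helper26),
restated without the restriction to one universe.
-/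

open TensorProduct Coalgebra

namespace Groth.Agent.HopfLib

universe u v

/-- the universe-polymorphic form of `SGA3.IsHopfSubalgebra` -/
def IsSubHopf (R : Type u) [CommRing R] (A : Type v) [CommRing A] [HopfAlgebra R A] (B : Subalgebra R A) : Prop :=
  (∀ b ∈ B, CoalgebraStruct.comul (R := R) (A := A) b ∈
      LinearMap.range (TensorProduct.map B.val.toLinearMap B.val.toLinearMap)) ∧
    ∀ b ∈ B, HopfAlgebraStruct.antipode (R := R) (A := A) b ∈ B

section Corep

variable {R : Type u} [CommRing R] {A : Type v} [CommRing A] [HopfAlgebra R A]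

variable {d : ℕ} {a : Matrix (Fin d) (Fin d) A}

theorem corep_mul_antipode
    (hΔ : ∀ i j, comul (R := R) (a i j) = ∑ l, a i l ⊗ₜ[R] a l j)
    (hε : ∀ i j, counit (R := R) (a i j) = if i = j then 1 else 0) :
    a * a.map (HopfAlgebra.antipode R) = 1 := by
  ext i j
  have := HopfAlgebra.mul_antipode_lTensor_comul_apply (R := R) (a i j)
  rw [hΔ, hε] at this
  simpa [Matrix.mul_apply, Matrix.one_apply, apply_ite (algebraMap R A)] using this

theorem isUnit_det_corep
    (hΔ : ∀ i j, comul (R := R) (a i j) = ∑ l, a i l ⊗ₜ[R] a l j)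
    (hε : ∀ i j, counit (R := R) (a i j) = if i = j then 1 else 0) : IsUnit a.det :=
  Matrix.isUnit_det_of_right_inverse (corep_mul_antipode hΔ hε)

theorem isSubHopf_adjoin
    (hΔ : ∀ i j, comul (R := R) (a i j) = ∑ l, a i l ⊗ₜ[R] a l j)
    (hε : ∀ i j, counit (R := R) (a i j) = if i = j then 1 else 0) {u : A} (hu : u * a.det = 1) :
    IsSubHopf R A
      (Algebra.adjoin R ((Set.range fun p : Fin d × Fin d => a p.1 p.2) ∪ {u})) := by
  set B := Algebra.adjoin R ((Set.range fun p : Fin d × Fin d => a p.1 p.2) ∪ {u})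
  have ha : ∀ i j, a i j ∈ B := fun i j => Algebra.subset_adjoin (Or.inl ⟨(i, j), rfl⟩)
  have hu' : u ∈ B := Algebra.subset_adjoin (Or.inr rfl)
  have hdet : a.det ∈ B := by
    rw [show a = (Matrix.of fun i j => (⟨a i j, ha i j⟩ : B)).map B.val from rfl,
      ← AlgHom.mapMatrix_apply, ← AlgHom.map_det]
    exact SetLike.coe_mem _
  have hS : a.map (HopfAlgebra.antipode R) = u • a.adjugate := by
    calc a.map (HopfAlgebra.antipode R)
        = (u • a.adjugate) * (a * a.map (HopfAlgebra.antipode R)) := by
          rw [← Matrix.mul_assoc, Matrix.smul_mul, Matrix.adjugate_mul, smul_smul, hu, one_smul,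
            Matrix.one_mul]
      _ = u • a.adjugate := by rw [corep_mul_antipode hΔ hε, Matrix.mul_one]
  have hadj : ∀ i j, a.adjugate i j ∈ B := fun i j => by
    rw [show a = (Matrix.of fun i j => (⟨a i j, ha i j⟩ : B)).map B.val from rfl,
      ← AlgHom.mapMatrix_apply, ← AlgHom.map_adjugate]
    exact SetLike.coe_mem _
  let S := HopfAlgebra.antipodeAlgHom R A
  have hSA : ∀ x, S x = HopfAlgebra.antipode R x := fun x => rfl
  refine ⟨fun b hb => ?_, fun b hb => ?_⟩
  · have hsq : B ≤ (Algebra.TensorProduct.map B.val B.val).range.comap (Bialgebra.comulAlgHom R A) := by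
      refine Algebra.adjoin_le ?_
      rintro x (⟨⟨i, j⟩, rfl⟩ | rfl)
      · refine ⟨∑ l, (⟨a i l, ha i l⟩ : B) ⊗ₜ ⟨a l j, ha l j⟩, ?_⟩
        simp [hΔ]
      · refine ⟨(⟨x, hu'⟩ : B) ⊗ₜ ⟨x, hu'⟩, ?_⟩
        let L : A →ₐ[R] A ⊗[R] A := Algebra.TensorProduct.includeLeft
        let Rr : A →ₐ[R] A ⊗[R] A := Algebra.TensorProduct.includeRight
        have h1 : Bialgebra.comulAlgHom R A a.det = a.det ⊗ₜ a.det := by
          rw [AlgHom.map_det]
          have : (Bialgebra.comulAlgHom R A).mapMatrix a = L.mapMatrix a * Rr.mapMatrix a := by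
            ext i j
            simp [Matrix.mul_apply, hΔ, L, Rr]
          rw [this, Matrix.det_mul, ← AlgHom.map_det, ← AlgHom.map_det]
          simp [L, Rr]
        have h2 : (a.det ⊗ₜ[R] a.det) * (x ⊗ₜ x) = 1 := by
          rw [Algebra.TensorProduct.tmul_mul_tmul, mul_comm, hu]; rfl
        have h3 : Bialgebra.comulAlgHom R A x * (a.det ⊗ₜ a.det) = 1 := by
          rw [← h1, ← map_mul, hu, map_one]
        simpa using (left_inv_eq_right_inv h3 h2).symm
    obtain ⟨t, ht⟩ := hsq hb
    exact ⟨t, ht⟩
  · have : B ≤ B.comap S := by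
      refine Algebra.adjoin_le ?_
      rintro x (⟨⟨i, j⟩, rfl⟩ | rfl)
      · show S (a i j) ∈ B
        rw [hSA, show HopfAlgebra.antipode R (a i j) = u * a.adjugate i j from congrFun (congrFun hS i) j]
        exact mul_mem hu' (hadj i j)
      · show S x ∈ B
        have h1 : S x * S a.det = 1 := by rw [← map_mul, hu, map_one]
        have h2 : S a.det = x := by
          have h3 : a.det * S a.det = 1 := by
            rw [AlgHom.map_det]
            calc a.det * (S.mapMatrix a).det = (a * a.map (HopfAlgebra.antipode R)).det :=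
                  (Matrix.det_mul _ _).symm
              _ = 1 := by rw [corep_mul_antipode hΔ hε, Matrix.det_one]
          exact (left_inv_eq_right_inv hu h3).symm
        rw [h2] at h1
        rw [left_inv_eq_right_inv h1 (by rw [hu] : x * a.det = 1)]
        exact hdet
    exact this hb

end Corep

section Field

variable {k : Type u} [Field k] {A : Type v} [CommRing A] [HopfAlgebra k A]

/-- A finite set lies in the span of the coefficients of a matrix corepresentation. -/
theorem exists_corep_span (s : Set A) (hs : s.Finite) :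
    ∃ (d : ℕ) (a : Matrix (Fin d) (Fin d) A),
      (∀ i j, comul (R := k) (a i j) = ∑ l, a i l ⊗ₜ[k] a l j) ∧
      (∀ i j, counit (R := k) (a i j) = if i = j then 1 else 0) ∧
      s ⊆ Submodule.span k (Set.range fun p : Fin d × Fin d => a p.1 p.2) := by
  classical
  obtain ⟨V, hVfin, hsV, hV⟩ := exists_finite_subcoalgebra (K := k) s hs
  let c := Module.finBasis k V
  let ι := Fin (Module.finrank k V)
  let e : V ⊗[k] A → ι → A := fun t i => TensorProduct.lid k A ((c.coord i).rTensor A t)
  have hexp : ∀ t : V ⊗[k] A, t = ∑ i, c i ⊗ₜ[k] e t i := by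
    intro t
    induction t using TensorProduct.induction_on with
    | zero => simp [e]
    | add p q hp hq =>
      conv_lhs => rw [hp, hq]
      simp [e, tmul_add, Finset.sum_add_distrib]
    | tmul v x =>
      simp only [e, LinearMap.rTensor_tmul, lid_tmul, ← smul_tmul, ← sum_tmul]
      rw [show ∑ i, c.coord i v • c i = v from c.sum_repr v]
  have hcm : ∀ j : ι, ∃ t : V ⊗[k] A, V.subtype.rTensor A t = comul (R := k) (c j : A) := by
    intro j
    obtain ⟨t, ht⟩ := hV _ (c j).2
    refine ⟨V.subtype.lTensor V t, ?_⟩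
    rw [← LinearMap.comp_apply, LinearMap.rTensor_comp_lTensor]
    exact ht
  choose t ht using hcm
  let a : Matrix ι ι A := fun i j => e (t j) i
  have hc : ∀ j, comul (R := k) (c j : A) = ∑ i, (c i : A) ⊗ₜ[k] a i j := by
    intro j
    rw [← ht j]
    conv_lhs => rw [hexp (t j)]
    simp [a]
  have hinj2 : ∀ f g : ι → A ⊗[k] A, ∑ i, (c i : A) ⊗ₜ[k] f i = ∑ i, (c i : A) ⊗ₜ[k] g i → f = g := by
    intro f g h
    funext i
    obtain ⟨φ, hφ⟩ := LinearMap.exists_extend (p := V) (c.coord i)
    have hφ' : ∀ j, φ (c j : A) = if j = i then 1 else 0 := fun j => by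
      rw [show φ (c j : A) = c.coord i (c j) from LinearMap.congr_fun hφ (c j), c.coord_apply,
        c.repr_self, Finsupp.single_apply]
    have := congrArg (fun z : A ⊗[k] (A ⊗[k] A) => TensorProduct.lid k (A ⊗[k] A) (φ.rTensor (A ⊗[k] A) z)) h
    simp only [map_sum, LinearMap.rTensor_tmul, lid_tmul, hφ', ite_smul, one_smul, zero_smul,
      Finset.sum_ite_eq', Finset.mem_univ, if_true] at this
    exact this
  have hε : ∀ i j, counit (R := k) (a i j) = if i = j then 1 else 0 := by
    intro i j
    have h := Coalgebra.lTensor_counit_comul (R := k) (c j : A)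
    rw [hc] at h
    simp only [map_sum, LinearMap.lTensor_tmul] at h
    have h' := congrArg (TensorProduct.rid k A) h
    simp only [map_sum, rid_tmul] at h'
    rw [one_smul] at h'
    have h'' : ∑ l, counit (R := k) (a l j) • c l = c j := Subtype.ext (by simpa using h')
    have := congrArg (c.coord i) h''
    have hci : ∀ l, c.coord i (c l) = if l = i then 1 else 0 := fun l => by
      rw [c.coord_apply, c.repr_self, Finsupp.single_apply]
    rw [map_sum] at this
    simp only [map_smul, hci, smul_eq_mul, mul_ite, mul_one, mul_zero, Finset.sum_ite_eq',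
      Finset.mem_univ, if_true] at this
    rw [Finset.sum_eq_single i (fun l _ hl => if_neg hl) (fun h => absurd (Finset.mem_univ i) h),
      if_pos rfl] at this
    rw [this]
    by_cases hij : i = j
    · rw [if_pos hij, if_pos hij.symm]
    · rw [if_neg hij, if_neg (Ne.symm hij)]
  have hΔ : ∀ i j, comul (R := k) (a i j) = ∑ l, a i l ⊗ₜ[k] a l j := by
    intro i j
    refine congrFun (hinj2 (fun i => comul (R := k) (a i j)) (fun i => ∑ l, a i l ⊗ₜ[k] a l j) ?_) i
    have h := Coalgebra.coassoc_apply (R := k) (c j : A)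
    rw [hc] at h
    simp only [map_sum, LinearMap.rTensor_tmul, LinearMap.lTensor_tmul, hc, sum_tmul,
      TensorProduct.assoc_tmul] at h
    simp only [tmul_sum]
    rw [← h, Finset.sum_comm]
  refine ⟨_, a, hΔ, hε, fun x hx => ?_⟩
  have hx' : ∀ j, (c j : A) ∈ Submodule.span k (Set.range fun p : ι × ι => a p.1 p.2) := by
    intro j
    have h := Coalgebra.rTensor_counit_comul (R := k) (c j : A)
    rw [hc] at h
    simp only [map_sum, LinearMap.rTensor_tmul] at h
    have h' := congrArg (TensorProduct.lid k A) h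
    simp only [map_sum, lid_tmul, one_smul] at h'
    rw [← h']
    exact Submodule.sum_mem _ fun i _ => Submodule.smul_mem _ _ (Submodule.subset_span ⟨(i, j), rfl⟩)
  suffices ∀ y : V, y ∈ Submodule.span k (Set.range c) →
      (y : A) ∈ Submodule.span k (Set.range fun p : ι × ι => a p.1 p.2) from
    this ⟨x, hsV hx⟩ (by rw [c.span_eq]; trivial)
  intro y hy
  induction hy using Submodule.span_induction with
  | mem y hy => obtain ⟨j, rfl⟩ := hy; exact hx' j
  | zero => exact zero_mem _
  | add y z _ _ hy hz => exact add_mem hy hz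
  | smul r y _ hy => exact Submodule.smul_mem _ r hy

/-- A finite set in a commutative Hopf algebra over a field lies in a finitely generated Hopf
subalgebra. -/
theorem exists_fg_isSubHopf (s : Set A) (hs : s.Finite) :
    ∃ B : Subalgebra k A, s ⊆ B ∧ B.FG ∧ IsSubHopf k A B := by
  classical
  obtain ⟨d, a, hΔ, hε, hsa⟩ := exists_corep_span (k := k) s hs
  obtain ⟨w, hw⟩ := isUnit_det_corep hΔ hε
  have hu : (↑w⁻¹ : A) * a.det = 1 := by rw [← hw, Units.inv_mul]
  refine ⟨_, fun x hx => ?_, Subalgebra.fg_def.mpr ⟨_, (Set.finite_range _).union (Set.finite_singleton _), rfl⟩,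
    isSubHopf_adjoin hΔ hε hu⟩
  exact (Submodule.span_le.2 fun y hy => Algebra.subset_adjoin (Or.inl hy) :
    Submodule.span k (Set.range fun p : Fin d × Fin d => a p.1 p.2) ≤
      Subalgebra.toSubmodule (Algebra.adjoin k ((Set.range fun p : Fin d × Fin d => a p.1 p.2) ∪ {(↑w⁻¹ : A)}))) (hsa hx)

end Field

end Groth.Agent.HopfLib
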