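import Groth.Agent.HopfLib.GLnDiag
import Groth.Prelude.Def_AGF
import Mathlib.AlgebraicGeometry.Morphisms.ClosedImmersion

/-!
# Conjugacy of diagonalisable subgroups of `GL_m`: shared lemmas
-/

set_option autoImplicit false
universe u

open CategoryTheory MonoidalCategory CartesianMonoidalCategory MonObj GrpObj AlgebraicGeometry
open scoped TensorProduct
open CoactBr Groth.Agent.HopfLib.SpPoints Groth.Agent.HopfLib.GLnDiag

noncomputable section

namespace Groth.Agent.HopfLib.GLnConj

theorem comp_conjBy {S : Scheme.{u}} {G H T : Over S} [GrpObj G] (g : 𝟙_ (Over S) ⟶ G) (i : H ⟶ G) (p : T ⟶ H) :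
    p ≫ AGF.conjBy g i = (toUnit T ≫ g) * (p ≫ i) * (toUnit T ≫ g)⁻¹ := by
  rw [AGF.conjBy, MonObj.comp_mul, MonObj.comp_mul, GrpObj.comp_inv, ← Category.assoc, toUnit_unique (p ≫ toUnit H) (toUnit T)]

variable {k : Type u} [Field k] {m : ℕ}

theorem mat_conj {L : Type u} [CommRing L] [Algebra k L] (a b : sp k L ⟶ sp k (CoordGrp.GLn m k)) :
    mat (a * b * a⁻¹) * mat a = mat a * mat b := by
  rw [← mat_mul, inv_mul_cancel_right, mat_mul]

theorem mat_toUnit_comp {L : Type u} [CommRing L] [Algebra k L]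
    (g : 𝟙_ (Over (Spec (CommRingCat.of k))) ⟶ sp k (CoordGrp.GLn m k)) :
    mat (toUnit (sp k L) ≫ g) = (mat (unitIso.hom ≫ g)).map (algebraMap k L) := by
  rw [toUnit_eq, Category.assoc, mat_pt_comp]
  rfl

theorem exists_splitIso {M : Type} [AddCommGroup M] {σ : Over (Spec (CommRingCat.of k))} [GrpObj σ]
    (h : Red.IsSplitTorusWith M σ) :
    ∃ e : sp k (MonoidAlgebra k (Multiplicative M)) ≅ σ, IsMonHom e.hom := by
  obtain ⟨E⟩ := h
  obtain ⟨d, hd⟩ := exists_dsIso k M
  haveI : IsMonHom E.inv.hom.hom := inferInstance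
  refine ⟨d ≪≫ ((Grp.forget _).mapIso E).symm, ?_⟩
  show IsMonHom (d.hom ≫ E.inv.hom.hom)
  infer_instance

theorem isSplit_sp (M : Type) [AddCommGroup M] :
    Red.IsSplitTorusWith M (sp k (MonoidAlgebra k (Multiplicative M))) := by
  obtain ⟨d, hd⟩ := exists_dsIso k M
  exact ⟨Grp.mkIso' d⟩

variable {M : Type} [CommGroup M]

theorem map_D_eq {R : Type*} [CommRing R] (φ : MonoidAlgebra k M →+* R) (χ : Fin m → M) :
    (D (F := k) χ).map φ = Matrix.diagonal fun i => φ (MonoidAlgebra.single (χ i) 1) :=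
  Matrix.diagonal_map (map_zero φ)

theorem map_C_map {R : Type*} [CommRing R] (φ : MonoidAlgebra k M →+* R) (g : Matrix (Fin m) (Fin m) k) :
    (g.map (C (M := M))).map φ = g.map (φ.comp C) := Matrix.map_map

/-- The characters of a monomorphism into `GL_m` generate the character group. -/
theorem closure_eq_top {P : Matrix (Fin m) (Fin m) (MonoidAlgebra k M)} {g : Matrix (Fin m) (Fin m) k}
    {χ : Fin m → M} (hg : IsUnit g.det) (hP : P * g.map C = g.map C * D χ)
    (hinj : ∀ (Q : Type) [CommGroup Q] (φ ψ : MonoidAlgebra k M →ₐ[k] MonoidAlgebra k Q),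
      P.map φ = P.map ψ → φ = ψ) :
    Subgroup.closure (Set.range χ) = ⊤ := by
  rw [eq_top_iff]
  intro c _
  let N := Subgroup.closure (Set.range χ)
  let φ : MonoidAlgebra k M →ₐ[k] MonoidAlgebra k (M ⧸ N) :=
    MonoidAlgebra.mapDomainAlgHom k k (QuotientGroup.mk' N)
  let ψ : MonoidAlgebra k M →ₐ[k] MonoidAlgebra k (M ⧸ N) :=
    (Algebra.ofId k _).comp (Bialgebra.counitAlgHom k _)
  have key : ∀ θ : MonoidAlgebra k M →ₐ[k] MonoidAlgebra k (M ⧸ N),
      (∀ i, θ (MonoidAlgebra.single (χ i) 1) = 1) → P.map θ = 1 := by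
    intro θ hθ
    have h := congrArg (fun A : Matrix (Fin m) (Fin m) _ => A.map θ) hP
    simp only [Matrix.map_mul, Matrix.map_map] at h
    have hD : (D (F := k) χ).map θ = 1 := by
      rw [show (D (F := k) χ).map θ = Matrix.diagonal _ from map_D_eq θ.toRingHom χ]
      simp [hθ]
    rw [hD, _root_.mul_one] at h
    have hu : IsUnit (g.map (θ ∘ (C : k →+* MonoidAlgebra k M))) := by
      rw [Matrix.isUnit_iff_isUnit_det]
      have := hg.map (θ.toRingHom.comp (C : k →+* MonoidAlgebra k M))
      rw [RingHom.map_det] at this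
      exact this
    exact hu.mul_eq_right.mp h
  have := hinj (M ⧸ N) φ ψ ((key φ fun i => ?_).trans (key ψ fun i => ?_).symm)
  · have h := congrArg (fun θ => θ (MonoidAlgebra.single c 1)) this
    simp [φ, ψ, MonoidAlgebra.one_def, MonoidAlgebra.single_left_inj] at h
    exact h
  · simp [φ, MonoidAlgebra.one_def,
      (QuotientGroup.eq_one_iff (N := N) (χ i)).2 (Subgroup.subset_closure (Set.mem_range_self i))]
  · simp [ψ, MonoidAlgebra.one_def]

variable (k) in
/-- A family of characters as a homomorphism into `GL_m`. -/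
theorem exists_diagHom [Finite M] (χ : Fin m → M) (hχ : Subgroup.closure (Set.range χ) = ⊤) :
    ∃ i : sp k (MonoidAlgebra k M) ⟶ sp k (CoordGrp.GLn m k),
      IsMonHom i ∧ IsClosedImmersion i.left ∧ mat i = D χ := by
  obtain ⟨i, hi⟩ := exists_mat (k := k) (D (F := k) χ) (isUnit_det_D χ)
  obtain ⟨f, rfl⟩ := Misc15.AffinePoints.pt_surjective i
  have hf : ∀ a b, f (CoordGrp.GLn.X a b) = if a = b then MonoidAlgebra.single (χ a) 1 else 0 := fun a b => by
    have := congrFun (congrFun hi a) b
    rw [mat, algOf_pt] at this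
    exact this.trans (Matrix.diagonal_apply ..)
  refine ⟨pt f, isMonHom_pt f (matA_injective ?_) (matA_injective ?_), ?_, hi⟩
  · ext a b
    rcases eq_or_ne a b with rfl | h <;> simp [matA, hf, CoordGrp.GLn.counit_X, *]
  · ext a b
    simp only [matA, AlgHom.comp_apply, hf, Bialgebra.comulAlgHom_apply, CoordGrp.GLn.comul_X, map_sum,
      Algebra.TensorProduct.map_tmul]
    rw [Finset.sum_eq_single a (fun l _ hl => by simp [Ne.symm hl]) (fun h => absurd (Finset.mem_univ a) h),
      if_pos rfl]
    split_ifs <;> simp [MonoidAlgebra.comul_single]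
  · rw [pt_left]
    refine IsClosedImmersion.spec_of_surjective _ ?_
    show Function.Surjective f
    intro x
    suffices x ∈ f.range by exact this
    induction x using MonoidAlgebra.induction_linear with
    | zero => exact zero_mem _
    | add x y hx hy => exact add_mem hx hy
    | single c r =>
      rw [show MonoidAlgebra.single c r = r • MonoidAlgebra.single c (1 : k) by
        rw [MonoidAlgebra.smul_single, smul_eq_mul, _root_.mul_one]]
      refine Subalgebra.smul_mem _ ?_ r
      have hc : c ∈ Subgroup.closure (Set.range χ) := hχ ▸ Subgroup.mem_top c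
      induction hc using Subgroup.closure_induction with
      | mem x hx => obtain ⟨a, rfl⟩ := hx; exact ⟨CoordGrp.GLn.X a a, by simp [hf]⟩
      | one => exact MonoidAlgebra.one_def (R := k) (M := M) ▸ one_mem f.range
      | mul x y _ _ hx hy => simpa [MonoidAlgebra.single_mul_single] using mul_mem hx hy
      | inv x _ hx =>
        have : x⁻¹ = x ^ (orderOf x - 1) := inv_eq_of_mul_eq_one_right (by
          rw [← pow_succ', Nat.sub_add_cancel (orderOf_pos x), pow_orderOf_eq_one])
        rw [this]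
        simpa [MonoidAlgebra.single_pow] using pow_mem hx (orderOf x - 1)

end Groth.Agent.HopfLib.GLnConj
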