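import Groth.Agent.HopfLib.Cartier
import Mathlib.RingTheory.Ideal.Cotangent
import Mathlib.RingTheory.Localization.AtPrime.Basic

/-!
# Cotangent spaces at rational points: localisation and extension of the base field
-/

universe u v w

open TensorProduct IsLocalRing

namespace Groth.Agent.HopfLib

section Local

variable {k : Type u} [Field k] {A : Type v} [CommRing A] [Algebra k A]

/-- At a rational point the cotangent space of the local ring is `I/I²`. -/
theorem finrank_cotangentSpace_eq (ε : A →ₐ[k] k) (I : Ideal A) [I.IsPrime] (hI : I = RingHom.ker ε) :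
    Module.finrank (ResidueField (Localization.AtPrime I)) (CotangentSpace (Localization.AtPrime I)) =
      Module.finrank k I.Cotangent := by
  let L := Localization.AtPrime I
  let j : A →ₐ[k] L := IsScalarTower.toAlgHom k A L
  have hle : I ≤ (maximalIdeal L).comap j := fun x hx =>
    (IsLocalization.AtPrime.to_map_mem_maximal_iff L I x).2 hx
  let φ : I.Cotangent →ₗ[k] (maximalIdeal L).Cotangent := Ideal.mapCotangent I (maximalIdeal L) j hle
  have hinv : ∀ s : A, s ∉ I → ∃ t i, i ∈ I ∧ s * t + i = 1 := fun s hs => by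
    have h0 : ε s ≠ 0 := fun h => hs (hI ▸ h)
    refine ⟨algebraMap k A (ε s)⁻¹, 1 - s * algebraMap k A (ε s)⁻¹, ?_, by ring⟩
    rw [hI, RingHom.mem_ker, map_sub, map_mul, map_one, AlgHom.commutes]
    simp [h0]
  have hinj : Function.Injective φ := by
    rw [injective_iff_map_eq_zero]
    intro x hx
    obtain ⟨⟨a, ha⟩, rfl⟩ := I.toCotangent_surjective x
    rw [Ideal.toCotangent_eq_zero]
    have h2 : algebraMap A L a ∈ maximalIdeal L ^ 2 := (Ideal.toCotangent_eq_zero _ _).1 hx
    rw [← Localization.AtPrime.map_eq_maximalIdeal, ← Ideal.map_pow,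
      IsLocalization.mem_map_algebraMap_iff I.primeCompl] at h2
    obtain ⟨⟨⟨b, hb⟩, ⟨s, hs⟩⟩, h3⟩ := h2
    rw [← map_mul, IsLocalization.eq_iff_exists I.primeCompl] at h3
    obtain ⟨⟨s', hs'⟩, h4⟩ := h3
    obtain ⟨t, i, hi, hti⟩ := hinv (s' * s) (fun h => (Ideal.IsPrime.mem_or_mem ‹_› h).elim hs' hs)
    have e : a = t * (s' * b) + i * a := by
      have h4' : s' * (a * s) = s' * b := h4
      calc a = ((s' * s) * t + i) * a := by rw [hti, one_mul]
        _ = t * (s' * (a * s)) + i * a := by ring
        _ = t * (s' * b) + i * a := by rw [h4']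
    show a ∈ I ^ 2
    rw [e]
    exact add_mem (Ideal.mul_mem_left _ _ (Ideal.mul_mem_left _ _ hb))
      (sq I ▸ Ideal.mul_mem_mul hi ha)
  have hsurj : Function.Surjective φ := by
    intro y
    obtain ⟨⟨y, hy⟩, rfl⟩ := (maximalIdeal L).toCotangent_surjective y
    obtain ⟨⟨a, ⟨s, hs⟩⟩, hya⟩ := IsLocalization.surj I.primeCompl y
    obtain ⟨t, i, hi, hti⟩ := hinv s hs
    have ha : a ∈ I := by
      have h := Ideal.mul_mem_right (algebraMap A L s) _ hy
      rw [hya] at h
      exact (IsLocalization.AtPrime.to_map_mem_maximal_iff L I a).1 h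
    refine ⟨I.toCotangent ⟨a * t, Ideal.mul_mem_right _ _ ha⟩, ?_⟩
    rw [Ideal.mapCotangent_toCotangent, Ideal.toCotangent_eq]
    show algebraMap A L (a * t) - y ∈ maximalIdeal L ^ 2
    have e : algebraMap A L (a * t) - y = -(y * algebraMap A L i) := by
      have h1 : algebraMap A L s * algebraMap A L t + algebraMap A L i = 1 := by
        rw [← map_mul, ← map_add, hti, map_one]
      rw [map_mul, show algebraMap A L a = y * algebraMap A L s from hya.symm]
      linear_combination y * h1
    rw [e, neg_mem_iff, sq]
    exact Ideal.mul_mem_mul hy (hle hi)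
  rw [(LinearEquiv.ofBijective φ ⟨hinj, hsurj⟩).finrank_eq]
  have hk : Module.finrank k (ResidueField L) = 1 := by
    have hb : Function.Bijective (algebraMap k (ResidueField L)) := by
      refine ⟨(algebraMap k (ResidueField L)).injective, fun z => ?_⟩
      obtain ⟨y, rfl⟩ := IsLocalRing.residue_surjective z
      obtain ⟨⟨a, ⟨s, hs⟩⟩, hya⟩ := IsLocalization.surj I.primeCompl y
      obtain ⟨t, i, hi, hti⟩ := hinv s hs
      refine ⟨ε (a * t), (sub_eq_zero.1 ?_).symm⟩
      rw [IsScalarTower.algebraMap_apply k L (ResidueField L), IsLocalRing.ResidueField.algebraMap_eq, ← map_sub,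
        IsLocalRing.residue_eq_zero_iff, IsScalarTower.algebraMap_apply k A L]
      have h1 : algebraMap A L s * algebraMap A L t + algebraMap A L i = 1 := by
        rw [← map_mul, ← map_add, hti, map_one]
      have e : y - algebraMap A L (algebraMap k A (ε (a * t))) =
          y * algebraMap A L i + algebraMap A L (a * t - algebraMap k A (ε (a * t))) := by
        rw [map_sub (algebraMap A L), map_mul (algebraMap A L),
          show algebraMap A L a = y * algebraMap A L s from hya.symm]
        linear_combination -y * h1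
      rw [e]
      refine add_mem (Ideal.mul_mem_left _ _ (hle hi)) (hle ?_)
      rw [hI, RingHom.mem_ker, map_sub, AlgHom.commutes]
      simp
    exact (LinearEquiv.ofBijective (Algebra.linearMap k (ResidueField L)) hb).finrank_eq.symm.trans
      (Module.finrank_self k)
  haveI : IsScalarTower k (ResidueField L) (CotangentSpace L) := IsScalarTower.of_algebraMap_smul fun r x => by
    rw [IsScalarTower.algebraMap_apply k L (ResidueField L), algebraMap_smul, algebraMap_smul]
  calc Module.finrank (ResidueField L) (CotangentSpace L)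
      = Module.finrank k (ResidueField L) * Module.finrank (ResidueField L) (CotangentSpace L) := by
        rw [hk, one_mul]
    _ = Module.finrank k (CotangentSpace L) := Module.finrank_mul_finrank _ _ _

end Local

section BaseChange

variable {k : Type u} [Field k] {A : Type v} [CommRing A] [Algebra k A] (K : Type w) [Field K] [Algebra k K]

/-- The cotangent space at a rational point commutes with extension of the base field. -/
theorem finrank_cotangent_baseChange (ε : A →ₐ[k] k) (ε' : K ⊗[k] A →ₐ[K] K)
    (hε : ∀ a, ε' ((1 : K) ⊗ₜ[k] a) = algebraMap k K (ε a))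
    (I : Ideal A) (hI : I = RingHom.ker ε) (I' : Ideal (K ⊗[k] A)) (hI' : I' = RingHom.ker ε') :
    Module.finrank K I'.Cotangent = Module.finrank k I.Cotangent := by
  let π₀ : A →ₗ[k] I := LinearMap.codRestrict (I.restrictScalars k)
    (LinearMap.id - (Algebra.linearMap k A) ∘ₗ ε.toLinearMap) fun a => by
      rw [Submodule.restrictScalars_mem, hI, RingHom.mem_ker]
      simp
  let π : A →ₗ[k] I.Cotangent := (I.toCotangent.restrictScalars k) ∘ₗ π₀
  have hπ : ∀ a b, π (a * b) = ε a • π b + ε b • π a := fun a b => by
    have key : ∀ (x y z : I) (r s : k), ((x : A) - (r • (y : A) + s • (z : A))) ∈ I ^ 2 →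
        I.toCotangent x = r • I.toCotangent y + s • I.toCotangent z := fun x y z r s h => by
      rw [← LinearMap.map_smul_of_tower, ← LinearMap.map_smul_of_tower, ← map_add, Ideal.toCotangent_eq]
      exact h
    refine key _ _ _ _ _ ?_
    show (a * b - algebraMap k A (ε (a * b))) -
      (ε a • (b - algebraMap k A (ε b)) + ε b • (a - algebraMap k A (ε a))) ∈ I ^ 2
    rw [map_mul, map_mul, Algebra.smul_def, Algebra.smul_def, sq]
    have e : a * b - algebraMap k A (ε a) * algebraMap k A (ε b) -
        (algebraMap k A (ε a) * (b - algebraMap k A (ε b)) + algebraMap k A (ε b) * (a - algebraMap k A (ε a))) =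
        (a - algebraMap k A (ε a)) * (b - algebraMap k A (ε b)) := by ring
    rw [e]
    exact Ideal.mul_mem_mul (π₀ a).2 (π₀ b).2
  let g₀ : K ⊗[k] A →ₗ[K] K ⊗[k] I.Cotangent := π.baseChange K
  have hg : ∀ x y, g₀ (x * y) = ε' x • g₀ y + ε' y • g₀ x := by
    intro x y
    induction x using TensorProduct.induction_on with
    | zero => simp
    | add p q hp hq =>
      simp only [add_mul, map_add, add_smul, smul_add, hp, hq]
      abel
    | tmul c a =>
      induction y using TensorProduct.induction_on with
      | zero => simp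
      | add p q hp hq =>
        simp only [mul_add, map_add, add_smul, smul_add, hp, hq]
        abel
      | tmul d b =>
        have h1 : ∀ (c : K) a, ε' (c ⊗ₜ[k] a) = c * algebraMap k K (ε a) := fun c a => by
          rw [← hε, ← smul_eq_mul, ← map_smul, TensorProduct.smul_tmul', smul_eq_mul, mul_one]
        simp only [g₀, Algebra.TensorProduct.tmul_mul_tmul, LinearMap.baseChange_tmul, hπ, TensorProduct.tmul_add, h1,
          TensorProduct.tmul_smul, TensorProduct.smul_tmul', smul_eq_mul, Algebra.smul_def]
        rw [show algebraMap k K (ε a) * (c * d) = c * algebraMap k K (ε a) * d by ring,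
          show algebraMap k K (ε b) * (c * d) = d * algebraMap k K (ε b) * c by ring]
  have hker : ∀ x ∈ I' ^ 2, g₀ x = 0 := fun x hx => by
    rw [sq] at hx
    induction hx using Submodule.mul_induction_on' with
    | mem_mul_mem u hu v hv =>
      rw [hI', RingHom.mem_ker] at hu hv
      rw [hg, hu, hv, zero_smul, zero_smul, add_zero]
    | add u _ v _ hu hv => rw [map_add, hu, hv, add_zero]
  let Ψ : I'.Cotangent →ₗ[K] K ⊗[k] I.Cotangent := Submodule.liftQ
    ((I' • ⊤ : Submodule (K ⊗[k] A) I').restrictScalars K) (g₀ ∘ₗ (I'.subtype.restrictScalars K)) (fun x hx => by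
      refine hker _ ?_
      exact (I'.toCotangent_eq_zero x).1 ((Submodule.Quotient.mk_eq_zero _).2 hx))
    |>.comp (Submodule.Quotient.restrictScalarsEquiv K (I' • ⊤ : Submodule (K ⊗[k] A) I')).symm.toLinearMap
  have hle : I ≤ I'.comap (Algebra.TensorProduct.includeRight : A →ₐ[k] K ⊗[k] A) := fun a ha => by
    rw [hI', Ideal.mem_comap, RingHom.mem_ker]
    rw [hI, RingHom.mem_ker] at ha
    simp [hε, ha]
  let Φ : K ⊗[k] I.Cotangent →ₗ[K] I'.Cotangent := LinearMap.liftBaseChange K
    (Ideal.mapCotangent I I' (Algebra.TensorProduct.includeRight : A →ₐ[k] K ⊗[k] A) hle)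
  have hΨΦ : ∀ z, Ψ (Φ z) = z := fun z => by
    induction z using TensorProduct.induction_on with
    | zero => simp
    | add p q hp hq => simp only [map_add, hp, hq]
    | tmul c x =>
      obtain ⟨⟨a, ha⟩, rfl⟩ := I.toCotangent_surjective x
      simp only [Φ, LinearMap.liftBaseChange_tmul, map_smul, Ideal.mapCotangent_toCotangent]
      show c • g₀ ((1 : K) ⊗ₜ[k] a) = _
      rw [LinearMap.baseChange_tmul, TensorProduct.smul_tmul', smul_eq_mul, mul_one]
      congr 1
      show I.toCotangent (π₀ a) = _
      congr 1
      refine Subtype.ext ?_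
      have : ε a = 0 := by rwa [hI, RingHom.mem_ker] at ha
      show a - algebraMap k A (ε a) = a
      rw [this, map_zero, sub_zero]
  have hΦ : Function.Surjective Φ := fun y => by
    obtain ⟨⟨z, hz⟩, rfl⟩ := I'.toCotangent_surjective y
    let h₀ : K ⊗[k] A →ₗ[K] K ⊗[k] A :=
      LinearMap.id - (Algebra.linearMap K (K ⊗[k] A)) ∘ₗ ε'.toLinearMap
    have key : ∀ x, ∃ w, ∀ hx, Φ w = I'.toCotangent ⟨h₀ x, hx⟩ := by
      have hmem : ∀ x, h₀ x ∈ I' := fun x => by
        rw [hI', RingHom.mem_ker]
        show ε' (x - algebraMap K (K ⊗[k] A) (ε' x)) = 0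
        rw [map_sub, AlgHom.commutes]; simp
      intro x
      induction x using TensorProduct.induction_on with
      | zero => exact ⟨0, fun hx => by simp only [map_zero]; exact (map_zero _).symm⟩
      | add p q hp hq =>
        obtain ⟨u, hu⟩ := hp; obtain ⟨v, hv⟩ := hq
        refine ⟨u + v, fun hx => ?_⟩
        rw [map_add, hu (hmem p), hv (hmem q), ← map_add]
        congr 1
        exact Subtype.ext (map_add h₀ p q).symm
      | tmul c a =>
        refine ⟨c ⊗ₜ π a, fun hx => ?_⟩
        simp only [Φ, LinearMap.liftBaseChange_tmul]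
        show c • Ideal.mapCotangent I I' _ hle (I.toCotangent (π₀ a)) = _
        rw [Ideal.mapCotangent_toCotangent, ← LinearMap.map_smul_of_tower]
        congr 1
        refine Subtype.ext ?_
        show c • ((1 : K) ⊗ₜ[k] (a - algebraMap k A (ε a))) = c ⊗ₜ[k] a - algebraMap K (K ⊗[k] A) (ε' (c ⊗ₜ[k] a))
        rw [tmul_sub, smul_sub, TensorProduct.smul_tmul', smul_eq_mul, mul_one,
          show (c ⊗ₜ[k] a : K ⊗[k] A) = c • ((1 : K) ⊗ₜ[k] a) by rw [TensorProduct.smul_tmul', smul_eq_mul, mul_one],
          map_smul, hε, Algebra.TensorProduct.algebraMap_apply, smul_eq_mul]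
        congr 1
        rw [TensorProduct.smul_tmul', smul_eq_mul, mul_one, Algebra.algebraMap_eq_smul_one,
          TensorProduct.tmul_smul, TensorProduct.smul_tmul', Algebra.algebraMap_eq_smul_one]
        simp [Algebra.smul_def, mul_comm]
    obtain ⟨w, hw⟩ := key z
    have hz0 : ε' z = 0 := by rwa [hI', RingHom.mem_ker] at hz
    have hz' : h₀ z = z := by simp [h₀, hz0]
    refine ⟨w, ?_⟩
    rw [hw (hz'.symm ▸ hz)]
    congr 1
    exact Subtype.ext hz'
  rw [← (LinearEquiv.ofBijective Φ ⟨Function.LeftInverse.injective hΨΦ, hΦ⟩).finrank_eq,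
    Module.finrank_baseChange]

end BaseChange

section Group

open HopfRep

variable {k : Type u} [Field k] {A : Type u} [CommRing A] [HopfAlgebra k A]

local notation "εI" => RingHom.ker (Bialgebra.counitAlgHom k A)

variable [IsAlgClosed k] [Algebra.FiniteType k A]

/-- Rational points are moved to the origin by automorphisms of the scheme. -/
theorem exists_translate (g : A →ₐ[k] k) :
    ∃ τ : A ≃ₐ[k] A, RingHom.ker g = Ideal.comap τ.toAlgHom εI := by
  refine ⟨AlgEquiv.ofBijective (actAlgHom (R := A) g) (actAlgHom_bijective g), ?_⟩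
  ext a
  rw [Ideal.mem_comap, RingHom.mem_ker, RingHom.mem_ker]
  have h : Bialgebra.counitAlgHom k A (actAlgHom (R := A) g a) = g a := by
    simp only [actAlgHom, AlgHom.comp_apply, GLin.coactAlgHom_apply, Bialgebra.counitAlgHom_apply]
    rw [show Comod.coact (k := k) (A := A) a = CoalgebraStruct.comul (R := k) a from rfl]
    have h := congrArg (fun t => g (TensorProduct.lid k A t)) (Coalgebra.rTensor_counit_comul (R := k) a)
    simp only [TensorProduct.lid_tmul, one_smul] at h
    refine Eq.trans ?_ h
    generalize CoalgebraStruct.comul (R := k) a = t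
    induction t using TensorProduct.induction_on with
    | zero => simp
    | add p q hp hq => simp only [map_add, hp, hq]
    | tmul p q => simp [mul_comm]
  exact (Eq.congr_left h).symm

theorem localRing_equiv_of_comap {A : Type u} [CommRing A] (τ : A ≃+* A) (m I : Ideal A) [m.IsPrime] [I.IsPrime]
    (h : m = I.comap τ.toRingHom) : Nonempty (Localization.AtPrime m ≃+* Localization.AtPrime I) := by
  have hmap : m.primeCompl.map τ.toMonoidHom = I.primeCompl := by
    ext b
    constructor
    · rintro ⟨a, ha, rfl⟩
      exact fun hb => ha (by rw [h]; exact hb)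
    · intro hb
      exact ⟨τ.symm b, fun ha => hb (by rw [h] at ha; simpa using ha), τ.apply_symm_apply b⟩
  exact ⟨IsLocalization.ringEquivOfRingEquiv (M := m.primeCompl) (T := I.primeCompl) (Localization.AtPrime m)
      (Localization.AtPrime I) τ hmap⟩

/-- Regularity at one point gives regularity everywhere. -/
theorem isRegular_of_counit (I : Ideal A) [I.IsPrime] (hI : I = εI)
    [IsRegularLocalRing (Localization.AtPrime I)] (m : Ideal A) [hm : m.IsMaximal] :
    IsRegularLocalRing (Localization.AtPrime m) := by
  obtain ⟨g, hg⟩ := exists_algHom_le_ker (k := k) hm.ne_top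
  obtain ⟨τ, hτ⟩ := exists_translate g
  obtain ⟨e⟩ := localRing_equiv_of_comap τ.toRingEquiv m I (by
    rw [hm.eq_of_le (RingHom.ker_ne_top _) hg, hτ, hI]; rfl)
  exact IsRegularLocalRing.of_ringEquiv e.symm

/-- A group is smooth as soon as it is regular at the origin. -/
theorem formallySmooth_iff_regular_counit (I : Ideal A) [I.IsMaximal] (hI : I = εI) :
    Algebra.FormallySmooth k A ↔ IsRegularLocalRing (Localization.AtPrime I) := by
  constructor
  · intro h
    have : Algebra.FormallySmooth k (Localization.AtPrime I) :=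
      .comp k A (Localization.AtPrime I)
    exact (AlgSpLib.SmoothField.isSmoothAt_iff_regular k A I).1 this
  · intro h
    have hfp : Algebra.FinitePresentation k A := Algebra.FinitePresentation.of_finiteType.1 inferInstance
    rw [← Algebra.smoothLocus_eq_univ_iff, Set.eq_univ_iff_forall]
    intro p
    obtain ⟨m, hm, hle⟩ := p.asIdeal.exists_le_maximal p.isPrime.ne_top
    have h : (⟨m, hm.isPrime⟩ : PrimeSpectrum A) ∈ Algebra.smoothLocus k A :=
      (AlgSpLib.SmoothField.isSmoothAt_iff_regular k A m).2 (isRegular_of_counit I hI m)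
    exact ((PrimeSpectrum.le_iff_specializes p ⟨m, hm.isPrime⟩).1 hle).mem_open Algebra.isOpen_smoothLocus h

/-- `dim G ≤ dim T_e G`, with equality exactly for smooth groups (algebraically closed field). -/
theorem dim_le_cotangent_and_iff :
    ringKrullDim A ≤ (Module.finrank k (εI).Cotangent : WithBot ℕ∞) ∧
      (ringKrullDim A = (Module.finrank k (εI).Cotangent : WithBot ℕ∞) ↔ Algebra.FormallySmooth k A) := by
  have hmax : (εI).IsMaximal := RingHom.ker_isMaximal_of_surjective _ fun c =>
    ⟨algebraMap k A c, by simp⟩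
  have : IsNoetherianRing A := Algebra.FiniteType.isNoetherianRing k A
  rw [formallySmooth_iff_regular_counit εI rfl, ← ringKrullDim_localization_eq (k := k) εI,
    ← finrank_cotangentSpace_eq (Bialgebra.counitAlgHom k A) εI rfl]
  refine ⟨?_, ?_⟩
  · rw [← spanFinrank_maximalIdeal_eq_finrank_cotangentSpace]
    exact ringKrullDim_le_spanFinrank_maximalIdeal _
  · rw [IsRegularLocalRing.iff_finrank_cotangentSpace]
    exact eq_comm

end Group

end Groth.Agent.HopfLib

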