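import Groth.Agent.HopfLib.Tame
import Mathlib.RingTheory.TensorProduct.Maps
import Mathlib.RingTheory.HopfAlgebra.TensorProduct
import Mathlib.RingTheory.Coalgebra.TensorProduct
import Mathlib.RingTheory.Noetherian.Basic

/-!
# Complements on integrals: splittings over a ring, base change, invariant rings
-/

open TensorProduct HopfRep

universe u v w

namespace Groth.Agent.HopfLib

set_option linter.unusedSectionVars false
set_option maxHeartbeats 400000

section Split

variable {k : Type u} [CommRing k] {A : Type v} [CommRing A] [HopfAlgebra k A]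
  {V : Type w} [AddCommGroup V] [Module k V] [Comod k A V]

/-- A subcomodule which is a linear direct summand has a subcomodule complement. -/
theorem exists_isCompl_subcomod {α : A →ₗ[k] k} (hα : IsIntegral α) (h1 : α 1 = 1) {W : Submodule k V}
    (hW : IsSubcomod (k := k) (A := A) W) (hsplit : ∃ W' : Submodule k V, IsCompl W W') :
    ∃ W' : Submodule k V, IsSubcomod (k := k) (A := A) W' ∧ IsCompl W W' := by
  obtain ⟨W', hc⟩ := hsplit
  let P : V →ₗ[k] V := W.subtype ∘ₗ W.projectionOnto W' hc
  have hP : ∀ v, P v ∈ W := fun v => (W.projectionOnto W' hc v).2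
  have hP' : ∀ w ∈ W, P w = w := fun w hw => by
    simp only [P, LinearMap.comp_apply, Submodule.subtype_apply,
      Submodule.projectionOnto_apply_left hc ⟨w, hw⟩]
  let Q : V →ₗ[k] V := avg α ∘ₗ P.rTensor A ∘ₗ Comod.coact
  have hQh : Hoch.IsComodHom A Q := by
    refine LinearMap.ext fun v => ?_
    simp only [Q, LinearMap.comp_apply, coact_avg hα, LinearMap.rTensor_comp]
    congr 1
    have nat : ∀ t : V ⊗[k] A, Hoch.Ind.coactAux k A V (P.rTensor A t) =
        (P.rTensor A).rTensor A (Hoch.Ind.coactAux k A V t) := by
      intro t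
      induction t using TensorProduct.induction_on with
      | zero => simp
      | add p q hp hq => simp only [map_add, hp, hq]
      | tmul x b =>
        simp only [LinearMap.rTensor_tmul, Hoch.Ind.coactAux_tmul]
        generalize Coalgebra.comul (R := k) b = s
        induction s using TensorProduct.induction_on with
        | zero => simp
        | add p q hp hq => simp only [TensorProduct.tmul_add, map_add, hp, hq]
        | tmul y z => simp
    rw [nat]
    congr 1
    exact (TensorProduct.assoc k V A A).symm_apply_eq.2 (coassoc_apply v).symm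
  have hmem : ∀ v, Q v ∈ W := by
    intro v
    simp only [Q, LinearMap.comp_apply]
    generalize Comod.coact (k := k) (A := A) v = t
    induction t using TensorProduct.induction_on with
    | zero => simp
    | add p q hp hq => rw [map_add, map_add]; exact add_mem hp hq
    | tmul x b =>
      rw [LinearMap.rTensor_tmul, avg_tmul]
      exact IsSubcomod.hit_mem hW _ (hP x)
  have hid : ∀ w ∈ W, Q w = w := by
    intro w hw
    simp only [Q, LinearMap.comp_apply]
    have : P.rTensor A (Comod.coact (k := k) (A := A) w) = Comod.coact w := by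
      obtain ⟨s, hs⟩ := hW w hw
      rw [← hs, ← LinearMap.comp_apply, ← LinearMap.rTensor_comp,
        show P ∘ₗ W.subtype = W.subtype from LinearMap.ext fun x => hP' x x.2]
    rw [this, avg_coact h1]
  have hR : Hoch.IsComodHom A (LinearMap.id - Q) := IsComodHom.sub isComodHom_id hQh
  refine ⟨LinearMap.range (LinearMap.id - Q), isSubcomod_range hR, ⟨?_, ?_⟩⟩
  · rw [Submodule.disjoint_def]
    rintro _ hx ⟨y, rfl⟩
    have h := hid _ hx
    simp only [LinearMap.sub_apply, LinearMap.id_apply, map_sub, hid _ (hmem y), sub_self] at h ⊢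
    exact h.symm
  · rw [codisjoint_iff, Submodule.eq_top_iff']
    intro x
    exact Submodule.mem_sup.2 ⟨Q x, hmem x, x - Q x, ⟨x, by simp⟩, add_sub_cancel _ _⟩

end Split

section Algebra

variable {k : Type u} [CommRing k] {A : Type v} [CommRing A] [HopfAlgebra k A]
  (R : Type w) [CommRing R] [Algebra k R] [Comod k A R] [GLin.IsCoactAlg k A R]

theorem exists_totalIntegral_of_integral {α : A →ₗ[k] k} (hα : IsIntegral α) (h1 : α 1 = 1) :
    ∃ β : A →ₗ[k] R, Hoch.IsComodHom A β ∧ β 1 = 1 := by
  refine ⟨Algebra.linearMap k R ∘ₗ α, LinearMap.ext fun a => ?_, by simp [h1]⟩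
  have h0 : LinearMap.rTensor A α (CoalgebraStruct.comul (R := k) a) = α a ⊗ₜ (1 : A) :=
    (LinearMap.congr_fun ((isComodHom_trivial_iff α).2 hα) a).symm
  simp only [LinearMap.comp_apply, LinearMap.rTensor_comp]
  rw [show Comod.coact (k := k) (A := A) a = CoalgebraStruct.comul (R := k) a from rfl, h0,
    LinearMap.rTensor_tmul, Algebra.linearMap_apply, Algebra.algebraMap_eq_smul_one, map_smul,
    GLin.IsCoactAlg.coact_one (k := k) (A := A) (R := R), Algebra.TensorProduct.one_def,
    TensorProduct.smul_tmul']

theorem isNoetherianRing_invariants [IsNoetherianRing R]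
    (htame : ∃ β : A →ₗ[k] R, Hoch.IsComodHom A β ∧ β 1 = 1) :
    IsNoetherianRing (GLin.invariants k A R) := by
  rw [isNoetherianRing_iff, isNoetherian_iff']
  have hR : WellFoundedGT (Ideal R) := isNoetherian_iff'.1 (isNoetherianRing_iff.1 inferInstance)
  exact StrictMono.wellFoundedGT (f := Ideal.map (algebraMap (GLin.invariants k A R) R))
    fun I J hlt => lt_of_le_of_ne (Ideal.map_mono hlt.le) fun heq => hlt.ne (by
      rw [← comap_map_invariants htame I, ← comap_map_invariants htame J, heq])

end Algebra

section Field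

theorem exists_totalIntegral {k : Type u} [Field k] {A : Type v} [CommRing A] [HopfAlgebra k A]
    (hG : IsLinearlyReductive k A) (R : Type w) [CommRing R] [Algebra k R] [Comod k A R]
    [GLin.IsCoactAlg k A R] : ∃ β : A →ₗ[k] R, Hoch.IsComodHom A β ∧ β 1 = 1 := by
  obtain ⟨α, hα, h1⟩ := exists_integral hG
  exact exists_totalIntegral_of_integral R hα h1

end Field

/-! ### Base change -/

section BaseChange

variable {k : Type u} [Field k] {K : Type u} [Field K] [Algebra k K]
  {A : Type u} [CommRing A] [HopfAlgebra k A]

theorem exists_integral_baseChange {α : A →ₗ[k] k} (hα : IsIntegral α) (h1 : α 1 = 1) :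
    ∃ β : K ⊗[k] A →ₗ[K] K, IsIntegral β ∧ β 1 = 1 := by
  let β : K ⊗[k] A →ₗ[K] K :=
    (TensorProduct.AlgebraTensorModule.rid k K K).toLinearMap ∘ₗ α.baseChange K
  have hβ : ∀ (c : K) (a : A), β (c ⊗ₜ a) = α a • c := fun c a => by simp [β]
  refine ⟨β, fun x => ?_, by rw [Algebra.TensorProduct.one_def, hβ, h1, one_smul]⟩
  induction x using TensorProduct.induction_on with
  | zero => simp
  | add p q hp hq => simp only [map_add, add_smul, hp, hq]
  | tmul c a =>
    rw [hβ, TensorProduct.comul_tmul, CommSemiring.comul_apply]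
    have h := congrArg (fun z : A => (c ⊗ₜ[k] z : K ⊗[k] A)) (hα a)
    calc _ = (c ⊗ₜ[k] sliceL α (CoalgebraStruct.comul (R := k) a) : K ⊗[k] A) := by
          rw [show Coalgebra.comul (R := k) a = CoalgebraStruct.comul (R := k) a from rfl]
          generalize CoalgebraStruct.comul (R := k) a = t
          induction t using TensorProduct.induction_on with
          | zero => simp
          | add p q hp hq => simp only [TensorProduct.tmul_add, map_add, hp, hq]
          | tmul y z =>
            simp only [TensorProduct.AlgebraTensorModule.tensorTensorTensorComm_tmul, sliceL_tmul, hβ,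
              TensorProduct.smul_tmul', smul_eq_mul, one_mul]
            rw [smul_mul_assoc, one_mul, TensorProduct.smul_tmul (α y) c z]
      _ = _ := by
          rw [h, Algebra.TensorProduct.one_def, TensorProduct.smul_tmul', smul_eq_mul, mul_one,
            TensorProduct.smul_tmul]

theorem exists_integral_of_baseChange {β : K ⊗[k] A →ₗ[K] K} (hβ : IsIntegral β) (h1 : β 1 = 1) :
    ∃ α : A →ₗ[k] k, IsIntegral α ∧ α 1 = 1 := by
  obtain ⟨ℓ, hℓ⟩ := (Algebra.linearMap k K).exists_leftInverse_of_injective
    (LinearMap.ker_eq_bot.2 (algebraMap k K).injective)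
  let α : A →ₗ[k] k := ℓ ∘ₗ β.restrictScalars k ∘ₗ TensorProduct.mk k K A 1
  have hℓ1 : ℓ 1 = 1 := by simpa using LinearMap.congr_fun hℓ 1
  refine ⟨α, fun a => ?_, by
    simp [α, ← Algebra.TensorProduct.one_def, h1, hℓ1]⟩
  let Ψ : K ⊗[k] A →ₗ[k] A := (TensorProduct.lid k A).toLinearMap ∘ₗ ℓ.rTensor A
  have h := congrArg Ψ (hβ ((1 : K) ⊗ₜ[k] a))
  rw [TensorProduct.comul_tmul, CommSemiring.comul_apply] at h
  calc sliceL α (CoalgebraStruct.comul (R := k) a) = _ := by
        rw [show Coalgebra.comul (R := k) a = CoalgebraStruct.comul (R := k) a from rfl]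
        generalize CoalgebraStruct.comul (R := k) a = t
        induction t using TensorProduct.induction_on with
        | zero => simp
        | add p q hp hq => simp only [TensorProduct.tmul_add, map_add, hp, hq]
        | tmul y z => simp [α, Ψ, TensorProduct.smul_tmul']
    _ = _ := h
    _ = α a • (1 : A) := by simp [Ψ, α, Algebra.TensorProduct.one_def, TensorProduct.smul_tmul']

theorem isLinearlyReductive_baseChange_iff :
    IsLinearlyReductive k A ↔ IsLinearlyReductive K (K ⊗[k] A) := by
  constructor
  · intro h
    obtain ⟨α, hα, h1⟩ := exists_integral h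
    obtain ⟨β, hβ, h1'⟩ := exists_integral_baseChange (K := K) hα h1
    exact isLinearlyReductive_of_integral hβ h1'
  · intro h
    obtain ⟨β, hβ, h1⟩ := exists_integral h
    obtain ⟨α, hα, h1'⟩ := exists_integral_of_baseChange hβ h1
    exact isLinearlyReductive_of_integral hα h1'

end BaseChange

end Groth.Agent.HopfLib
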