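import Groth.Agent.HopfLib.Tame
import Groth.Agent.HopfLib.ReductiveExtra
import Mathlib.RingTheory.HopfAlgebra.Convolution
import Mathlib.RingTheory.Spectrum.Prime.Chevalley
import Mathlib.RingTheory.Jacobson.Ring
import Mathlib.RingTheory.FiniteType
import Mathlib.FieldTheory.IsAlgClosed.Basic

/-!
# Points, orbits and invariants of an action of an affine group on an affine scheme
-/

open TensorProduct HopfRep Coalgebra

universe u v w

namespace Groth.Agent.HopfLib

set_option linter.unusedSectionVars false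
set_option maxHeartbeats 400000

/-- A constructible set with somewhere dense closure has nonempty interior. -/
theorem interior_nonempty_of_isConstructible {X : Type*} [TopologicalSpace X] {s : Set X}
    (hs : Topology.IsConstructible s) :
    (interior (closure s)).Nonempty → (interior s).Nonempty := by
  suffices H : ∀ O : Set X, IsOpen O → ((interior (closure (O ∩ s))).Nonempty → (interior (O ∩ s)).Nonempty) ∧
      ((interior (closure (O ∩ sᶜ))).Nonempty → (interior (O ∩ sᶜ)).Nonempty) by
    simpa using (H Set.univ isOpen_univ).1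
  induction hs using Topology.IsConstructible.empty_union_induction with
  | open_retrocompact U hU _ =>
    refine fun O hO => ⟨fun h => ?_, fun h => ?_⟩
    · rw [(hO.inter hU).interior_eq]
      obtain ⟨x, hx⟩ := h
      exact closure_nonempty_iff.1 ⟨x, interior_subset hx⟩
    · obtain ⟨x, hx⟩ := h
      obtain ⟨y, hy, hy'⟩ := mem_closure_iff.1 (interior_subset hx) _ isOpen_interior hx
      have hsub : interior (closure (O ∩ Uᶜ)) ⊆ Uᶜ := fun z hz =>
        closure_minimal Set.inter_subset_right hU.isClosed_compl (interior_subset hz)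
      exact ⟨y, interior_maximal (Set.inter_subset_inter_right O hsub) (hO.inter isOpen_interior)
        ⟨hy'.1, hy⟩⟩
  | union s _ t _ ihs iht =>
    refine fun O hO => ⟨fun h => ?_, fun h => ?_⟩
    · rw [Set.inter_union_distrib_left] at h ⊢
      rw [closure_union] at h
      by_cases hs0 : (interior (closure (O ∩ s))).Nonempty
      · exact ((ihs O hO).1 hs0).mono (interior_mono Set.subset_union_left)
      · refine (((iht O hO).1 ?_)).mono (interior_mono Set.subset_union_right)
        rw [Set.not_nonempty_iff_eq_empty] at hs0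
        rwa [Set.union_comm, interior_union_isClosed_of_interior_empty isClosed_closure hs0] at h
    · have e : O ∩ (s ∪ t)ᶜ = (O ∩ sᶜ) ∩ tᶜ := by rw [Set.compl_union, Set.inter_assoc]
      rw [e] at h ⊢
      obtain ⟨x, hx⟩ := (ihs O hO).2 (h.mono (interior_mono (closure_mono Set.inter_subset_left)))
      have hO' : IsOpen (interior (closure ((O ∩ sᶜ) ∩ tᶜ))) := isOpen_interior
      obtain ⟨y, hy⟩ := h
      obtain ⟨z, hz, hz'⟩ := mem_closure_iff.1 (interior_subset hy) _ hO' hy
      let W := interior (closure ((O ∩ sᶜ) ∩ tᶜ))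
      have h1 : (interior ((W ∩ O) ∩ sᶜ)).Nonempty := by
        refine (ihs (W ∩ O) (hO'.inter hO)).2 ⟨z, ?_⟩
        refine interior_maximal ?_ (hO'.inter hO) ⟨hz, hz'.1.1⟩
        exact fun p hp => closure_mono (by intro q hq; exact ⟨⟨hq.1, hq.2.1.1⟩, hq.2.1.2⟩)
          (hO'.inter_closure ⟨hp.1, interior_subset hp.1⟩)
      obtain ⟨q, hq⟩ := h1
      let V := interior ((W ∩ O) ∩ sᶜ)
      have hV : V ⊆ (W ∩ O) ∩ sᶜ := interior_subset
      have h2 : (interior (V ∩ tᶜ)).Nonempty := by
        refine (iht V isOpen_interior).2 ⟨q, interior_maximal ?_ isOpen_interior hq⟩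
        exact fun p hp => closure_mono (by intro r hr; exact ⟨hr.1, hr.2.2⟩)
          (isOpen_interior.inter_closure ⟨hp, interior_subset (hV hp).1.1⟩)
      exact h2.mono (interior_mono fun p hp => ⟨⟨(hV hp.1).1.2, (hV hp.1).2⟩, hp.2⟩)
  | compl s _ ih => exact fun O hO => ⟨(ih O hO).2, by rw [compl_compl]; exact (ih O hO).1⟩

/-- The image of a dominant morphism of finite presentation of nonempty spectra contains a
nonempty open set. -/
theorem exists_open_subset_range_comap {B C : Type*} [CommRing B] [CommRing C] (f : B →+* C)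
    (hf : f.FinitePresentation) (hinj : Function.Injective f) [Nontrivial B] :
    ∃ D : Set (PrimeSpectrum B), IsOpen D ∧ D.Nonempty ∧ D ⊆ Set.range (PrimeSpectrum.comap f) := by
  refine ⟨_, isOpen_interior, interior_nonempty_of_isConstructible
    (PrimeSpectrum.isConstructible_range_comap hf) ?_, interior_subset⟩
  have hd : DenseRange (PrimeSpectrum.comap f) := by
    rw [PrimeSpectrum.denseRange_comap_iff_ker_le_nilRadical,
      (RingHom.injective_iff_ker_eq_bot f).1 hinj]
    exact bot_le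
  rw [hd.closure_range, interior_univ]
  exact Set.univ_nonempty

section Nullstellensatz

variable {k : Type u} [Field k] [IsAlgClosed k] {R : Type w} [CommRing R] [Algebra k R]
  [Algebra.FiniteType k R]

theorem exists_algHom_le_ker {I : Ideal R} (hI : I ≠ ⊤) : ∃ x : R →ₐ[k] k, I ≤ RingHom.ker x := by
  obtain ⟨m, hm, hle⟩ := Ideal.exists_le_maximal I hI
  let := Ideal.Quotient.field m
  have : Module.Finite k (R ⧸ m) := finite_of_finite_type_of_isJacobsonRing k (R ⧸ m)
  let e : k ≃ₐ[k] R ⧸ m := AlgEquiv.ofBijective (Algebra.ofId k (R ⧸ m))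
    IsAlgClosed.algebraMap_bijective_of_isIntegral
  refine ⟨e.symm.toAlgHom.comp (Ideal.Quotient.mkₐ k m), fun a ha => ?_⟩
  simp [Ideal.Quotient.eq_zero_iff_mem.2 (hle ha)]

theorem exists_algHom_ne_zero {f : R} (hf : ¬ IsNilpotent f) : ∃ x : R →ₐ[k] k, x f ≠ 0 := by
  have : IsJacobsonRing R := isJacobsonRing_of_finiteType (A := k)
  rw [← mem_nilradical, nilradical, Ideal.radical_eq_jacobson,
    Ideal.jacobson, Ideal.mem_sInf] at hf
  push Not at hf
  obtain ⟨m, ⟨-, hm⟩, hfm⟩ := hf
  obtain ⟨x, hx⟩ := exists_algHom_le_ker (k := k) hm.ne_top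
  refine ⟨x, fun h => hfm ?_⟩
  rw [hm.eq_of_le (RingHom.ker_ne_top x) hx]
  exact h

theorem exists_algHom_mem_of_isOpen {U : Set (PrimeSpectrum R)} (hU : IsOpen U)
    {P : PrimeSpectrum R} (hP : P ∈ U) :
    ∃ x : R →ₐ[k] k, (⟨RingHom.ker x, RingHom.ker_isPrime x⟩ : PrimeSpectrum R) ∈ U := by
  obtain ⟨_, ⟨f, rfl⟩, hPf, hfU⟩ :=
    PrimeSpectrum.isTopologicalBasis_basic_opens.exists_subset_of_mem_open hP hU
  obtain ⟨x, hx⟩ := exists_algHom_ne_zero (k := k) (f := f)
    (fun ⟨n, hn⟩ => hPf (P.isPrime.mem_of_pow_mem n (by rw [hn]; exact P.asIdeal.zero_mem)))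
  exact ⟨x, hfU fun h => hx (RingHom.mem_ker.1 h)⟩

end Nullstellensatz

theorem algHom_eq_of_ker_le {k : Type u} [CommRing k] {R : Type w} [CommRing R] [Algebra k R]
    {x y : R →ₐ[k] k} (h : RingHom.ker x ≤ RingHom.ker y) : x = y := by
  refine AlgHom.ext fun f => ?_
  have h1 : f - algebraMap k R (x f) ∈ RingHom.ker x := by simp [RingHom.mem_ker]
  have h2 := h h1
  rw [RingHom.mem_ker, map_sub, AlgHom.commutes, Algebra.algebraMap_self_apply, sub_eq_zero] at h2
  exact h2.symm

section Orbit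

variable {k : Type u} [Field k] {A : Type v} [CommRing A] [HopfAlgebra k A]
  {R : Type w} [CommRing R] [Algebra k R] [Comod k A R] [GLin.IsCoactAlg k A R]

theorem orbitHom_eq_cf (x : R →ₐ[k] k) (f : R) :
    GLin.orbitHom k A x f = cf (A := A) x.toLinearMap f := by
  simp only [GLin.orbitHom, AlgHom.comp_apply, GLin.coactAlgHom_apply, cf_apply]
  generalize Comod.coact (k := k) (A := A) f = t
  induction t using TensorProduct.induction_on with
  | zero => simp
  | add p q hp hq => simp only [map_add, hp, hq]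
  | tmul a b => simp

theorem isComodHom_orbitHom (x : R →ₐ[k] k) :
    Hoch.IsComodHom A (GLin.orbitHom k A x).toLinearMap := by
  have h : (GLin.orbitHom k A x).toLinearMap = cf (A := A) x.toLinearMap :=
    LinearMap.ext (orbitHom_eq_cf x)
  rw [h]
  exact isComodHom_cf _

theorem isSubcomod_ker_orbitHom (x : R →ₐ[k] k) :
    IsSubcomod (k := k) (A := A) ((RingHom.ker (GLin.orbitHom k A x)).restrictScalars k) :=
  isSubcomod_ker (isComodHom_orbitHom x)

theorem counit_orbitHom (x : R →ₐ[k] k) (f : R) :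
    counit (R := k) (GLin.orbitHom k A x f) = x f := by
  rw [orbitHom_eq_cf, counit_cf]
  rfl

theorem orbitHom_of_mem_invariants (x : R →ₐ[k] k) {f : R} (hf : f ∈ GLin.invariants k A R) :
    GLin.orbitHom k A x f = algebraMap k A (x f) := by
  rw [orbitHom_eq_cf, cf_apply, (GLin.mem_invariants_iff k A R f).1 hf, sliceL_tmul,
    Algebra.algebraMap_eq_smul_one]
  rfl

theorem apply_eq_of_inOrbitClosure {x z : R →ₐ[k] k} (h : GLin.InOrbitClosure k A x z) {f : R}
    (hf : f ∈ GLin.invariants k A R) : z f = x f := by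
  have h1 : f - algebraMap k R (x f) ∈ RingHom.ker (GLin.orbitHom k A x) := by
    simp [RingHom.mem_ker, orbitHom_of_mem_invariants x hf]
  have h2 := h h1
  rwa [RingHom.mem_ker, map_sub, AlgHom.commutes, Algebra.algebraMap_self_apply, sub_eq_zero] at h2

theorem inOrbitClosure_refl (x : R →ₐ[k] k) : GLin.InOrbitClosure k A x x := fun f hf => by
  rw [RingHom.mem_ker] at hf ⊢
  rw [← counit_orbitHom (A := A) x, hf, map_zero]

theorem ker_orbitHom_le {x z : R →ₐ[k] k} (h : GLin.InOrbitClosure k A x z) :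
    RingHom.ker (GLin.orbitHom k A x) ≤ RingHom.ker (GLin.orbitHom k A z) := fun f hf => by
  obtain ⟨t, ht⟩ := isSubcomod_ker_orbitHom (A := A) x f hf
  rw [RingHom.mem_ker, orbitHom_eq_cf, cf_apply, ← ht]
  clear ht
  induction t using TensorProduct.induction_on with
  | zero => simp
  | add p q hp hq => simp only [map_add, hp, hq, add_zero]
  | tmul a b =>
    have : z (a : R) = 0 := h a.2
    simp [this]

theorem inOrbitClosure_trans {x y z : R →ₐ[k] k} (h₁ : GLin.InOrbitClosure k A x y)
    (h₂ : GLin.InOrbitClosure k A y z) : GLin.InOrbitClosure k A x z :=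
  (ker_orbitHom_le h₁).trans h₂

theorem actPt_eq (g : A →ₐ[k] k) (x : R →ₐ[k] k) :
    GLin.actPt k g x = g.comp (GLin.orbitHom k A x) := rfl

theorem inOrbitClosure_actPt (g : A →ₐ[k] k) (x : R →ₐ[k] k) :
    GLin.InOrbitClosure k A x (GLin.actPt k g x) := fun f hf => by
  rw [RingHom.mem_ker] at hf ⊢
  simp [actPt_eq, hf]

theorem actPt_apply (g : A →ₐ[k] k) (x : R →ₐ[k] k) (f : R) :
    GLin.actPt k g x f = x (Comod.act k A R g f) := by
  rw [actPt_eq, AlgHom.comp_apply, orbitHom_eq_cf, cf_apply]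
  simp only [Comod.act, LinearMap.comp_apply, LinearEquiv.coe_coe]
  generalize Comod.coact (k := k) (A := A) f = t
  induction t using TensorProduct.induction_on with
  | zero => simp
  | add p q hp hq => simp only [map_add, hp, hq]
  | tmul a b => simp [mul_comm]

theorem orbitHom_actPt (h : A →ₐ[k] k) (x : R →ₐ[k] k) (f : R) :
    GLin.orbitHom k A (GLin.actPt k h x) f =
      Algebra.TensorProduct.lid k A (Algebra.TensorProduct.map h (AlgHom.id k A)
        (comul (R := k) (GLin.orbitHom k A x f))) := by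
  have hh : Comod.coact (k := k) (A := A) (GLin.orbitHom k A x f) =
      (GLin.orbitHom k A x).toLinearMap.rTensor A (Comod.coact (k := k) (A := A) f) :=
    IsComodHom.coact_apply (isComodHom_orbitHom x) f
  rw [show comul (R := k) (GLin.orbitHom k A x f) =
    Comod.coact (k := k) (A := A) (GLin.orbitHom k A x f) from rfl, hh]
  simp only [GLin.orbitHom, GLin.actPt, AlgHom.comp_apply, GLin.coactAlgHom_apply]
  generalize Comod.coact (k := k) (A := A) f = t
  induction t using TensorProduct.induction_on with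
  | zero => simp
  | add p q hp hq => simp only [map_add, hp, hq]
  | tmul a b => simp; rfl

theorem exists_actPt_trans {x y z : R →ₐ[k] k} (h₁ : ∃ g : A →ₐ[k] k, y = GLin.actPt k g x)
    (h₂ : ∃ g : A →ₐ[k] k, z = GLin.actPt k g y) : ∃ g : A →ₐ[k] k, z = GLin.actPt k g x := by
  obtain ⟨h, rfl⟩ := h₁
  obtain ⟨g, rfl⟩ := h₂
  refine ⟨g.comp ((Algebra.TensorProduct.lid k A).toAlgHom.comp
    ((Algebra.TensorProduct.map h (AlgHom.id k A)).comp (Bialgebra.comulAlgHom k A))),
    AlgHom.ext fun f => ?_⟩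
  rw [actPt_eq g, AlgHom.comp_apply, orbitHom_actPt]
  rfl

theorem actPt_antipode (g : A →ₐ[k] k) (x : R →ₐ[k] k) :
    GLin.actPt k (g.comp (HopfAlgebra.antipodeAlgHom k A)) (GLin.actPt k g x) = x := by
  refine AlgHom.ext fun f => ?_
  rw [actPt_eq (g.comp _), AlgHom.comp_apply, orbitHom_actPt, ← counit_orbitHom (A := A) x f]
  generalize GLin.orbitHom k A x f = a
  have h := congrArg g (HopfAlgebra.mul_antipode_lTensor_comul_apply (R := k) a)
  rw [AlgHom.commutes, Algebra.algebraMap_self_apply] at h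
  refine Eq.trans ?_ h
  generalize comul (R := k) a = t
  induction t using TensorProduct.induction_on with
  | zero => simp
  | add p q hp hq => simp only [map_add, hp, hq]
  | tmul p q => simp

theorem inOrbitClosure_of_eq_actPt {x z : R →ₐ[k] k} {g : A →ₐ[k] k} (h : z = GLin.actPt k g x) :
    GLin.InOrbitClosure k A z x := by
  subst h
  have h := inOrbitClosure_actPt (g.comp (HopfAlgebra.antipodeAlgHom k A)) (GLin.actPt k g x)
  rwa [actPt_antipode] at h

theorem exists_eq_actPt_symm {x z : R →ₐ[k] k} (h : ∃ g : A →ₐ[k] k, z = GLin.actPt k g x) :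
    ∃ g : A →ₐ[k] k, x = GLin.actPt k g z := by
  obtain ⟨g, rfl⟩ := h
  exact ⟨_, (actPt_antipode g x).symm⟩

/-- The orbit of `x` contains all the rational points of its closure. -/
def IsClosedPtOrbit (k : Type u) [Field k] (A : Type v) [CommRing A] [HopfAlgebra k A]
    {R : Type w} [CommRing R] [Algebra k R] [Comod k A R] [GLin.IsCoactAlg k A R]
    (x : R →ₐ[k] k) : Prop :=
  ∀ z : R →ₐ[k] k, GLin.InOrbitClosure k A x z → ∃ g : A →ₐ[k] k, z = GLin.actPt k g x

theorem IsClosedPtOrbit.mem_closure {x z : R →ₐ[k] k} (hx : IsClosedPtOrbit k A x)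
    (h : GLin.InOrbitClosure k A x z) : GLin.InOrbitClosure k A z x := by
  obtain ⟨g, hg⟩ := hx z h
  exact inOrbitClosure_of_eq_actPt hg

section AlgClosed

variable [IsAlgClosed k] [Algebra.FiniteType k A]

theorem forall_vanishing_iff_inOrbitClosure (x z : R →ₐ[k] k) :
    (∀ f : R, (∀ g : A →ₐ[k] k, x (Comod.act k A R g f) = 0) → z f = 0) ↔
      GLin.InOrbitClosure k A x z := by
  simp only [← actPt_apply, actPt_eq, AlgHom.comp_apply]
  refine ⟨fun h f hf => ?_, fun h f hf => ?_⟩
  · exact h f fun g => by rw [RingHom.mem_ker.1 hf, map_zero]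
  · have hn : IsNilpotent (GLin.orbitHom k A x f) := by
      by_contra hc
      obtain ⟨g, hg⟩ := exists_algHom_ne_zero (k := k) hc
      exact hg (hf g)
    obtain ⟨n, hn⟩ := hn
    have : z (f ^ n) = 0 := h (RingHom.mem_ker.2 (by rw [map_pow, hn]))
    rw [map_pow] at this
    exact eq_zero_of_pow_eq_zero this

theorem isClosedPtOrbit_iff (x : R →ₐ[k] k) :
    (∀ z : R →ₐ[k] k, (∀ f : R, (∀ g : A →ₐ[k] k, x (Comod.act k A R g f) = 0) → z f = 0) →
      ∃ g : A →ₐ[k] k, ∀ f : R, z f = x (Comod.act k A R g f)) ↔ IsClosedPtOrbit k A x := by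
  simp only [forall_vanishing_iff_inOrbitClosure, IsClosedPtOrbit, AlgHom.ext_iff, actPt_apply]

theorem exists_actPt_of_comap_le (x z : R →ₐ[k] k) {P : Ideal A} (hP : P ≠ ⊤)
    (h : RingHom.ker z ≤ P.comap (GLin.orbitHom k A x)) : ∃ g : A →ₐ[k] k, z = GLin.actPt k g x := by
  obtain ⟨g, hg⟩ := exists_algHom_le_ker (k := k) hP
  exact ⟨g, algHom_eq_of_ker_le (h.trans fun f hf => RingHom.mem_ker.2 (hg hf))⟩

theorem isClosedPtOrbit_of_isClosedOrbit {x : R →ₐ[k] k} (hx : GLin.IsClosedOrbit k A x) :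
    IsClosedPtOrbit k A x := by
  intro z hz
  let q : PrimeSpectrum R := ⟨RingHom.ker z, RingHom.ker_isPrime z⟩
  have hq : q ∈ closure (Set.range (PrimeSpectrum.comap (GLin.orbitHom k A x).toRingHom)) := by
    rw [PrimeSpectrum.closure_range_comap, PrimeSpectrum.mem_zeroLocus]
    exact hz
  rw [IsClosed.closure_eq hx] at hq
  obtain ⟨P, hP⟩ := hq
  exact exists_actPt_of_comap_le x z P.isPrime.ne_top (congrArg PrimeSpectrum.asIdeal hP).ge

variable [Algebra.FiniteType k R]

/-- An orbit of maximal kernel in an orbit closure is closed. -/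
theorem exists_isClosedPtOrbit (x : R →ₐ[k] k) :
    ∃ y : R →ₐ[k] k, GLin.InOrbitClosure k A x y ∧ IsClosedPtOrbit k A y := by
  have : IsNoetherianRing R := Algebra.FiniteType.isNoetherianRing k R
  obtain ⟨_, ⟨y, hy, rfl⟩, hmax⟩ := set_has_maximal_iff_noetherian.2 ‹IsNoetherianRing R›
    ((fun z => RingHom.ker (GLin.orbitHom k A z)) '' {z | GLin.InOrbitClosure k A x z})
    ⟨_, x, inOrbitClosure_refl x, rfl⟩
  refine ⟨y, hy, fun z hz => ?_⟩
  have heq : RingHom.ker (GLin.orbitHom k A y) = RingHom.ker (GLin.orbitHom k A z) :=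
    eq_of_le_of_not_lt (ker_orbitHom_le hz) (hmax _ ⟨z, inOrbitClosure_trans hy hz, rfl⟩)
  let K := RingHom.ker (GLin.orbitHom k A y)
  let f : R ⧸ K →ₐ[k] A := Ideal.kerLiftAlg (GLin.orbitHom k A y)
  have hfi : Function.Injective f := Ideal.kerLiftAlg_injective _
  have : IsNoetherianRing (R ⧸ K) := inferInstance
  have : Nontrivial A := (Bialgebra.counitAlgHom k A).toRingHom.domain_nontrivial
  have : Nontrivial (R ⧸ K) := Ideal.Quotient.nontrivial_iff.2 (RingHom.ker_ne_top _)
  let := f.toRingHom.toAlgebra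
  have : IsScalarTower k (R ⧸ K) A := IsScalarTower.of_algebraMap_eq fun c => (f.commutes c).symm
  have : Algebra.FiniteType (R ⧸ K) A := Algebra.FiniteType.of_restrictScalars_finiteType k _ _
  have hfp : f.toRingHom.FinitePresentation :=
    RingHom.FinitePresentation.of_finiteType.1 (RingHom.finiteType_algebraMap.2 this)
  obtain ⟨D, hD, hDne, hDr⟩ := exists_open_subset_range_comap f.toRingHom hfp hfi
  let fz : R ⧸ K →ₐ[k] A := Ideal.Quotient.liftₐ K (GLin.orbitHom k A z) fun a ha => RingHom.mem_ker.1 (heq.le ha)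
  have hfzi : Function.Injective fz := by
    rw [injective_iff_map_eq_zero]
    intro a
    obtain ⟨a, rfl⟩ := Ideal.Quotient.mk_surjective a
    intro ha
    exact Ideal.Quotient.eq_zero_iff_mem.2 (heq.ge (RingHom.mem_ker.2 ha))
  have hd : DenseRange (PrimeSpectrum.comap fz.toRingHom) := by
    rw [PrimeSpectrum.denseRange_comap_iff_ker_le_nilRadical,
      (RingHom.injective_iff_ker_eq_bot fz.toRingHom).1 hfzi]
    exact bot_le
  obtain ⟨P, hqD⟩ := hd.exists_mem_open hD hDne
  obtain ⟨M, hMD⟩ := exists_algHom_mem_of_isOpen (k := k)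
    (hD.preimage (PrimeSpectrum.continuous_comap fz.toRingHom)) (show P ∈ _ from hqD)
  obtain ⟨P', hP'⟩ := hDr hMD
  obtain ⟨g', hg'⟩ := exists_actPt_of_comap_le y (GLin.actPt k M z) P'.isPrime.ne_top fun a ha => by
    have h2 : Ideal.Quotient.mk K a ∈ (PrimeSpectrum.comap fz.toRingHom
        ⟨RingHom.ker M, RingHom.ker_isPrime M⟩).asIdeal := ha
    rw [← hP'] at h2
    exact h2
  refine exists_actPt_trans ⟨g', hg'⟩ (exists_eq_actPt_symm ⟨M, rfl⟩)

/-- Invariants lift: a point of the quotient vanishing on the invariants in a stable ideal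
comes from a point killing the ideal. -/
theorem exists_point_over (htame : ∃ α : A →ₗ[k] R, Hoch.IsComodHom A α ∧ α 1 = 1)
    {I : Ideal R} (hI : IsSubcomod (k := k) (A := A) (I.restrictScalars k))
    (y : GLin.invariants k A R →ₐ[k] k)
    (hy : ∀ f : GLin.invariants k A R, (f : R) ∈ I → y f = 0) :
    ∃ x : R →ₐ[k] k, I ≤ RingHom.ker x ∧ x.comp (GLin.invariants k A R).val = y := by
  have : (RingHom.ker y).IsPrime := RingHom.ker_isPrime y
  obtain ⟨q, hq, hle, hqp⟩ := exists_prime_over_of_le htame hI (p := RingHom.ker y)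
    fun f hf => RingHom.mem_ker.2 (hy f hf)
  obtain ⟨x, hx⟩ := exists_algHom_le_ker (k := k) hq.ne_top
  refine ⟨x, hle.trans hx, (algHom_eq_of_ker_le fun f hf => ?_).symm⟩
  rw [← hqp] at hf
  exact RingHom.mem_ker.2 (hx (Ideal.mem_comap.1 hf))

/-- Two points have the same invariants iff their orbit closures meet. -/
theorem comp_invariants_eq_iff (hG : IsLinearlyReductive k A) (x₁ x₂ : R →ₐ[k] k) :
    x₁.comp (GLin.invariants k A R).val = x₂.comp (GLin.invariants k A R).val ↔
      ∃ z : R →ₐ[k] k, GLin.InOrbitClosure k A x₁ z ∧ GLin.InOrbitClosure k A x₂ z := by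
  refine ⟨fun h => ?_, fun ⟨z, h₁, h₂⟩ => AlgHom.ext fun f => ?_⟩
  · obtain ⟨α, hα, h1⟩ := exists_totalIntegral hG R
    let I₁ := RingHom.ker (GLin.orbitHom k A x₁)
    let I₂ := RingHom.ker (GLin.orbitHom k A x₂)
    have hI : IsSubcomod (k := k) (A := A) ((I₁ ⊔ I₂).restrictScalars k) := by
      rw [Submodule.restrictScalars_sup]
      exact isSubcomod_sup (isSubcomod_ker_orbitHom x₁) (isSubcomod_ker_orbitHom x₂)
    obtain ⟨z, hz, -⟩ := exists_point_over (I := I₁ ⊔ I₂) ⟨α, hα, h1⟩ hI
      (x₁.comp (GLin.invariants k A R).val) fun f hf => by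
        obtain ⟨a, ha, b, hb, hab⟩ := Submodule.mem_sup.1 hf
        have e := congrArg (tameRey α) hab
        rw [map_add, tameRey_of_mem h1 f.2] at e
        have key : ∀ (x : R →ₐ[k] k) (c : R), c ∈ RingHom.ker (GLin.orbitHom k A x) →
            x (tameRey α c) = 0 := fun x c hc =>
          inOrbitClosure_refl (A := A) x
            (tameRey_mem_ideal α (isSubcomod_ker_orbitHom x) hc)
        have h2 : x₁ (tameRey α b) = x₂ (tameRey α b) :=
          AlgHom.congr_fun h ⟨tameRey α b, tameRey_mem hα b⟩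
        change x₁ (f : R) = 0
        rw [← e, map_add, key x₁ a ha, h2, key x₂ b hb, add_zero]
    exact ⟨z, le_sup_left.trans hz, le_sup_right.trans hz⟩
  · exact (apply_eq_of_inOrbitClosure h₁ f.2).symm.trans (apply_eq_of_inOrbitClosure h₂ f.2)

theorem fixedPts_eq_iff (hG : IsLinearlyReductive k A) (x y : R →ₐ[k] k) :
    (∀ f ∈ fixedPts k A R, x f = y f) ↔
      ∃ z : R →ₐ[k] k, GLin.InOrbitClosure k A x z ∧ GLin.InOrbitClosure k A y z := by
  rw [← comp_invariants_eq_iff hG, AlgHom.ext_iff, Subtype.forall]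
  rfl

/-- The closed orbit in a fibre of the quotient map lies in the closure of every orbit of the
fibre. -/
theorem IsClosedPtOrbit.inOrbitClosure_of_eq (hG : IsLinearlyReductive k A) {x y : R →ₐ[k] k}
    (hy : IsClosedPtOrbit k A y)
    (h : x.comp (GLin.invariants k A R).val = y.comp (GLin.invariants k A R).val) :
    GLin.InOrbitClosure k A x y := by
  obtain ⟨z, h₁, h₂⟩ := (comp_invariants_eq_iff hG x y).1 h
  exact inOrbitClosure_trans h₁ (hy.mem_closure h₂)

/-- Two closed orbits with equal invariants agree. -/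
theorem IsClosedPtOrbit.exists_eq_actPt (hG : IsLinearlyReductive k A) {x y : R →ₐ[k] k}
    (hx : IsClosedPtOrbit k A x) (hy : IsClosedPtOrbit k A y)
    (h : x.comp (GLin.invariants k A R).val = y.comp (GLin.invariants k A R).val) :
    ∃ g : A →ₐ[k] k, y = GLin.actPt k g x :=
  hx y (hy.inOrbitClosure_of_eq hG h)

end AlgClosed

end Orbit

end Groth.Agent.HopfLib
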