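import Mathlib.RepresentationTheory.AlgebraRepresentation.Basic
import Mathlib.RingTheory.SimpleModule.Basic
import Mathlib.RingTheory.Nilpotent.Basic
import Mathlib.LinearAlgebra.Trace
import Mathlib.RingTheory.Artinian.Module
import Mathlib.LinearAlgebra.TensorProduct.Basis
import Mathlib.RingTheory.Flat.Basic
import Mathlib.FieldTheory.IsAlgClosed.AlgebraicClosure

/-! Kolchin's theorem: a group of unipotent operators has a common fixed vector. -/

universe u v w

open TensorProduct

namespace Groth.Agent.HopfLib

variable {Γ : Type v} [Monoid Γ]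

/-- Burnside–Kolchin over an algebraically closed field. -/
theorem exists_fixed_of_unipotent_algClosed {K : Type u} [Field K] [IsAlgClosed K] {W : Type w} [AddCommGroup W]
    [Module K W] [FiniteDimensional K W] [Nontrivial W] (T : Γ →* Module.End K W)
    (hT : ∀ g, IsNilpotent (T g - 1)) : ∃ v : W, v ≠ 0 ∧ ∀ g, T g v = v := by
  classical
  let A := Algebra.adjoin K (Set.range T)
  haveI : IsScalarTower K A W := ⟨fun c a w => by show (c • (a : Module.End K W)) w = _; rfl⟩
  haveI : IsArtinian A W := isArtinian_of_tower K inferInstance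
  obtain ⟨N, hN, -⟩ : ∃ N : Submodule A W, IsAtom N ∧ N ≤ ⊤ :=
    (eq_bot_or_exists_atom_le (⊤ : Submodule A W)).resolve_left (fun h => by
      obtain ⟨x, hx⟩ := exists_ne (0 : W)
      exact hx ((Submodule.mem_bot A).1 (h ▸ Submodule.mem_top)))
  haveI : IsSimpleModule A N := isSimpleModule_iff_isAtom.2 hN
  haveI : FiniteDimensional K N := FiniteDimensional.of_injective (N.subtype.restrictScalars K) Subtype.val_injective
  let P : Submodule K W := N.restrictScalars K
  let eP : P ≃ N :=
    { toFun := fun x => ⟨x.1, x.2⟩, invFun := fun x => ⟨x.1, x.2⟩, left_inv := fun _ => rfl, right_inv := fun _ => rfl }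
  have hdense : ∀ f : Module.End K P, ∃ a : A, ∀ x : P, (f x : W) = (a : Module.End K W) (x : W) := by
    intro f
    have hbij := IsSimpleModule.algebraMap_end_bijective_of_isAlgClosed (A := A) (V := N) K
    let f' : Module.End (Module.End A N) N :=
      { toFun := fun x => eP (f (eP.symm x))
        map_add' := fun x y => Subtype.ext (by
          show (f (eP.symm (x + y)) : W) = (f (eP.symm x) : W) + (f (eP.symm y) : W)
          rw [← Submodule.coe_add, ← map_add]; rfl)
        map_smul' := fun φ x => by
          obtain ⟨c, rfl⟩ := hbij.2 φ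
          refine Subtype.ext ?_
          show (f (eP.symm (c • x)) : W) = c • (f (eP.symm x) : W)
          rw [← Submodule.coe_smul_of_tower, ← map_smul]; rfl }
    obtain ⟨a, ha⟩ := jacobson_density f' (Finset.univ.image fun i => eP (Module.finBasis K P i))
    refine ⟨a, fun x => ?_⟩
    have h : P.subtype ∘ₗ f = (a : Module.End K W) ∘ₗ P.subtype := by
      refine (Module.finBasis K P).ext fun i => ?_
      exact congrArg Subtype.val (ha _ (Finset.mem_image.2 ⟨i, Finset.mem_univ _, rfl⟩))
    exact LinearMap.congr_fun h x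
  let τ : Γ → Module.End K P := fun g => (T g).restrict fun x hx =>
    N.smul_mem (⟨T g, Algebra.subset_adjoin ⟨g, rfl⟩⟩ : A) hx
  have hτ : ∀ g (x : P), ((τ g x : P) : W) = T g x := fun g x => rfl
  have hτmul : ∀ g h, τ (g * h) = τ g * τ h := fun g h => LinearMap.ext fun x => Subtype.ext (by
    show T (g * h) (x : W) = T g (T h x)
    rw [map_mul]; rfl)
  have hnil : ∀ g, IsNilpotent (τ g - 1) := fun g => by
    obtain ⟨r, hr⟩ := hT g
    refine ⟨r, ?_⟩
    have hpow : ∀ (r : ℕ) (x : P),
        ((((τ g - 1) ^ r : Module.End K P) x : P) : W) = ((T g - 1) ^ r : Module.End K W) x := by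
      intro r
      induction r with
      | zero => simp
      | succ r ih => intro x; rw [pow_succ, pow_succ, Module.End.mul_apply, Module.End.mul_apply, ih]; rfl
    exact LinearMap.ext fun x => Subtype.ext (by rw [hpow, hr]; simp)
  have htr : ∀ g, LinearMap.trace K P (τ g) = LinearMap.trace K P 1 := fun g => by
    rw [← sub_eq_zero, ← map_sub]
    exact (LinearMap.isNilpotent_trace_of_isNilpotent (hnil g)).eq_zero
  have hspan : ∀ f : Module.End K P, f ∈ Submodule.span K (Set.range τ) := by
    intro f
    obtain ⟨⟨a, ha⟩, hf⟩ := hdense f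
    have ha' : a ∈ Submodule.span K (Set.range T) := by
      have h : Subalgebra.toSubmodule A = Submodule.span K (Submonoid.closure (Set.range T) : Set (Module.End K W)) :=
        Algebra.adjoin_eq_span K (Set.range T)
      rw [← MonoidHom.coe_mrange, Submonoid.closure_eq] at h
      rw [← MonoidHom.coe_mrange]
      exact h.le ha
    suffices ∀ a ∈ Submodule.span K (Set.range T), ∃ F ∈ Submodule.span K (Set.range τ),
        ∀ x : P, ((F x : P) : W) = a (x : W) by
      obtain ⟨F, hF, hF'⟩ := this a ha'
      rwa [show f = F from LinearMap.ext fun x => Subtype.ext (by rw [hF', hf])]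
    intro a ha
    induction ha using Submodule.span_induction with
    | mem y hy => obtain ⟨g, rfl⟩ := hy; exact ⟨τ g, Submodule.subset_span ⟨g, rfl⟩, hτ g⟩
    | zero => exact ⟨0, zero_mem _, fun x => by simp⟩
    | add y z _ _ hy hz =>
      obtain ⟨F, hF, hF'⟩ := hy; obtain ⟨G, hG, hG'⟩ := hz
      exact ⟨F + G, add_mem hF hG, fun x => by simp [hF', hG']⟩
    | smul c y _ hy =>
      obtain ⟨F, hF, hF'⟩ := hy
      exact ⟨c • F, Submodule.smul_mem _ c hF, fun x => by simp [hF']⟩
  haveI : Nontrivial N := IsSimpleModule.nontrivial A N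
  obtain ⟨⟨v, hvN⟩, hv⟩ := exists_ne (0 : N)
  refine ⟨v, fun h => hv (Subtype.ext h), fun g => ?_⟩
  have key : ∀ f, LinearMap.trace K P ((τ g - 1) * f) = 0 := fun f => by
    induction hspan f using Submodule.span_induction with
    | mem y hy => obtain ⟨h, rfl⟩ := hy; rw [sub_mul, one_mul, map_sub, ← hτmul, htr, htr, sub_self]
    | zero => simp
    | add y z _ _ hy hz => rw [mul_add, map_add, hy, hz, add_zero]
    | smul c y _ hy => rw [mul_smul_comm, map_smul, hy, smul_zero]
  have : (τ g - 1) (⟨v, hvN⟩ : P) = 0 := by
    refine (Module.forall_dual_apply_eq_zero_iff K _).1 fun φ => ?_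
    have := key (φ.smulRight (⟨v, hvN⟩ : P))
    rwa [show (τ g - 1) * φ.smulRight (⟨v, hvN⟩ : P) = φ.smulRight ((τ g - 1) (⟨v, hvN⟩ : P)) from
      LinearMap.ext fun x => by simp, LinearMap.trace_smulRight] at this
  have := congrArg Subtype.val this
  simpa [sub_eq_zero, hτ] using this

/-- Kolchin's theorem. -/
theorem exists_fixed_of_unipotent {k : Type u} [Field k] {V : Type w} [AddCommGroup V]
    [Module k V] [FiniteDimensional k V] [Nontrivial V] (T : Γ →* Module.End k V)
    (hT : ∀ g, IsNilpotent (T g - 1)) : ∃ v : V, v ≠ 0 ∧ ∀ g, T g v = v := by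
  classical
  let K := AlgebraicClosure k
  let TK : Γ →* Module.End K (K ⊗[k] V) := ((Module.End.baseChangeHom k K V : _ →* _)).comp T
  have hTK : ∀ g, TK g = (T g).baseChange K := fun g => rfl
  haveI : Nontrivial (K ⊗[k] V) := by
    obtain ⟨x, hx⟩ := exists_ne (0 : V)
    exact nontrivial_of_ne ((1 : K) ⊗ₜ[k] x) 0 fun h => hx
      (by
        have hinj := Module.Flat.rTensor_preserves_injective_linearMap (M := V) (Algebra.linearMap k K)
          (algebraMap k K).injective
        have : (Algebra.linearMap k K).rTensor V ((1 : k) ⊗ₜ x) = 0 := by simpa using h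
        have h2 := congrArg (TensorProduct.lid k V) (hinj (this.trans (map_zero _).symm))
        simpa using h2)
  obtain ⟨w, hw, hfix⟩ := exists_fixed_of_unipotent_algClosed TK fun g => by
    have := (hT g).map (Module.End.baseChangeHom k K V)
    rwa [map_sub, map_one] at this
  let b := Module.Basis.ofVectorSpace k K
  obtain ⟨i, hi⟩ : ∃ i, TensorProduct.lid k V ((b.coord i).rTensor V w) ≠ 0 := by
    by_contra h
    push Not at h
    apply hw
    apply (TensorProduct.equivFinsuppOfBasisLeft b).injective
    rw [map_zero]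
    refine Finsupp.ext fun i => ?_
    have : ∀ z : K ⊗[k] V, TensorProduct.equivFinsuppOfBasisLeft b z i = TensorProduct.lid k V ((b.coord i).rTensor V z) := by
      intro z
      induction z using TensorProduct.induction_on with
      | zero => simp
      | add p q hp hq => simp [hp, hq]
      | tmul p q => simp
    rw [this, h i]; rfl
  refine ⟨_, hi, fun g => ?_⟩
  have hcomm : ∀ z : K ⊗[k] V, T g (TensorProduct.lid k V ((b.coord i).rTensor V z)) =
      TensorProduct.lid k V ((b.coord i).rTensor V ((T g).baseChange K z)) := by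
    intro z
    induction z using TensorProduct.induction_on with
    | zero => simp
    | add p q hp hq => simp [hp, hq]
    | tmul p q => simp
  rw [hcomm, ← hTK, hfix g]

end Groth.Agent.HopfLib
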