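import Groth.Agent.HopfLib.GITPoints
import Groth.Agent.DimLib.Algebra
import Mathlib.RingTheory.AlgebraicIndependent.Transcendental
import Mathlib.RingTheory.Ideal.MinimalPrime.Noetherian

/-!
# Orbits with finite stabiliser
-/

open TensorProduct HopfRep Coalgebra Polynomial

universe u

namespace Groth.Agent.HopfLib

set_option linter.unusedSectionVars false
set_option maxHeartbeats 400000

variable {k : Type u} [Field k] {A : Type u} [CommRing A] [HopfAlgebra k A]
  {R : Type u} [CommRing R] [Algebra k R] [Comod k A R] [GLin.IsCoactAlg k A R]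

instance regular_isCoactAlg : GLin.IsCoactAlg k A A :=
  ⟨Bialgebra.comul_one, Bialgebra.comul_mul⟩

/-- The action of a rational point, as an algebra map. -/
noncomputable def actAlgHom (g : A →ₐ[k] k) : R →ₐ[k] R :=
  (Algebra.TensorProduct.rid k k R).toAlgHom.comp
    ((Algebra.TensorProduct.map (AlgHom.id k R) g).comp (GLin.coactAlgHom k A R))

theorem actAlgHom_apply (g : A →ₐ[k] k) (f : R) : actAlgHom g f = Comod.act k A R g f := by
  simp only [actAlgHom, AlgHom.comp_apply, GLin.coactAlgHom_apply, Comod.act, LinearMap.comp_apply,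
    LinearEquiv.coe_coe]
  generalize Comod.coact (k := k) (A := A) f = t
  induction t using TensorProduct.induction_on with
  | zero => simp
  | add p q hp hq => simp only [map_add, hp, hq]
  | tmul a b => simp

theorem comp_actAlgHom (g : A →ₐ[k] k) (x : R →ₐ[k] k) :
    x.comp (actAlgHom g) = GLin.actPt k g x :=
  AlgHom.ext fun f => by rw [AlgHom.comp_apply, actAlgHom_apply, actPt_apply]

theorem orbitHom_actAlgHom (x : R →ₐ[k] k) (g : A →ₐ[k] k) (f : R) :
    GLin.orbitHom k A x (actAlgHom g f) = actAlgHom g (GLin.orbitHom k A x f) := by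
  have h := IsComodHom.coact_apply (isComodHom_orbitHom (A := A) x) f
  simp only [actAlgHom_apply, Comod.act, LinearMap.comp_apply, LinearEquiv.coe_coe]
  rw [show Comod.coact (k := k) (A := A) (GLin.orbitHom k A x f) = _ from h]
  generalize Comod.coact (k := k) (A := A) f = t
  induction t using TensorProduct.induction_on with
  | zero => simp
  | add p q hp hq => simp only [map_add, hp, hq]
  | tmul a b => simp

theorem orbitHom_actPt' (h : A →ₐ[k] k) (x : R →ₐ[k] k) :
    GLin.orbitHom k A (GLin.actPt k h x) =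
      (GLin.orbitHom k A (R := A) h).comp (GLin.orbitHom k A x) :=
  AlgHom.ext fun f => by rw [orbitHom_actPt]; rfl

theorem actPt_actPt (d h : A →ₐ[k] k) (x : R →ₐ[k] k) :
    GLin.actPt k d (GLin.actPt k h x) = GLin.actPt k (GLin.actPt k d h) x := by
  rw [actPt_eq d, orbitHom_actPt', ← AlgHom.comp_assoc]
  rfl

/-- The points of the group fixing `x`. -/
def stabPts (A : Type u) [CommRing A] [HopfAlgebra k A] [Comod k A R] [GLin.IsCoactAlg k A R]
    (x : R →ₐ[k] k) : Set (A →ₐ[k] k) := {g | GLin.actPt k g x = x}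

theorem stabPts_eq (x : R →ₐ[k] k) :
    stabPts A x = {g : A →ₐ[k] k | ∀ f : R, x (Comod.act k A R g f) = x f} :=
  Set.ext fun g => by simp [stabPts, AlgHom.ext_iff, actPt_apply]

theorem finite_fibre_of_stabPts {x : R →ₐ[k] k} (hfin : (stabPts A x).Finite) (c : A →ₐ[k] k) :
    {c' : A →ₐ[k] k | GLin.actPt k c' x = GLin.actPt k c x}.Finite := by
  let d := c.comp (HopfAlgebra.antipodeAlgHom k A)
  refine Set.Finite.of_finite_image (f := GLin.actPt k d) (hfin.subset ?_) ?_
  · rintro _ ⟨c', hc', rfl⟩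
    show GLin.actPt k (GLin.actPt k d c') x = x
    rw [← actPt_actPt, show GLin.actPt k c' x = GLin.actPt k c x from hc', actPt_antipode]
  · intro a _ b _ hab
    have h := congrArg (GLin.actPt k (d.comp (HopfAlgebra.antipodeAlgHom k A))) hab
    rwa [actPt_antipode, actPt_antipode] at h

variable [IsAlgClosed k] [Algebra.FiniteType k A]

/-- A function with finitely many values on each fibre of a dominant morphism is algebraic over
the base. -/
theorem isAlgebraic_of_finite_values {B C : Type u} [CommRing B] [CommRing C] [IsDomain B] [IsDomain C]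
    [Algebra k B] [Algebra k C] [Algebra.FiniteType k B] [Algebra.FiniteType k C]
    [Algebra B C] [IsScalarTower k B C] [FaithfulSMul B C] (t : C)
    (hfin : ∀ c : C →ₐ[k] k, ((fun c' : C →ₐ[k] k => c' t) '' {c' : C →ₐ[k] k |
      c'.comp (IsScalarTower.toAlgHom k B C) = c.comp (IsScalarTower.toAlgHom k B C)}).Finite) :
    IsAlgebraic B t := by
  by_contra htr
  let g : B[X] →ₐ[B] C := Polynomial.aeval t
  have hgi : Function.Injective g := transcendental_iff_injective.1 htr
  have hft : g.toRingHom.FiniteType := by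
    let := g.toRingHom.toAlgebra
    have : IsScalarTower k B[X] C := IsScalarTower.of_algebraMap_eq fun a => by
      simp [RingHom.algebraMap_toAlgebra, g, IsScalarTower.algebraMap_apply k B B[X],
        ← IsScalarTower.algebraMap_apply k B C]
    exact RingHom.finiteType_algebraMap.2 (Algebra.FiniteType.of_restrictScalars_finiteType k B[X] C)
  have : IsNoetherianRing B := Algebra.FiniteType.isNoetherianRing k B
  obtain ⟨D, hD, ⟨P, hP⟩, hDr⟩ := exists_open_subset_range_comap g.toRingHom
    (RingHom.FinitePresentation.of_finiteType.1 hft) hgi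
  obtain ⟨_, ⟨p, rfl⟩, hPp, hpD⟩ :=
    PrimeSpectrum.isTopologicalBasis_basic_opens.exists_subset_of_mem_open hP hD
  have hp : p ≠ 0 := fun h => hPp (h ▸ P.asIdeal.zero_mem)
  obtain ⟨b, hb⟩ := exists_algHom_ne_zero (k := k) (f := p.leadingCoeff)
    (fun h => Polynomial.leadingCoeff_ne_zero.2 hp h.eq_zero)
  let q : k[X] := p.map (b : B →+* k)
  have hq : q ≠ 0 := fun h => hb (by
    have := congrArg (fun r : k[X] => r.coeff p.natDegree) h
    simpa [q, Polynomial.coeff_map] using this)
  let e : k → (B[X] →+* k) := fun a => Polynomial.eval₂RingHom (b : B →+* k) a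
  have hlift : ∀ a : k, q.eval a ≠ 0 → ∃ c : C →ₐ[k] k,
      c.comp (IsScalarTower.toAlgHom k B C) = b ∧ c t = a := by
    intro a ha
    have hmax : (RingHom.ker (e a)).IsMaximal :=
      RingHom.ker_isMaximal_of_surjective _ fun y => ⟨Polynomial.C (algebraMap k B y), by simp [e]⟩
    obtain ⟨Q, hQ⟩ := hDr (hpD (show (⟨_, hmax.isPrime⟩ : PrimeSpectrum B[X]) ∈
      PrimeSpectrum.basicOpen p from fun h => ha (by
        have h' : e a p = 0 := h
        simpa [q, e, Polynomial.eval_map] using h')))
    obtain ⟨c, hc⟩ := exists_algHom_le_ker (k := k) Q.isPrime.ne_top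
    have hker : ∀ r : B[X], e a r = 0 → c (g r) = 0 := fun r hr =>
      hc ((congrArg PrimeSpectrum.asIdeal hQ).ge (RingHom.mem_ker.2 hr))
    refine ⟨c, algHom_eq_of_ker_le (fun y hy => ?_) |>.symm, ?_⟩
    · rw [RingHom.mem_ker] at hy ⊢
      have := hker (Polynomial.C y) (by simpa [e] using hy)
      simpa [g] using this
    · have := hker (Polynomial.X - Polynomial.C (algebraMap k B a)) (by simp [e])
      simpa [g, sub_eq_zero, ← IsScalarTower.algebraMap_apply k B C] using this
  have hinf : ({a : k | q.eval a ≠ 0}).Infinite :=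
    (Polynomial.finite_setOf_isRoot hq).infinite_compl
  obtain ⟨a₀, ha₀⟩ := hinf.nonempty
  obtain ⟨c₀, hc₀, -⟩ := hlift a₀ ha₀
  have : Nonempty (C →ₐ[k] k) := ⟨c₀⟩
  choose! c hc using hlift
  refine hinf ((hfin c₀).subset fun a ha =>
    ⟨c a, (hc a ha).1.trans hc₀.symm, (hc a ha).2⟩)

/-- A dominant morphism of affine varieties with finite fibres over rational points is generically
finite. -/
theorem isAlgebraic_of_finite_fibres {B C : Type u} [CommRing B] [CommRing C] [IsDomain B] [IsDomain C]
    [Algebra k B] [Algebra k C] [Algebra.FiniteType k B] [Algebra.FiniteType k C]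
    [Algebra B C] [IsScalarTower k B C] [FaithfulSMul B C]
    (hfin : ∀ c : C →ₐ[k] k, {c' : C →ₐ[k] k |
      c'.comp (IsScalarTower.toAlgHom k B C) = c.comp (IsScalarTower.toAlgHom k B C)}.Finite) :
    Algebra.IsAlgebraic B C :=
  ⟨fun t => isAlgebraic_of_finite_values (k := k) t fun c => (hfin c).image _⟩

theorem ringKrullDim_eq_of_finite_fibres {B C : Type u} [CommRing B] [CommRing C] [IsDomain B] [IsDomain C]
    [Algebra k B] [Algebra k C] [Algebra.FiniteType k B] [Algebra.FiniteType k C]
    (f : B →ₐ[k] C) (hf : Function.Injective f)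
    (hfin : ∀ c : C →ₐ[k] k, {c' : C →ₐ[k] k | c'.comp f = c.comp f}.Finite) :
    ringKrullDim B = ringKrullDim C := by
  let := f.toRingHom.toAlgebra
  have : IsScalarTower k B C := IsScalarTower.of_algebraMap_eq fun a => (f.commutes a).symm
  have : FaithfulSMul B C := (faithfulSMul_iff_algebraMap_injective B C).2 hf
  have hfe : IsScalarTower.toAlgHom k B C = f := AlgHom.ext fun _ => rfl
  have := isAlgebraic_of_finite_fibres (k := k) (B := B) (C := C) (by rw [hfe]; exact hfin)
  rw [DimLib.ringKrullDim_eq_trdeg (k := k), DimLib.ringKrullDim_eq_trdeg (k := k),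
    ← trdeg_add_eq k B (A := C), trdeg_eq_zero (R := B) (A := C), add_zero]

theorem ringKrullDim_le_of_injective {B C : Type u} [CommRing B] [CommRing C] [IsDomain B] [IsDomain C]
    [Algebra k B] [Algebra k C] [Algebra.FiniteType k B] [Algebra.FiniteType k C]
    (f : B →ₐ[k] C) (hf : Function.Injective f) : ringKrullDim B ≤ ringKrullDim C := by
  rw [DimLib.ringKrullDim_eq_trdeg (k := k), DimLib.ringKrullDim_eq_trdeg (k := k)]
  have := Cardinal.toNat_le_toNat (trdeg_le_of_injective f hf) trdeg_lt_aleph0_of_finiteType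
  exact_mod_cast this

theorem eq_of_le_of_ringKrullDim_le {B : Type u} [CommRing B] [Algebra k B] [Algebra.FiniteType k B]
    {p q : Ideal B} [p.IsPrime] [q.IsPrime] (h : p ≤ q)
    (hd : ringKrullDim (B ⧸ p) ≤ ringKrullDim (B ⧸ q)) : p = q := by
  let q' := q.map (Ideal.Quotient.mk p)
  have : q'.IsPrime := Ideal.map_isPrime_of_surjective Ideal.Quotient.mk_surjective (by simpa)
  have : IsNoetherianRing B := Algebra.FiniteType.isNoetherianRing k B
  have e := DimLib.height_add_ringKrullDim_quotient (k := k) q'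
  rw [ringKrullDim_eq_of_ringEquiv (DoubleQuot.quotQuotEquivQuotOfLE h)] at e
  obtain ⟨n, hn⟩ := DimLib.exists_nat_ringKrullDim (k := k) (A := B ⧸ q)
  obtain ⟨m, hm⟩ := DimLib.exists_nat_ringKrullDim (k := k) (A := B ⧸ p)
  obtain ⟨l, hl⟩ := ENat.ne_top_iff_exists.1 (Ideal.height_ne_top_of_isPrime (I := q'))
  rw [hn, hm, ← hl] at e
  rw [hn, hm] at hd
  norm_cast at e hd
  have hl0 : q'.height = 0 := by rw [← hl]; exact_mod_cast (show l = 0 by omega)
  rw [Ideal.height_eq_zero_iff, IsDomain.minimalPrimes_eq_singleton_bot] at hl0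
  refine le_antisymm h ?_
  rw [← Ideal.mk_ker (I := p), RingHom.ker, ← Ideal.map_le_iff_le_comap]
  exact (show q' = ⊥ from hl0).le

theorem act_eq_hit (g : A →ₐ[k] k) (f : R) : Comod.act k A R g f = hit g.toLinearMap f := by
  simp only [Comod.act, hit_apply, LinearMap.comp_apply, LinearEquiv.coe_coe]
  generalize Comod.coact (k := k) (A := A) f = t
  induction t using TensorProduct.induction_on with
  | zero => simp
  | add p q hp hq => simp only [map_add, hp, hq]
  | tmul a b => simp

theorem actAlgHom_actAlgHom (g h : A →ₐ[k] k) (f : R) :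
    actAlgHom g (actAlgHom h f) = actAlgHom (GLin.actPt k h g) f := by
  rw [actAlgHom_apply, actAlgHom_apply, actAlgHom_apply]
  rw [act_eq_hit, act_eq_hit, act_eq_hit, hit_hit]
  congr 2
  refine LinearMap.ext fun a => ?_
  simp only [formMul, LinearMap.comp_apply, AlgHom.toLinearMap_apply, actPt_eq, AlgHom.comp_apply, GLin.orbitHom, GLin.coactAlgHom_apply]
  rw [show Comod.coact (k := k) (A := A) a = comul (R := k) a from rfl]
  generalize Comod.coact (k := k) (A := A) a = t
  induction t using TensorProduct.induction_on with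
  | zero => simp
  | add p q hp hq => simp only [map_add, hp, hq]
  | tmul p q => simp [mul_comm]

theorem actAlgHom_counit (f : R) : actAlgHom (Bialgebra.counitAlgHom k A) f = f := by
  rw [actAlgHom_apply, act_eq_hit]
  exact hit_counit f

theorem orbitHom_counit (a : A) :
    GLin.orbitHom k A (R := A) (Bialgebra.counitAlgHom k A) a = a := by
  rw [orbitHom_eq_cf, cf_apply]
  have h := Coalgebra.rTensor_counit_comul (R := k) a
  refine Eq.trans ?_ (show TensorProduct.lid k A ((counit (R := k) (A := A)).rTensor A (comul a)) = a by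
    rw [h]; simp)
  rw [show Comod.coact (k := k) (A := A) a = comul (R := k) a from rfl]
  generalize comul (R := k) a = t
  induction t using TensorProduct.induction_on with
  | zero => simp
  | add p q hp hq => simp only [map_add, hp, hq]
  | tmul p q => simp

theorem actPt_counit_self (c : A →ₐ[k] k) : GLin.actPt k c (Bialgebra.counitAlgHom k A) = c :=
  AlgHom.ext fun a => congrArg c (orbitHom_counit a)

theorem orbitHom_self_comp_antipode (g : A →ₐ[k] k) :
    GLin.actPt k (g.comp (HopfAlgebra.antipodeAlgHom k A)) g = Bialgebra.counitAlgHom k A := by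
  have h := actPt_antipode (R := A) g (Bialgebra.counitAlgHom k A)
  rwa [actPt_counit_self] at h

/-- Minimal primes of the coordinate ring of an algebraic group are conjugate by translations. -/
theorem exists_comap_actAlgHom_eq {P P' : Ideal A} (hP : P ∈ minimalPrimes A)
    (hP' : P' ∈ minimalPrimes A) :
    ∃ g : A →ₐ[k] k, P' = P.comap (actAlgHom (R := A) g) := by
  classical
  have : IsNoetherianRing A := Algebra.FiniteType.isNoetherianRing k A
  have key : ∀ Q : Ideal A, Q ∈ minimalPrimes A → ∃ c : A →ₐ[k] k, Q ≤ RingHom.ker c ∧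
      ∀ Q' ∈ minimalPrimes A, Q' ≤ RingHom.ker c → Q' = Q := by
    intro Q hQ
    have := hQ.1.1
    let T := (minimalPrimes.finite_of_isNoetherianRing A).toFinset.erase Q
    have hT : ¬ T.inf id ≤ Q := fun hle => by
      obtain ⟨Q', hQ', hQ'le⟩ := (Ideal.IsPrime.inf_le' hQ.1.1).1 hle
      simp only [T, Finset.mem_erase, Set.Finite.mem_toFinset] at hQ'
      exact hQ'.1 (le_antisymm hQ'le (hQ.2 ⟨hQ'.2.1.1, bot_le⟩ hQ'le))
    obtain ⟨a, haT, haQ⟩ := SetLike.not_le_iff_exists.1 hT
    obtain ⟨c, hc⟩ := exists_algHom_ne_zero (k := k) (f := Ideal.Quotient.mk Q a)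
      (fun hn => haQ (Ideal.Quotient.eq_zero_iff_mem.1 hn.eq_zero))
    refine ⟨c.comp (Ideal.Quotient.mkₐ k Q), fun y hy => by simp [Ideal.Quotient.eq_zero_iff_mem.2 hy],
      fun Q' hQ' hle => ?_⟩
    by_contra hne
    exact hc (hle (Submodule.mem_finsetInf.1 haT Q' (by simp [T, hne, hQ'])))
  obtain ⟨c, hPc, hcu⟩ := key P hP
  obtain ⟨c', hPc', hcu'⟩ := key P' hP'
  obtain ⟨g, hg⟩ : ∃ g : A →ₐ[k] k, c' = GLin.actPt k g c :=
    exists_actPt_trans (R := A) ⟨_, (orbitHom_self_comp_antipode c).symm⟩ ⟨c', (actPt_counit_self c').symm⟩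
  have := hP.1.1
  have : (P.comap (actAlgHom (R := A) g)).IsPrime := Ideal.IsPrime.comap _
  obtain ⟨Q', hQ', hQ'le⟩ := Ideal.exists_minimalPrimes_le (I := (⊥ : Ideal A))
    (J := P.comap (actAlgHom (R := A) g)) bot_le
  have h1 : P.comap (actAlgHom (R := A) g) ≤ RingHom.ker c' := fun a ha => by
    rw [RingHom.mem_ker, hg, ← comp_actAlgHom]
    exact hPc ha
  have h2 : Q' = P' := hcu' Q' hQ' (hQ'le.trans h1)
  refine ⟨g, le_antisymm (h2 ▸ hQ'le) ?_⟩
  -- the inverse translation
  let g' := g.comp (HopfAlgebra.antipodeAlgHom k A)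
  have hinv : ∀ a, actAlgHom (R := A) g (actAlgHom (R := A) g' a) = a := fun a => by
    rw [actAlgHom_actAlgHom, show GLin.actPt k g' g = _ from orbitHom_self_comp_antipode g, actAlgHom_counit]
  have h3 : P'.comap (actAlgHom (R := A) g') ≤ P := fun a ha => by
    have := h2 ▸ hQ'le
    simpa [hinv] using this ha
  have h4 : P ≤ P'.comap (actAlgHom (R := A) g') := hP.2 ⟨hP'.1.1.comap _, bot_le⟩ h3
  intro a ha
  have := h4 (Ideal.mem_comap.1 ha)
  rw [Ideal.mem_comap, actAlgHom_actAlgHom] at this
  have e : GLin.actPt k g g' = Bialgebra.counitAlgHom k A := by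
    have := orbitHom_self_comp_antipode g'
    rwa [show g'.comp (HopfAlgebra.antipodeAlgHom k A) = g from
      AlgHom.ext fun a => congrArg g (antipode_antipode a)] at this
  rwa [e, actAlgHom_counit] at this

theorem actAlgHom_bijective (g : A →ₐ[k] k) : Function.Bijective (actAlgHom (R := R) g) := by
  have h1 := orbitHom_self_comp_antipode g
  have h2 : GLin.actPt k g (g.comp (HopfAlgebra.antipodeAlgHom k A)) = Bialgebra.counitAlgHom k A := by
    have := orbitHom_self_comp_antipode (g.comp (HopfAlgebra.antipodeAlgHom k A))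
    rwa [show (g.comp (HopfAlgebra.antipodeAlgHom k A)).comp (HopfAlgebra.antipodeAlgHom k A) = g from
      AlgHom.ext fun a => congrArg g (antipode_antipode a)] at this
  refine Function.bijective_iff_has_inverse.2
    ⟨actAlgHom (R := R) (g.comp (HopfAlgebra.antipodeAlgHom k A)), fun a => ?_, fun a => ?_⟩
  · rw [actAlgHom_actAlgHom, h2, actAlgHom_counit]
  · rw [actAlgHom_actAlgHom, h1, actAlgHom_counit]

theorem ringKrullDim_quotient_comap_eq {S T : Type u} [CommRing S] [CommRing T] (f : S →+* T)
    (hf : Function.Bijective f) (q : Ideal T) : ringKrullDim (S ⧸ q.comap f) = ringKrullDim (T ⧸ q) :=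
  ringKrullDim_eq_of_ringEquiv (Ideal.quotientEquiv (q.comap f) q (RingEquiv.ofBijective f hf)
    (Ideal.map_comap_of_surjective (f := f) hf.2 q).symm)

/-- All components of an orbit closure have the same dimension. -/
theorem ringKrullDim_comap_orbitHom_eq (y : R →ₐ[k] k) {P P' : Ideal A} (hP : P ∈ minimalPrimes A)
    (hP' : P' ∈ minimalPrimes A) :
    ringKrullDim (R ⧸ P'.comap (GLin.orbitHom k A y)) = ringKrullDim (R ⧸ P.comap (GLin.orbitHom k A y)) := by
  obtain ⟨g, rfl⟩ := exists_comap_actAlgHom_eq (k := k) hP hP'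
  rw [show (P.comap (actAlgHom (R := A) g)).comap (GLin.orbitHom k A y) =
      (P.comap (GLin.orbitHom k A y)).comap ((actAlgHom (R := R) g : R →ₐ[k] R) : R →+* R) from
    Ideal.ext fun f => by simp [orbitHom_actAlgHom]]
  exact ringKrullDim_quotient_comap_eq _ (actAlgHom_bijective g) _

/-- An orbit closure inside another one, of no smaller dimension, is equal to it. -/
theorem inOrbitClosure_symm_of_ringKrullDim_le [Algebra.FiniteType k R] {x y : R →ₐ[k] k}
    (h : GLin.InOrbitClosure k A y x)
    (hd : ∀ P ∈ minimalPrimes A, ∀ P' ∈ minimalPrimes A,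
      P'.comap (GLin.orbitHom k A y) ≤ P.comap (GLin.orbitHom k A x) →
        ringKrullDim (R ⧸ P'.comap (GLin.orbitHom k A y)) ≤ ringKrullDim (R ⧸ P.comap (GLin.orbitHom k A x))) :
    GLin.InOrbitClosure k A x y := by
  classical
  have : IsNoetherianRing A := Algebra.FiniteType.isNoetherianRing k A
  have hnA : Nontrivial A := (Bialgebra.counitAlgHom k A).toRingHom.domain_nontrivial
  let φx := GLin.orbitHom k A x
  let φy := GLin.orbitHom k A y
  obtain ⟨P, hP⟩ := Ideal.nonempty_minimalPrimes (I := (⊥ : Ideal A)) bot_ne_top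
  have := hP.1.1
  let q := P.comap φx
  have : q.IsPrime := Ideal.IsPrime.comap _
  have hKy : RingHom.ker φy ≤ q := (ker_orbitHom_le h).trans fun f hf => by
    show φx f ∈ P
    rw [RingHom.mem_ker.1 hf]; exact P.zero_mem
  let T := (minimalPrimes.finite_of_isNoetherianRing A).toFinset.image fun Q : Ideal A => Q.comap φy
  have hT : T.inf id ≤ q := by
    intro f hf
    have hn : IsNilpotent (φy f) := by
      rw [← mem_nilradical, nilradical, show (0 : Ideal A) = ⊥ from rfl, ← Ideal.sInf_minimalPrimes,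
        Ideal.mem_sInf]
      intro Q hQ
      exact Submodule.mem_finsetInf.1 hf (Q.comap φy) (Finset.mem_image.2
        ⟨Q, by simpa [minimalPrimes] using hQ, rfl⟩)
    obtain ⟨n, hn⟩ := hn
    exact Ideal.IsPrime.mem_of_pow_mem ‹_› n (hKy (by rw [RingHom.mem_ker, map_pow, hn]))
  obtain ⟨_, hq1, hle⟩ := (Ideal.IsPrime.inf_le' ‹q.IsPrime›).1 hT
  obtain ⟨P₁, hP₁, rfl⟩ := Finset.mem_image.1 hq1
  rw [Set.Finite.mem_toFinset] at hP₁
  have := hP₁.1.1
  have hdim : ringKrullDim (R ⧸ P₁.comap φy) ≤ ringKrullDim (R ⧸ q) := hd P hP P₁ hP₁ hle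
  have hqeq : P₁.comap φy = q := eq_of_le_of_ringKrullDim_le (k := k) hle hdim
  have hKx : ∀ f ∈ RingHom.ker φx, φy f ∈ P₁ := fun f hf => by
    have : f ∈ P₁.comap φy := by
      rw [hqeq]
      show φx f ∈ P
      rw [RingHom.mem_ker.1 hf]; exact P.zero_mem
    exact this
  intro f hf
  have hn : IsNilpotent (φy f) := by
    rw [← mem_nilradical, nilradical, show (0 : Ideal A) = ⊥ from rfl, ← Ideal.sInf_minimalPrimes,
      Ideal.mem_sInf]
    intro Q hQ
    obtain ⟨g, rfl⟩ := exists_comap_actAlgHom_eq (k := k) hP₁ (show Q ∈ minimalPrimes A by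
      simpa [minimalPrimes] using hQ)
    rw [Ideal.mem_comap, ← orbitHom_actAlgHom]
    refine hKx _ ?_
    rw [RingHom.mem_ker, orbitHom_actAlgHom, RingHom.mem_ker.1 hf, map_zero]
  obtain ⟨n, hn⟩ := hn
  have h0 : y (f ^ n) = 0 := inOrbitClosure_refl (A := A) y (RingHom.mem_ker.2 (by rw [map_pow, hn]))
  rw [map_pow] at h0
  exact eq_zero_of_pow_eq_zero h0

/-- An orbit with finite stabiliser does not lie properly in the closure of another orbit. -/
theorem inOrbitClosure_symm_of_finite_stabPts [Algebra.FiniteType k R] {x y : R →ₐ[k] k}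
    (hfin : (stabPts A x).Finite) (h : GLin.InOrbitClosure k A y x) :
    GLin.InOrbitClosure k A x y := by
  refine inOrbitClosure_symm_of_ringKrullDim_le h fun P hP P₁ hP₁ _ => ?_
  have := hP.1.1
  have := hP₁.1.1
  let φx := GLin.orbitHom k A x
  let φy := GLin.orbitHom k A y
  let q := P.comap φx
  obtain ⟨g, hg⟩ := exists_comap_actAlgHom_eq (k := k) hP hP₁
  let e := AlgEquiv.ofBijective (actAlgHom (R := A) g) (actAlgHom_bijective g)
  have hmap : P = P₁.map (e : A →+* A) := by
    rw [hg]
    exact (Ideal.map_comap_of_surjective (f := (e : A →+* A)) (actAlgHom_bijective g).2 P).symm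
  calc ringKrullDim (R ⧸ P₁.comap φy) ≤ ringKrullDim (A ⧸ P₁) :=
        ringKrullDim_le_of_injective (k := k) (Ideal.quotientMapₐ P₁ φy le_rfl)
          (Ideal.quotientMap_injective (I := P₁) (f := (φy : R →+* A)))
    _ = ringKrullDim (A ⧸ P) := ringKrullDim_eq_of_ringEquiv (Ideal.quotientEquiv P₁ P e.toRingEquiv hmap)
    _ = ringKrullDim (R ⧸ q) := by
        refine (ringKrullDim_eq_of_finite_fibres (k := k) (Ideal.quotientMapₐ P φx le_rfl)
          (Ideal.quotientMap_injective (I := P) (f := (φx : R →+* A))) fun c => ?_).symm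
        refine Set.Finite.of_finite_image (f := fun c' : A ⧸ P →ₐ[k] k => c'.comp (Ideal.Quotient.mkₐ k P))
          ((finite_fibre_of_stabPts hfin (c.comp (Ideal.Quotient.mkₐ k P))).subset ?_)
          fun a _ b _ hab => Ideal.Quotient.algHom_ext k hab
        rintro _ ⟨c', hc', rfl⟩
        refine AlgHom.ext fun f => ?_
        simpa [actPt_eq, φx] using AlgHom.congr_fun
          (show c'.comp (Ideal.quotientMapₐ P φx le_rfl) = c.comp (Ideal.quotientMapₐ P φx le_rfl) from hc')
          (Ideal.Quotient.mk (P.comap φx) f)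

theorem stabPts_actPt (g : A →ₐ[k] k) {x : R →ₐ[k] k} (hfin : (stabPts A x).Finite) :
    (stabPts A (GLin.actPt k g x)).Finite := by
  refine Set.Finite.of_finite_image (f := fun c => GLin.actPt k c g)
    ((finite_fibre_of_stabPts hfin g).subset ?_) ?_
  · rintro _ ⟨c, hc, rfl⟩
    show GLin.actPt k (GLin.actPt k c g) x = GLin.actPt k g x
    rw [← actPt_actPt]
    exact hc
  · intro a _ b _ hab
    have ha : ∀ c : A →ₐ[k] k,
        GLin.actPt k (GLin.actPt k c g) (g.comp (HopfAlgebra.antipodeAlgHom k A)) = c := by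
      intro c
      rw [← actPt_actPt]
      have h2 : GLin.actPt k g (g.comp (HopfAlgebra.antipodeAlgHom k A)) = Bialgebra.counitAlgHom k A := by
        have := orbitHom_self_comp_antipode (g.comp (HopfAlgebra.antipodeAlgHom k A))
        rwa [show (g.comp (HopfAlgebra.antipodeAlgHom k A)).comp (HopfAlgebra.antipodeAlgHom k A) = g from
          AlgHom.ext fun a => congrArg g (antipode_antipode a)] at this
      rw [h2, actPt_counit_self]
    rw [← ha a, ← ha b]
    exact congrArg (fun c => GLin.actPt k c (g.comp (HopfAlgebra.antipodeAlgHom k A))) hab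

/-- Stability, on rational points. -/
def IsPtStable (k : Type u) [Field k] (A : Type u) [CommRing A] [HopfAlgebra k A]
    {R : Type u} [CommRing R] [Algebra k R] [Comod k A R] [GLin.IsCoactAlg k A R]
    (x : R →ₐ[k] k) : Prop := IsClosedPtOrbit k A x ∧ (stabPts A x).Finite

theorem IsPtStable.mem_orbit_of_eq [Algebra.FiniteType k R] (hG : IsLinearlyReductive k A) {x z : R →ₐ[k] k}
    (hx : IsPtStable k A x)
    (h : z.comp (GLin.invariants k A R).val = x.comp (GLin.invariants k A R).val) :
    ∃ g : A →ₐ[k] k, z = GLin.actPt k g x :=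
  hx.1 z (inOrbitClosure_symm_of_finite_stabPts hx.2 (hx.1.inOrbitClosure_of_eq hG h))

theorem isPtStable_iff_forall_fibre [Algebra.FiniteType k R] (hG : IsLinearlyReductive k A)
    (x : R →ₐ[k] k) :
    IsPtStable k A x ↔ ∀ z : R →ₐ[k] k,
      z.comp (GLin.invariants k A R).val = x.comp (GLin.invariants k A R).val → (stabPts A z).Finite := by
  refine ⟨fun hx z hz => ?_, fun H => ?_⟩
  · obtain ⟨g, rfl⟩ := hx.mem_orbit_of_eq hG hz
    exact stabPts_actPt g hx.2
  · obtain ⟨y, hxy, hy⟩ := exists_isClosedPtOrbit (A := A) x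
    have he : y.comp (GLin.invariants k A R).val = x.comp (GLin.invariants k A R).val :=
      AlgHom.ext fun f => apply_eq_of_inOrbitClosure hxy f.2
    obtain ⟨g, rfl⟩ := hy x (inOrbitClosure_symm_of_finite_stabPts (H y he) hxy)
    refine ⟨fun z hz => ?_, H _ rfl⟩
    exact exists_actPt_trans (exists_eq_actPt_symm ⟨g, rfl⟩) (hy z (inOrbitClosure_trans
      (inOrbitClosure_actPt g y) hz))

end Groth.Agent.HopfLib
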