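import Groth.Agent.HopfLib.RegularDerivations
import Groth.Agent.HopfLib.GITStable
import Groth.Agent.AlgSpLib.SmoothField
import Groth.Agent.DimLib.Algebra
import Mathlib.Algebra.DualNumber
import Mathlib.RingTheory.Ideal.Cotangent
import Mathlib.RingTheory.HopfAlgebra.TensorProduct
import Mathlib.RingTheory.LocalProperties.Reduced
import Mathlib.RingTheory.Smooth.Locus

/-!
# Cartier's theorem: affine algebraic groups in characteristic zero are smooth
-/

open TensorProduct HopfRep IsLocalRing

universe u v

namespace Groth.Agent.HopfLib

set_option linter.unusedSectionVars false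
set_option maxHeartbeats 800000

/-- A derivation extends to a localisation. -/
theorem exists_derivation_localization {A : Type u} [CommRing A] (S : Submonoid A) (L : Type u) [CommRing L]
    [Algebra A L] [IsLocalization S L] (D : Derivation ℤ A A) :
    ∃ D' : Derivation ℤ L L, ∀ a, D' (algebraMap A L a) = algebraMap A L (D a) := by
  let f : A →+* DualNumber L :=
    { toFun := fun a => TrivSqZeroExt.inl (algebraMap A L a) + TrivSqZeroExt.inr (algebraMap A L (D a))
      map_one' := by simp
      map_zero' := by simp
      map_add' := fun a b => by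
        simp only [map_add, TrivSqZeroExt.inl_add, TrivSqZeroExt.inr_add]; abel
      map_mul' := fun a b => by
        refine TrivSqZeroExt.ext ?_ ?_
        · simp
        · simp [DualNumber.snd_mul]
          simp only [Algebra.smul_def]
          ring }
  have hu : ∀ s : S, IsUnit (f s) := fun s =>
    TrivSqZeroExt.isUnit_iff_isUnit_fst.2 (by simpa [f] using IsLocalization.map_units L s)
  let g : L →+* DualNumber L := IsLocalization.lift hu
  have hg : ∀ l, (g l).fst = l := by
    have : (TrivSqZeroExt.fstHom L L L).toRingHom.comp g = RingHom.id L := by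
      refine IsLocalization.ringHom_ext S (RingHom.ext fun a => ?_)
      simp [g, IsLocalization.lift_eq, f]
    exact fun l => RingHom.congr_fun this l
  refine ⟨Derivation.mk' (AddMonoidHom.mk' (fun l => (g l).snd) fun a b => by simp).toIntLinearMap
    fun a b => ?_, fun a => ?_⟩
  · show (g (a * b)).snd = a • (g b).snd + b • (g a).snd
    rw [map_mul, DualNumber.snd_mul, hg, hg]
    simp [smul_eq_mul, mul_comm]
  · show (g (algebraMap A L a)).snd = _
    simp [g, IsLocalization.lift_eq, f]
    rw [← Algebra.algebraMap_eq_smul_one]

variable {k : Type u} [Field k] {A : Type v} [CommRing A] [HopfAlgebra k A]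

/-- Cartier: the local ring at the origin is regular. -/
theorem isRegularLocalRing_counit [CharZero k] [Algebra.FiniteType k A] (I : Ideal A) [I.IsPrime]
    (hI : I = RingHom.ker (Bialgebra.counitAlgHom k A)) :
    IsRegularLocalRing (Localization.AtPrime I) := by
  classical
  have : IsNoetherianRing A := Algebra.FiniteType.isNoetherianRing k A
  have hεI : ∀ a, a ∈ I ↔ CoalgebraStruct.counit (R := k) a = 0 := fun a => by
    rw [hI, RingHom.mem_ker]; rfl
  -- cotangent space
  have hsm : ∀ (a : A) (z : I), Submodule.Quotient.mk (p := I • (⊤ : Submodule A I)) (a • z) =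
      CoalgebraStruct.counit (R := k) a • Submodule.Quotient.mk (p := I • (⊤ : Submodule A I)) z := by
    intro a z
    rw [← Submodule.Quotient.mk_smul, ← algebraMap_smul A (CoalgebraStruct.counit (R := k) a) z,
      Submodule.Quotient.eq, ← sub_smul]
    refine Submodule.smul_mem_smul ?_ Submodule.mem_top
    simp [hεI]
  have hfin : Module.Finite k I.Cotangent := by
    obtain ⟨s, hs⟩ := Module.Finite.fg_top (R := A) (M := I)
    refine Module.Finite.of_surjective (Finsupp.linearCombination k fun y : s => I.toCotangent y) ?_
    intro q
    obtain ⟨m, rfl⟩ := Ideal.toCotangent_surjective I q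
    have hm : m ∈ Submodule.span A (s : Set I) := hs ▸ Submodule.mem_top
    obtain ⟨c, -, rfl⟩ := Submodule.mem_span_finset.1 hm
    refine ⟨Finsupp.equivFunOnFinite.symm fun y : s => CoalgebraStruct.counit (R := k) (c y), ?_⟩
    rw [Finsupp.linearCombination_apply, Finsupp.sum_fintype _ _ (by simp), map_sum]
    simp only [Finsupp.coe_equivFunOnFinite_symm]
    refine (Finset.sum_attach s (fun y => CoalgebraStruct.counit (R := k) (c y) • I.toCotangent y)).trans ?_
    exact Finset.sum_congr rfl fun y _ => (hsm (c y) y).symm
  let b := Module.finBasis k I.Cotangent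
  choose X hX using fun i => Ideal.toCotangent_surjective I (b i)
  -- left invariant derivations
  let p : A →ₗ[k] I :=
    { toFun := fun a => ⟨a - algebraMap k A (CoalgebraStruct.counit (R := k) a), by simp [hεI]⟩
      map_add' := fun a c => Subtype.ext (by simp; ring)
      map_smul' := fun r a => Subtype.ext (by
        simp [Algebra.smul_def, mul_sub, map_mul]) }
  let dl : Fin (Module.finrank k I.Cotangent) → A →ₗ[k] k := fun i =>
    b.coord i ∘ₗ (I.toCotangent.restrictScalars k) ∘ₗ p
  have hdl : ∀ i a c, dl i (a * c) =
      CoalgebraStruct.counit (R := k) a * dl i c + CoalgebraStruct.counit (R := k) c * dl i a := by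
    intro i a c
    have e : p (a * c) = a • p c + algebraMap k A (CoalgebraStruct.counit (R := k) c) • p a := by
      refine Subtype.ext ?_
      simp [p, Algebra.smul_def, map_mul]
      ring
    simp only [dl, LinearMap.comp_apply, e, LinearMap.coe_restrictScalars, map_add]
    rw [show I.toCotangent (a • p c) = CoalgebraStruct.counit (R := k) a • I.toCotangent (p c) from hsm _ _,
      show I.toCotangent (algebraMap k A (CoalgebraStruct.counit (R := k) c) • p a) =
        CoalgebraStruct.counit (R := k) c • I.toCotangent (p a) from by rw [algebraMap_smul, LinearMap.map_smul_of_tower],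
      map_smul, map_smul, smul_eq_mul, smul_eq_mul]
  let D0 : Fin (Module.finrank k I.Cotangent) → A →ₗ[k] A := fun i => hit (dl i)
  have hD0 : ∀ i a c, D0 i (a * c) = a • D0 i c + c • D0 i a := by
    intro i a c
    simp only [D0, hit_apply, show ∀ z, Comod.coact (k := k) (A := A) (V := A) z = CoalgebraStruct.comul (R := k) z
      from fun z => rfl, Bialgebra.comul_mul]
    let e : A ⊗[k] A →ₗ[k] A := (TensorProduct.rid k A).toLinearMap ∘ₗ (CoalgebraStruct.counit (R := k) (A := A)).lTensor A
    have he : ∀ z, e (CoalgebraStruct.comul (R := k) z) = z := fun z => by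
      simp [e, Coalgebra.lTensor_counit_comul]
    have key : ∀ s t, sliceR (dl i) (s * t) = e s • sliceR (dl i) t + e t • sliceR (dl i) s := by
      intro s t
      induction s using TensorProduct.induction_on with
      | zero => simp
      | add p q hp hq => simp only [map_add, add_mul, hp, hq, smul_add, add_smul]; abel
      | tmul a1 a2 =>
        induction t using TensorProduct.induction_on with
        | zero => simp
        | add p q hp hq => simp only [map_add, mul_add, hp, hq, smul_add, add_smul]; abel
        | tmul c1 c2 =>
          simp [e, hdl, Algebra.smul_def, map_mul]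
          ring
    rw [key, he, he]
  let D : Fin (Module.finrank k I.Cotangent) → Derivation ℤ A A := fun i =>
    Derivation.mk' ((D0 i).restrictScalars ℤ) (hD0 i)
  choose D' hD' using fun i => exists_derivation_localization I.primeCompl (Localization.AtPrime I) (D i)
  have hεD : ∀ i a, CoalgebraStruct.counit (R := k) (D0 i a) = dl i a := by
    intro i a
    simp only [D0, hit_apply]
    rw [show Comod.coact (k := k) (A := A) a = CoalgebraStruct.comul (R := k) a from rfl]
    have h := congrArg (fun t => dl i (TensorProduct.lid k A t)) (Coalgebra.rTensor_counit_comul (R := k) a)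
    simp only [TensorProduct.lid_tmul, one_smul] at h
    refine Eq.trans ?_ h
    generalize CoalgebraStruct.comul (R := k) a = t
    induction t using TensorProduct.induction_on with
    | zero => simp
    | add p q hp hq => simp only [map_add, hp, hq]
    | tmul a1 a2 => simp [mul_comm]
  refine isRegularLocalRing_of_derivations (fun i => algebraMap A (Localization.AtPrime I) (X i : A)) ?_ D'
    (fun i j => ?_) ?_
  · -- Nakayama
    have hle : Ideal.span (Set.range fun i => algebraMap A (Localization.AtPrime I) (X i : A)) ≤
        maximalIdeal (Localization.AtPrime I) := by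
      rw [Ideal.span_le]
      rintro - ⟨i, rfl⟩
      rw [← Localization.AtPrime.map_eq_maximalIdeal]
      exact Ideal.mem_map_of_mem _ (X i).2
    refine le_antisymm hle ?_
    refine Submodule.le_of_le_smul_of_le_jacobson_bot (IsNoetherian.noetherian _)
      (IsLocalRing.jacobson_eq_maximalIdeal ⊥ bot_ne_top).ge ?_
    conv_lhs => rw [← Localization.AtPrime.map_eq_maximalIdeal]
    rw [Ideal.map_le_iff_le_comap]
    intro a ha
    rw [Ideal.mem_comap]
    have h := b.sum_repr (I.toCotangent ⟨a, ha⟩)
    simp only [← hX, ← LinearMap.map_smul_of_tower, ← map_sum] at h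
    rw [eq_comm, Ideal.toCotangent_eq] at h
    rw [← sub_add_cancel a ((∑ i, b.repr (I.toCotangent ⟨a, ha⟩) i • X i : I) : A), map_add, add_comm]
    refine Submodule.add_mem_sup ?_ ?_
    · rw [Submodule.coe_sum, map_sum]
      refine sum_mem fun i _ => ?_
      rw [Submodule.coe_smul_of_tower, Algebra.smul_def, map_mul]
      exact Ideal.mul_mem_left _ _ (Ideal.subset_span ⟨i, rfl⟩)
    · have h2 := Ideal.mem_map_of_mem (algebraMap A (Localization.AtPrime I)) h
      rwa [Ideal.map_pow, Localization.AtPrime.map_eq_maximalIdeal, sq] at h2
  · rw [hD']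
    rw [← show algebraMap A (Localization.AtPrime I) (if i = j then 1 else 0) = (if i = j then 1 else 0) by
      split_ifs <;> simp, ← map_sub, ← Localization.AtPrime.map_eq_maximalIdeal]
    refine Ideal.mem_map_of_mem _ ((hεI _).2 ?_)
    rw [map_sub, show CoalgebraStruct.counit (R := k) (D i (X j : A)) = dl i (X j : A) from hεD i _]
    have : dl i (X j : A) = if j = i then 1 else 0 := by
      simp only [dl, LinearMap.comp_apply]
      rw [show p (X j : A) = X j from Subtype.ext (by simp [p, (hεI _).1 (X j).2])]
      simp [hX, Finsupp.single_apply]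
    rw [this]
    by_cases h : i = j
    · subst h; simp
    · rw [if_neg h, if_neg (Ne.symm h)]; simp
  · intro d hd
    rw [← map_natCast (algebraMap k (Localization.AtPrime I))]
    exact (IsUnit.mk0 _ (Nat.cast_ne_zero.2 hd.ne')).map _

theorem isRegularLocalRing_point [CharZero k] [Algebra.FiniteType k A] (g : A →ₐ[k] k) (m : Ideal A) [m.IsPrime]
    (hm : m = RingHom.ker g) : IsRegularLocalRing (Localization.AtPrime m) := by
  let g' := g.comp (HopfAlgebra.antipodeAlgHom k A)
  let T : (A →ₐ[k] k) → (A →ₐ[k] A) := fun h =>
    (Algebra.TensorProduct.rid k k A).toAlgHom.comp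
      ((Algebra.TensorProduct.map (AlgHom.id k A) h).comp (Bialgebra.comulAlgHom k A))
  have hT : ∀ h a, T h a = hit h.toLinearMap a := by
    intro h a
    simp only [T, AlgHom.comp_apply, Bialgebra.comulAlgHom_apply, hit_apply]
    rw [show Comod.coact (k := k) (A := A) a = CoalgebraStruct.comul (R := k) a from rfl]
    generalize CoalgebraStruct.comul (R := k) a = t
    induction t using TensorProduct.induction_on with
    | zero => simp
    | add p q hp hq => simp only [map_add, hp, hq]
    | tmul p q => simp
  have h12 : formMul g.toLinearMap g'.toLinearMap = CoalgebraStruct.counit (R := k) (A := A) ∧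
      formMul g'.toLinearMap g.toLinearMap = CoalgebraStruct.counit (R := k) (A := A) := by
    constructor
    all_goals
      refine LinearMap.ext fun a => ?_
    · have := congrArg g (HopfAlgebra.mul_antipode_lTensor_comul_apply (R := k) a)
      simp only [AlgHom.commutes] at this
      refine Eq.trans ?_ this
      simp only [formMul, LinearMap.comp_apply]
      generalize CoalgebraStruct.comul (R := k) a = t
      induction t using TensorProduct.induction_on with
      | zero => simp
      | add p q hp hq => simp only [map_add, hp, hq]
      | tmul p q => simp [g']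
    · have := congrArg g (HopfAlgebra.mul_antipode_rTensor_comul_apply (R := k) a)
      simp only [AlgHom.commutes] at this
      refine Eq.trans ?_ this
      simp only [formMul, LinearMap.comp_apply]
      generalize CoalgebraStruct.comul (R := k) a = t
      induction t using TensorProduct.induction_on with
      | zero => simp
      | add p q hp hq => simp only [map_add, hp, hq]
      | tmul p q => simp [g']
  have hbij : Function.Bijective (T g) := by
    refine Function.bijective_iff_has_inverse.2 ⟨T g', fun a => ?_, fun a => ?_⟩
    · rw [hT, hT, hit_hit, h12.2, hit_counit]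
    · rw [hT, hT, hit_hit, h12.1, hit_counit]
  let τ : A ≃+* A := RingEquiv.ofBijective (T g) hbij
  let I : Ideal A := RingHom.ker (Bialgebra.counitAlgHom k A)
  have : I.IsPrime := RingHom.ker_isPrime _
  have hcomap : m = I.comap τ.toRingHom := by
    ext a
    rw [hm, Ideal.mem_comap]
    simp only [I, RingHom.mem_ker]
    show g a = 0 ↔ CoalgebraStruct.counit (R := k) (T g a) = 0
    have : CoalgebraStruct.counit (R := k) (T g a) = g a := by
      simp only [T, AlgHom.comp_apply, Bialgebra.comulAlgHom_apply]
      have h := congrArg (fun t => g (TensorProduct.lid k A t)) (Coalgebra.rTensor_counit_comul (R := k) a)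
      simp only [TensorProduct.lid_tmul, one_smul] at h
      refine Eq.trans ?_ h
      generalize CoalgebraStruct.comul (R := k) a = t
      induction t using TensorProduct.induction_on with
      | zero => simp
      | add p q hp hq => simp only [map_add, hp, hq]
      | tmul p q => simp [mul_comm]
    rw [this]
  have hr := isRegularLocalRing_counit (k := k) I rfl
  have hmap : m.primeCompl.map τ.toMonoidHom = I.primeCompl := by
    ext b
    constructor
    · rintro ⟨a, ha, rfl⟩
      exact fun hb => ha (by rw [hcomap]; exact hb)
    · intro hb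
      exact ⟨τ.symm b, fun ha => hb (by rw [hcomap] at ha; simpa using ha), τ.apply_symm_apply b⟩
  exact IsRegularLocalRing.of_ringEquiv
    (IsLocalization.ringEquivOfRingEquiv (M := m.primeCompl) (T := I.primeCompl) (Localization.AtPrime m)
      (Localization.AtPrime I) τ hmap).symm

/-- Over an algebraically closed field of characteristic zero all local rings at closed points are regular. -/
theorem isRegularLocalRing_of_isMaximal [IsAlgClosed k] [CharZero k] [Algebra.FiniteType k A]
    (m : Ideal A) [hm : m.IsMaximal] : IsRegularLocalRing (Localization.AtPrime m) := by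
  obtain ⟨g, hg⟩ := exists_algHom_le_ker (k := k) hm.ne_top
  exact isRegularLocalRing_point g m (hm.eq_of_le (RingHom.ker_ne_top _) hg)

theorem isReduced_of_charZero_isAlgClosed [IsAlgClosed k] [CharZero k] [Algebra.FiniteType k A] : IsReduced A := by
  refine isReduced_ofLocalizationMaximal A fun m _ => ?_
  have := isRegularLocalRing_of_isMaximal (k := k) m
  have := CAlgH3.isDomain_of_isRegularLocalRing (Localization.AtPrime m)
  infer_instance

/-- Cartier's theorem. -/
theorem isReduced_of_charZero [CharZero k] [Algebra.FiniteType k A] : IsReduced A := by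
  let K := AlgebraicClosure k
  have : CharZero K := charZero_of_injective_algebraMap (algebraMap k K).injective
  have : Algebra.FiniteType K (K ⊗[k] A) := Algebra.FiniteType.baseChange (A := A) K
  have : IsReduced (K ⊗[k] A) := isReduced_of_charZero_isAlgClosed (k := K)
  exact isReduced_of_injective (Algebra.TensorProduct.includeRight : A →ₐ[k] K ⊗[k] A)
    (Algebra.TensorProduct.includeRight_injective (algebraMap k K).injective)

section OneUniverse

variable {A : Type u} [CommRing A] [HopfAlgebra k A]

theorem smooth_of_charZero [CharZero k] [Algebra.FiniteType k A] : Algebra.Smooth k A := by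
  let K := AlgebraicClosure k
  have : CharZero K := charZero_of_injective_algebraMap (algebraMap k K).injective
  have : Algebra.FiniteType K (K ⊗[k] A) := Algebra.FiniteType.baseChange (A := A) K
  have : IsNoetherianRing A := Algebra.FiniteType.isNoetherianRing k A
  have hfp : Algebra.FinitePresentation k A := Algebra.FinitePresentation.of_finiteType.1 inferInstance
  refine ⟨AlgSpLib.SmoothField.formallySmooth_of_baseChange k K A ?_, hfp⟩
  have : IsNoetherianRing K := inferInstance
  have : Algebra.FinitePresentation K (K ⊗[k] A) := Algebra.FinitePresentation.of_finiteType.1 inferInstance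
  rw [← Algebra.smoothLocus_eq_univ_iff, Set.eq_univ_iff_forall]
  intro p
  obtain ⟨m, hm, hle⟩ := p.asIdeal.exists_le_maximal p.isPrime.ne_top
  have h : (⟨m, hm.isPrime⟩ : PrimeSpectrum (K ⊗[k] A)) ∈ Algebra.smoothLocus K (K ⊗[k] A) :=
    (AlgSpLib.SmoothField.isSmoothAt_iff_regular K (K ⊗[k] A) m).2 (isRegularLocalRing_of_isMaximal (k := K) m)
  exact ((PrimeSpectrum.le_iff_specializes p ⟨m, hm.isPrime⟩).1 hle).mem_open Algebra.isOpen_smoothLocus h

/-- All closed points of an algebraic group have local rings of the full dimension. -/
theorem ringKrullDim_localization_eq [IsAlgClosed k] [Algebra.FiniteType k A] (m : Ideal A) [m.IsMaximal] :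
    ringKrullDim (Localization.AtPrime m) = ringKrullDim A := by
  have : IsNoetherianRing A := Algebra.FiniteType.isNoetherianRing k A
  rw [IsLocalization.AtPrime.ringKrullDim_eq_height m]
  refine le_antisymm (Ideal.height_le_ringKrullDim_of_ne_top (Ideal.IsMaximal.ne_top ‹_›)) ?_
  obtain ⟨P, hP, hPle⟩ := Ideal.exists_minimalPrimes_le (I := (⊥ : Ideal A)) (J := m) bot_le
  have := hP.1.1
  have hdim : ∀ Q ∈ minimalPrimes A, ringKrullDim (A ⧸ Q) = ringKrullDim (A ⧸ P) := by
    intro Q hQ
    obtain ⟨g, rfl⟩ := exists_comap_actAlgHom_eq (k := k) hP hQ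
    exact ringKrullDim_quotient_comap_eq _ (actAlgHom_bijective g) P
  have hmP : (m.map (Ideal.Quotient.mk P)).IsMaximal :=
    Ideal.IsMaximal.map_of_surjective_of_ker_le Ideal.Quotient.mk_surjective (by rwa [Ideal.mk_ker])
  have h1 : ringKrullDim (A ⧸ P) ≤ (m.height : WithBot ℕ∞) := by
    rw [← DimLib.height_eq_of_isMaximal (k := k) (m.map (Ideal.Quotient.mk P))]
    refine WithBot.coe_le_coe.2 ?_
    let q : PrimeSpectrum (A ⧸ P) := ⟨_, hmP.isPrime⟩
    let f : PrimeSpectrum (A ⧸ P) → PrimeSpectrum A := PrimeSpectrum.comap (Ideal.Quotient.mk P)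
    have hf : StrictMono f := Monotone.strictMono_of_injective
      (fun a b h => Ideal.comap_mono h) (PrimeSpectrum.comap_injective_of_surjective _ Ideal.Quotient.mk_surjective)
    have h2 := Order.height_le_height_apply_of_strictMono f hf q
    rw [← PrimeSpectrum.height_eq_orderHeight, ← PrimeSpectrum.height_eq_orderHeight] at h2
    refine h2.trans (le_of_eq ?_)
    congr 1
    show (m.map (Ideal.Quotient.mk P)).comap (Ideal.Quotient.mk P) = m
    rw [Ideal.comap_map_of_surjective _ Ideal.Quotient.mk_surjective, ← RingHom.ker_eq_comap_bot, Ideal.mk_ker,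
      sup_eq_left.2 hPle]
  refine le_trans ?_ h1
  rw [ringKrullDim]
  refine iSup_le fun l => ?_
  obtain ⟨Q, hQ, hQle⟩ := Ideal.exists_minimalPrimes_le (I := (⊥ : Ideal A)) (J := l.head.asIdeal) bot_le
  rw [← hdim Q hQ, ringKrullDim_quotient]
  let l' : LTSeries (PrimeSpectrum.zeroLocus (Q : Set A)) :=
    LTSeries.mk l.length (fun i => ⟨l i, fun x hx => (l.monotone (Fin.zero_le i)) (hQle hx)⟩)
      (fun i j h => l.strictMono h)
  exact le_iSup_of_le l' le_rfl

end OneUniverse

end Groth.Agent.HopfLib
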