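import Groth.Agent.HopfLib.ComodSubcoalg
import Mathlib.RingTheory.Bialgebra.Basic
import Mathlib.RingTheory.Bialgebra.Hom
import Mathlib.LinearAlgebra.Dual.Lemmas
import Mathlib.Order.Monotone.Basic

/-!
# Flags of comodules; unipotent and trigonalizable groups
-/

open TensorProduct HopfRep

universe u v w

namespace Groth.Agent.HopfLib

set_option linter.unusedSectionVars false
set_option maxHeartbeats 400000

variable {k : Type u} [Field k] {A : Type v} [CommRing A] [Bialgebra k A]

theorem hit_of_coact_eq {V : Type w} [AddCommGroup V] [Module k V] [Comod k A V] (g : A →ₗ[k] k)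
    {v : V} (hv : v ∈ fixedPts k A V) : hit g v = g 1 • v := by
  rw [hit_apply, show Comod.coact (k := k) (A := A) v = v ⊗ₜ (1 : A) from hv, sliceR_tmul]

theorem mem_fixedPts_of_hit {V : Type w} [AddCommGroup V] [Module k V] [Comod k A V] {v : V}
    (h : ∀ g : A →ₗ[k] k, g 1 = 0 → hit g v = 0) : v ∈ fixedPts k A V := by
  refine eq_of_forall_sliceR_eq fun g => ?_
  have h' := h (g - g 1 • CoalgebraStruct.counit) (by simp [Bialgebra.counit_one])
  have e : hit (g - g 1 • CoalgebraStruct.counit (R := k) (A := A)) v = hit g v - g 1 • v := by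
    rw [sub_eq_add_neg, ← neg_one_smul k, hit_add, hit_smul, hit_smul]
    simp [sub_eq_add_neg]
  rw [e, sub_eq_zero] at h'
  rw [sliceR_tmul]
  exact h'

theorem isSubcomod_fixedPts {V : Type w} [AddCommGroup V] [Module k V] [Comod k A V] :
    IsSubcomod (k := k) (A := A) (fixedPts k A V) :=
  isSubcomod_iff_hit.2 fun g v hv => by
    rw [hit_of_coact_eq g hv]; exact Submodule.smul_mem _ _ hv

theorem exists_succ_trigonalizable (hT : IsTrigonalizable k A) {V : Type v} [AddCommGroup V] [Module k V]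
    [cV : Comod k A V] [Module.Finite k V] {S : Submodule k V} (hS : IsSubcomod (k := k) (A := A) S)
    (hne : S ≠ ⊤) : ∃ T : Submodule k V, S ≤ T ∧ IsSubcomod (k := k) (A := A) T ∧
      Module.finrank k T = Module.finrank k S + 1 := by
  let cQ := ComodSub.Comod.quot cV S hS
  have hq : Hoch.IsComodHom A S.mkQ := ComodSub.isComodHom_mkQ cV S hS
  have : Nontrivial (V ⧸ S) := Submodule.Quotient.nontrivial_iff.2 hne
  obtain ⟨L, -, hL⟩ := exists_isSimpleSub_le (k := k) (A := A)
    (isSubcomod_top (V := V ⧸ S)) top_ne_bot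
  let cL := ComodSub.Comod.restr cQ L hL.1
  have h1 : Module.finrank k L = 1 := hT L inferInstance (isSimpleComod_restr hL)
  refine ⟨L.comap S.mkQ, fun x hx => ?_, isSubcomod_comap hq hL.1, ?_⟩
  · rw [Submodule.mem_comap, Submodule.mkQ_apply, (Submodule.Quotient.mk_eq_zero S).2 hx]
    exact zero_mem _
  · have h2 := LinearMap.finrank_range_add_finrank_ker (S.mkQ.submoduleComap L)
    have h3 : LinearMap.range (S.mkQ.submoduleComap L) = ⊤ :=
      LinearMap.range_eq_top.2 (LinearMap.submoduleComap_surjective_of_surjective _ _ S.mkQ_surjective)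
    have h4 : Module.finrank k (LinearMap.ker (S.mkQ.submoduleComap L)) = Module.finrank k S := by
      have e : LinearMap.ker (S.mkQ.submoduleComap L) = S.comap (L.comap S.mkQ).subtype := by
        ext x
        rw [LinearMap.mem_ker, Submodule.mem_comap, Subtype.ext_iff, LinearMap.submoduleComap_apply_coe]
        exact Submodule.Quotient.mk_eq_zero S
      rw [e]
      exact (Submodule.comapSubtypeEquivOfLe (by
        intro x hx
        rw [Submodule.mem_comap, Submodule.mkQ_apply, (Submodule.Quotient.mk_eq_zero S).2 hx]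
        exact zero_mem _)).finrank_eq
    rw [h3, finrank_top, h1, h4] at h2
    omega

theorem exists_succ_unipotent (hU : IsUnipotent k A) {V : Type v} [AddCommGroup V] [Module k V]
    [cV : Comod k A V] [Module.Finite k V] {S : Submodule k V} (hS : IsSubcomod (k := k) (A := A) S)
    (hne : S ≠ ⊤) : ∃ T : Submodule k V, S < T ∧ IsSubcomod (k := k) (A := A) T ∧
      ∀ v ∈ T, Comod.coact (k := k) (A := A) v - v ⊗ₜ[k] (1 : A) ∈ LinearMap.range (S.subtype.rTensor A) := by
  let cQ := ComodSub.Comod.quot cV S hS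
  have hq : Hoch.IsComodHom A S.mkQ := ComodSub.isComodHom_mkQ cV S hS
  have hnt : Nontrivial (V ⧸ S) := Submodule.Quotient.nontrivial_iff.2 hne
  refine ⟨(fixedPts k A (V ⧸ S)).comap S.mkQ, lt_of_le_of_ne (fun x hx => ?_) ?_,
    isSubcomod_comap hq isSubcomod_fixedPts, fun v hv => mem_range_rTensor_subtype_iff.2 fun g => ?_⟩
  · rw [Submodule.mem_comap, Submodule.mkQ_apply, (Submodule.Quotient.mk_eq_zero S).2 hx]
    exact zero_mem _
  · intro h
    refine hU (V ⧸ S) inferInstance hnt ((Submodule.eq_bot_iff _).2 fun q hq' => ?_)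
    obtain ⟨x, rfl⟩ := S.mkQ_surjective q
    have : x ∈ S := h ▸ hq'
    exact (Submodule.Quotient.mk_eq_zero S).2 this
  · rw [map_sub, sliceR_tmul, ← Submodule.Quotient.mk_eq_zero S, ← Submodule.mkQ_apply, map_sub, map_smul,
      ← hit_apply, IsComodHom.hit_apply hq, hit_of_coact_eq g (hv : S.mkQ v ∈ fixedPts k A (V ⧸ S)), sub_self]

theorem exists_flag {V : Type v} [AddCommGroup V] [Module k V] [cV : Comod k A V]
    (P : Submodule k V → Submodule k V → Prop) (hP : P ⊤ ⊤)
    (h : ∀ S : Submodule k V, IsSubcomod (k := k) (A := A) S → S ≠ ⊤ →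
      ∃ T, S ≤ T ∧ IsSubcomod (k := k) (A := A) T ∧ P S T) :
    ∃ F : ℕ → Submodule k V, Monotone F ∧ F 0 = ⊥ ∧ (∀ i, IsSubcomod (k := k) (A := A) (F i)) ∧
      ∀ i, P (F i) (F (i + 1)) := by
  classical
  have h' : ∀ S : {S : Submodule k V // IsSubcomod (k := k) (A := A) S},
      ∃ T : {S : Submodule k V // IsSubcomod (k := k) (A := A) S}, S.1 ≤ T.1 ∧ P S.1 T.1 := fun S => by
    by_cases hS : S.1 = ⊤
    · exact ⟨S, le_rfl, by rw [hS]; exact hP⟩
    · obtain ⟨T, h1, h2, h3⟩ := h S.1 S.2 hS
      exact ⟨⟨T, h2⟩, h1, h3⟩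
  choose next hle hPn using h'
  let G : ℕ → {S : Submodule k V // IsSubcomod (k := k) (A := A) S} :=
    fun i => Nat.rec ⟨⊥, isSubcomod_bot⟩ (fun _ S => next S) i
  exact ⟨fun i => (G i).1, monotone_nat_of_le_succ fun i => hle (G i), rfl, fun i => (G i).2,
    fun i => hPn (G i)⟩

theorem exists_flag_trigonalizable (hT : IsTrigonalizable k A) {V : Type v} [AddCommGroup V] [Module k V]
    [cV : Comod k A V] [Module.Finite k V] :
    ∃ F : ℕ → Submodule k V, Monotone F ∧ F 0 = ⊥ ∧ (∀ i, IsSubcomod (k := k) (A := A) (F i)) ∧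
      ∀ i, i ≤ Module.finrank k V → Module.finrank k (F i) = i := by
  obtain ⟨F, hF, h0, hs, hP⟩ := exists_flag (k := k) (A := A) (V := V)
    (fun S T => Module.finrank k T = min (Module.finrank k S + 1) (Module.finrank k V))
    (by simp) (fun S hS hne => by
      obtain ⟨T, h1, h2, h3⟩ := exists_succ_trigonalizable hT hS hne
      refine ⟨T, h1, h2, ?_⟩
      have := Submodule.finrank_le T
      omega)
  refine ⟨F, hF, h0, hs, fun i => ?_⟩
  induction i with
  | zero => intro _; rw [h0, finrank_bot]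
  | succ i ih => intro hi; rw [hP i, ih (by omega)]; omega

theorem exists_flag_unipotent (hU : IsUnipotent k A) {V : Type v} [AddCommGroup V] [Module k V]
    [cV : Comod k A V] [Module.Finite k V] :
    ∃ F : ℕ → Submodule k V, Monotone F ∧ F 0 = ⊥ ∧ F (Module.finrank k V) = ⊤ ∧
      (∀ i, IsSubcomod (k := k) (A := A) (F i)) ∧
      ∀ i, ∀ v ∈ F (i + 1), Comod.coact (k := k) (A := A) v - v ⊗ₜ[k] (1 : A) ∈
        LinearMap.range ((F i).subtype.rTensor A) := by
  obtain ⟨F, hF, h0, hs, hP⟩ := exists_flag (k := k) (A := A) (V := V)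
    (fun S T => (S = ⊤ ∨ Module.finrank k S < Module.finrank k T) ∧
      ∀ v ∈ T, Comod.coact (k := k) (A := A) v - v ⊗ₜ[k] (1 : A) ∈ LinearMap.range (S.subtype.rTensor A))
    ⟨Or.inl rfl, fun v _ => mem_range_rTensor_subtype_iff.2 fun _ => trivial⟩
    (fun S hS hne => by
      obtain ⟨T, h1, h2, h3⟩ := exists_succ_unipotent hU hS hne
      exact ⟨T, h1.le, h2, Or.inr (Submodule.finrank_lt_finrank_of_lt h1), h3⟩)
  have key : ∀ i, F i = ⊤ ∨ i ≤ Module.finrank k (F i) := by
    intro i
    induction i with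
    | zero => exact Or.inr (Nat.zero_le _)
    | succ i ih =>
      rcases ih with h | h
      · exact Or.inl (top_le_iff.1 (h ▸ hF (Nat.le_succ i)))
      · rcases (hP i).1 with h' | h'
        · exact Or.inl (top_le_iff.1 (h' ▸ hF (Nat.le_succ i)))
        · exact Or.inr (by omega)
  refine ⟨F, hF, h0, ?_, hs, fun i => (hP i).2⟩
  rcases key (Module.finrank k V) with h | h
  · exact h
  · exact Submodule.eq_top_of_finrank_eq (le_antisymm (Submodule.finrank_le _) h)

theorem isUnipotent_of_flag {V : Type v} [AddCommGroup V] [Module k V] [Comod k A V] [Nontrivial V]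
    (m : ℕ) (F : ℕ → Submodule k V) (h0 : F 0 = ⊥) (hm : F m = ⊤)
    (hstep : ∀ i, ∀ v ∈ F (i + 1), Comod.coact (k := k) (A := A) v - v ⊗ₜ[k] (1 : A) ∈
      LinearMap.range ((F i).subtype.rTensor A)) : fixedPts k A V ≠ ⊥ := by
  classical
  have hex : ∃ i, F i ≠ ⊥ := ⟨m, by rw [hm]; exact top_ne_bot⟩
  obtain ⟨i, hi⟩ : ∃ i, Nat.find hex = i + 1 :=
    Nat.exists_eq_succ_of_ne_zero fun h => Nat.find_spec hex (h ▸ h0)
  have hne : F (i + 1) ≠ ⊥ := hi ▸ Nat.find_spec hex
  have hbot : F i = ⊥ := not_not.1 (Nat.find_min hex (m := i) (by omega))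
  obtain ⟨v, hv, hv0⟩ := (F (i + 1)).exists_mem_ne_zero_of_ne_bot hne
  refine (Submodule.ne_bot_iff _).2 ⟨v, ?_, hv0⟩
  refine eq_of_forall_sliceR_eq fun g => ?_
  have h := sliceR_mem_of_mem_range (hstep i v hv) g
  rw [hbot, Submodule.mem_bot, map_sub, sub_eq_zero] at h
  exact h

/-! ### The filtration of a unipotent coordinate ring -/

/-- The socle filtration of the regular comodule, shifted by one. -/
noncomputable def socFil (k : Type u) [Field k] (A : Type v) [CommRing A] [Bialgebra k A] : ℕ → Submodule k A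
  | 0 => ⊥
  | r + 1 => ⨅ g : {g : A →ₗ[k] k // g 1 = 0}, (socFil k A r).comap (hit (V := A) g.1)

theorem mem_socFil_succ {r : ℕ} {a : A} :
    a ∈ socFil k A (r + 1) ↔ ∀ g : A →ₗ[k] k, g 1 = 0 → hit (V := A) g a ∈ socFil k A r := by
  simp [socFil, Submodule.mem_iInf]

theorem formMul_one (g h : A →ₗ[k] k) : formMul g h 1 = g 1 * h 1 := by
  simp [formMul, Algebra.TensorProduct.one_def]

theorem socFil_stable (r : ℕ) : ∀ (g : A →ₗ[k] k), ∀ a ∈ socFil k A r,
    hitR g a ∈ socFil k A r ∧ hitL g a ∈ socFil k A r := by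
  induction r with
  | zero =>
    intro g a ha
    rw [socFil, Submodule.mem_bot] at ha
    simp [ha]
  | succ r ih =>
    intro g a ha
    refine ⟨mem_socFil_succ.2 fun h hh => ?_, mem_socFil_succ.2 fun h hh => ?_⟩
    · change hit h (hit g a) ∈ _
      rw [hit_hit]
      exact mem_socFil_succ.1 ha _ (by rw [formMul_one, hh, zero_mul])
    · change hitR h (hitL g a) ∈ _
      rw [hitR_hitL]
      exact (ih g _ (mem_socFil_succ.1 ha h hh)).2

theorem socFil_one : socFil k A 1 = Submodule.span k {(1 : A)} := by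
  have hone : ∀ g : A →ₗ[k] k, hit (V := A) g (1 : A) = g 1 • 1 := fun g => by
    rw [hit_apply, show Comod.coact (k := k) (A := A) (1 : A) = (1 : A ⊗[k] A) from Bialgebra.comul_one,
      Algebra.TensorProduct.one_def, sliceR_tmul]
  refine le_antisymm (fun a ha => ?_) ((Submodule.span_singleton_le_iff_mem _ _).2
    (mem_socFil_succ.2 fun g hg => by rw [hone, hg, zero_smul]; exact zero_mem _))
  have hfix : a ∈ fixedPts k A A := mem_fixedPts_of_hit fun g hg => by
    simpa [socFil] using mem_socFil_succ.1 ha g hg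
  have h := Coalgebra.rTensor_counit_comul (R := k) a
  rw [show Coalgebra.comul (R := k) a = a ⊗ₜ (1 : A) from hfix, LinearMap.rTensor_tmul] at h
  have h2 := congrArg (TensorProduct.lid k A) h
  simp only [TensorProduct.lid_tmul, one_smul] at h2
  exact Submodule.mem_span_singleton.2 ⟨_, h2⟩

theorem socFil_mono : Monotone (socFil k A) := monotone_nat_of_le_succ fun r => by
  induction r with
  | zero => exact bot_le
  | succ r ih => exact fun a ha => mem_socFil_succ.2 fun g hg => ih (mem_socFil_succ.1 ha g hg)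

theorem iSup_socFil_eq_top (hU : IsUnipotent k A) : (⨆ r, socFil k A (r + 1)) = ⊤ := by
  rw [eq_top_iff]
  intro a _
  have hs := isSubcomod_orbit (k := k) (A := A) (V := A) a
  let cO := ComodSub.Comod.restr (Comod.regular k A) (orbit k A a) hs
  have := finite_orbit (k := k) (A := A) (V := A) a
  obtain ⟨F, -, h0, htop, -, hstep⟩ := exists_flag_unipotent hU (V := orbit k A a)
  have hi := ComodSub.isComodHom_subtype (Comod.regular k A) (orbit k A a) hs
  have key : ∀ i, ∀ x ∈ F i, (x : A) ∈ socFil k A i := by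
    intro i
    induction i with
    | zero => intro x hx; rw [h0, Submodule.mem_bot] at hx; simp [hx]
    | succ i ih =>
      intro x hx
      refine mem_socFil_succ.2 fun g hg => ?_
      have h := sliceR_mem_of_mem_range (hstep i x hx) g
      rw [map_sub, sliceR_tmul, hg, zero_smul, sub_zero, ← hit_apply] at h
      have h2 := ih _ h
      rwa [hit_restr hs] at h2
  exact Submodule.mem_iSup_of_mem _
    (socFil_mono (Nat.le_succ _) (key _ ⟨a, mem_orbit_self a⟩ (htop.ge Submodule.mem_top)))

/-- Forms killing the `p`-th step shift the filtration down by `p`. -/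
theorem hit_mem_socFil : ∀ (p r : ℕ) (g : A →ₗ[k] k), (∀ x ∈ socFil k A p, g x = 0) →
    ∀ a ∈ socFil k A r, hit (V := A) g a ∈ socFil k A (r - p) := by
  intro p
  induction p with
  | zero => intro r g _ a ha; exact (socFil_stable r g a ha).1
  | succ p ih =>
    intro r g hg a ha
    cases r with
    | zero => rw [socFil, Submodule.mem_bot] at ha; simp [ha]
    | succ r =>
      obtain ⟨B, hfin, haB, hB⟩ := exists_finite_subcoalgebra (K := k) (C := A) {a} (Set.finite_singleton a)
      let s : Set (Module.Dual k B) :=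
        {ψ | ∃ φ h : A →ₗ[k] k, (∀ x ∈ socFil k A p, φ x = 0) ∧ h 1 = 0 ∧ ψ = formMul φ h ∘ₗ B.subtype}
      have hgB : g ∘ₗ B.subtype ∈ Submodule.span k s := by
        rw [← Subspace.dualCoannihilator_dualAnnihilator_eq (W := Submodule.span k s),
          Submodule.mem_dualAnnihilator]
        intro x hx
        rw [Submodule.mem_dualCoannihilator] at hx
        refine hg _ (mem_socFil_succ.2 fun h hh => ?_)
        by_contra hne
        obtain ⟨φ, hφ, hφ0⟩ := Submodule.exists_dual_map_eq_bot_of_notMem hne inferInstance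
        have hφ' : ∀ y ∈ socFil k A p, φ y = 0 := fun y hy => by
          rw [← Submodule.mem_bot k, ← hφ0]; exact Submodule.mem_map_of_mem hy
        refine hφ ?_
        have h1 := hx _ (Submodule.subset_span ⟨φ, h, hφ', hh, rfl⟩)
        have h2 : formMul φ h (x : A) = φ (hit (V := A) h (x : A)) := by
          rw [hit_apply, show Comod.coact (k := k) (A := A) (x : A) =
            CoalgebraStruct.comul (R := k) (x : A) from rfl]
          simp only [formMul, LinearMap.comp_apply]
          generalize CoalgebraStruct.comul (R := k) (x : A) = t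
          induction t using TensorProduct.induction_on with
          | zero => simp
          | add p q hp hq => simp only [map_add, hp, hq]
          | tmul a b => simp [mul_comm]
        exact h2.symm.trans h1
      have hmem : ∀ f₁ f₂ : A →ₗ[k] k, f₁ ∘ₗ B.subtype = f₂ ∘ₗ B.subtype →
          hit (V := A) f₁ a = hit f₂ a := by
        intro f₁ f₂ hf
        obtain ⟨t, ht⟩ := hB a (haB rfl)
        rw [hit_apply, hit_apply, show Comod.coact (k := k) (A := A) a =
          CoalgebraStruct.comul (R := k) a from rfl, ← ht]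
        clear ht
        induction t using TensorProduct.induction_on with
        | zero => simp
        | add p q hp hq => simp only [map_add, hp, hq]
        | tmul a b =>
          have := LinearMap.congr_fun hf b
          simp only [LinearMap.comp_apply, Submodule.subtype_apply] at this
          simp [this]
      have key : ∀ ψ ∈ Submodule.span k s, ∃ G : A →ₗ[k] k, G ∘ₗ B.subtype = ψ ∧
          hit (V := A) G a ∈ socFil k A (r + 1 - (p + 1)) := by
        intro ψ hψ
        induction hψ using Submodule.span_induction with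
        | mem ψ hψ =>
          obtain ⟨φ, h, hφ, hh, rfl⟩ := hψ
          refine ⟨formMul φ h, rfl, ?_⟩
          rw [← hit_hit, Nat.succ_sub_succ]
          exact ih r φ hφ _ (mem_socFil_succ.1 ha h hh)
        | zero =>
          refine ⟨0, LinearMap.zero_comp _, ?_⟩
          have := hit_smul (0 : k) (0 : A →ₗ[k] k) a
          rw [zero_smul, zero_smul] at this
          rw [this]
          exact zero_mem _
        | add ψ₁ ψ₂ _ _ h1 h2 =>
          obtain ⟨G₁, e1, m1⟩ := h1
          obtain ⟨G₂, e2, m2⟩ := h2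
          exact ⟨G₁ + G₂, by rw [LinearMap.add_comp, e1, e2], by rw [hit_add]; exact add_mem m1 m2⟩
        | smul c ψ₁ _ h1 =>
          obtain ⟨G₁, e1, m1⟩ := h1
          exact ⟨c • G₁, by rw [LinearMap.smul_comp, e1],
            by rw [hit_smul]; exact Submodule.smul_mem _ _ m1⟩
      obtain ⟨G, hG, hGm⟩ := key _ hgB
      rwa [hmem g G hG.symm]

theorem comul_mem_socFil (r : ℕ) : ∀ a ∈ socFil k A (r + 1),
    CoalgebraStruct.comul (R := k) a ∈ ⨆ i ∈ Finset.range (r + 1),
      LinearMap.range (TensorProduct.mapIncl (socFil k A (i + 1)) (socFil k A (r - i + 1))) := by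
  intro a ha
  choose P hP hP' using fun p => exists_projection (socFil k A p)
  let t := CoalgebraStruct.comul (R := k) a
  have hlast : (P (r + 1)).lTensor A t = t := eq_of_forall_sliceL_eq fun f => by
    rw [sliceL_lTensor]
    exact hP' _ _ (socFil_stable (r + 1) f a ha).2
  have hzero : (P 0).lTensor A t = 0 := eq_of_forall_sliceL_eq fun f => by
    rw [sliceL_lTensor, map_zero]
    exact (Submodule.mem_bot k).1 (hP 0 _)
  have hsum : t = ∑ p ∈ Finset.range (r + 1), ((P (p + 1)).lTensor A t - (P p).lTensor A t) := by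
    rw [Finset.sum_range_sub (fun p => (P p).lTensor A t), hlast, hzero, sub_zero]
  change t ∈ _
  rw [hsum]
  refine Submodule.sum_mem _ fun p hp => ?_
  rw [Finset.mem_range] at hp
  refine Submodule.mem_iSup_of_mem (r - p) (Submodule.mem_iSup_of_mem (Finset.mem_range.2 (by omega)) ?_)
  rw [show r - (r - p) + 1 = p + 1 by omega]
  refine mem_range_map_subtype_iff.2 ⟨fun g => ?_, fun f => ?_⟩
  · have e : sliceR g ((P (p + 1)).lTensor A t - (P p).lTensor A t) =
        hit (V := A) (g ∘ₗ (P (p + 1) - P p)) a := by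
      rw [hit_apply, show Comod.coact (k := k) (A := A) a = t from rfl, ← LinearMap.sub_apply,
        ← LinearMap.lTensor_sub, sliceR_lTensor_comp]
    rw [e]
    have hmem := hit_mem_socFil p (r + 1) (g ∘ₗ (P (p + 1) - P p)) (fun x hx => by
      simp [hP' p x hx, hP' (p + 1) x (socFil_mono (Nat.le_succ p) hx)]) a ha
    rwa [show r + 1 - p = r - p + 1 by omega] at hmem
  · rw [map_sub, sliceL_lTensor, sliceL_lTensor]
    exact sub_mem (hP _ _) (socFil_mono (Nat.le_succ p) (hP _ _))

theorem isUnipotent_of_filtration (C : ℕ → Submodule k A) (h0 : C 0 = Submodule.span k {(1 : A)})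
    (hmono : Monotone C) (htop : (⨆ r, C r) = ⊤)
    (hC : ∀ r, Submodule.map (CoalgebraStruct.comul (R := k) (A := A)) (C r) ≤
      ⨆ i ∈ Finset.range (r + 1), LinearMap.range (TensorProduct.mapIncl (C i) (C (r - i))))
    (V : Type v) [AddCommGroup V] [Module k V] [Comod k A V] [Nontrivial V] :
    fixedPts k A V ≠ ⊥ := by
  classical
  let VC : ℕ → Submodule k V := fun r => ⨅ f : V →ₗ[k] k, (C r).comap (cf (A := A) f)
  have hVC : ∀ r v, v ∈ VC r ↔ ∀ f : V →ₗ[k] k, cf (A := A) f v ∈ C r := fun r v => by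
    simp [VC, Submodule.mem_iInf]
  have hex : ∃ r, VC r ≠ ⊥ := by
    obtain ⟨v, hv⟩ := exists_ne (0 : V)
    obtain ⟨W, hW, hW'⟩ := exists_fg_forall_sliceL_mem (Comod.coact (k := k) (A := A) v)
    obtain ⟨s, rfl⟩ := hW
    have hle : Submodule.span k (s : Set A) ≤ ⨆ r, C r := htop ▸ le_top
    obtain ⟨r, hr⟩ : ∃ r, Submodule.span k (s : Set A) ≤ C r := by
      choose n hn using fun x : s =>
        (Submodule.mem_iSup_of_directed C (directed_of_isDirected_le fun i j h => hmono h)).1
          (hle (Submodule.subset_span x.2))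
      exact ⟨Finset.univ.sup n, Submodule.span_le.2 fun x hx =>
        hmono (Finset.le_sup (f := n) (Finset.mem_univ ⟨x, hx⟩)) (hn ⟨x, hx⟩)⟩
    exact ⟨r, (Submodule.ne_bot_iff _).2 ⟨v, (hVC r v).2 fun f => hr (hW' f), hv⟩⟩
  obtain ⟨v, hv, hv0⟩ := (VC _).exists_mem_ne_zero_of_ne_bot (Nat.find_spec hex)
  refine (Submodule.ne_bot_iff _).2 ⟨v, mem_fixedPts_of_hit fun g hg => ?_, hv0⟩
  set r := Nat.find hex with hr
  have hg0 : ∀ x ∈ C 0, g x = 0 := fun x hx => by
    rw [h0, Submodule.mem_span_singleton] at hx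
    obtain ⟨c, rfl⟩ := hx
    simp [hg]
  -- the coefficient of `hit g v` lies one step lower
  have hlow : ∀ f : V →ₗ[k] k, cf (A := A) f (hit g v) ∈
      (if r = 0 then (⊥ : Submodule k A) else C (r - 1)) := by
    intro f
    rw [← sliceR_comul_cf]
    have h := hC r (Submodule.mem_map_of_mem ((hVC r v).1 hv f))
    refine (?_ : (⨆ i ∈ Finset.range (r + 1), LinearMap.range (TensorProduct.mapIncl (C i) (C (r - i)))) ≤
      Submodule.comap (sliceR g) (if r = 0 then (⊥ : Submodule k A) else C (r - 1))) h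
    refine iSup₂_le fun i hi => ?_
    rw [Finset.mem_range] at hi
    rintro _ ⟨t, rfl⟩
    rw [Submodule.mem_comap]
    induction t using TensorProduct.induction_on with
    | zero => simp
    | add p q hp hq => rw [map_add, map_add]; exact add_mem hp hq
    | tmul x y =>
      simp only [TensorProduct.mapIncl, TensorProduct.map_tmul, Submodule.subtype_apply, sliceR_tmul]
      by_cases hir : i = r
      · rw [hg0 y (hmono (show r - i ≤ 0 by omega) y.2), zero_smul]
        exact zero_mem _
      · rw [if_neg (by omega)]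
        exact Submodule.smul_mem _ _ (hmono (by omega) x.2)
  by_contra hne
  obtain ⟨f, hf⟩ := exists_cf_ne_zero (A := A) (k := k) hne
  by_cases h : r = 0
  · have := hlow f
    rw [if_pos h, Submodule.mem_bot] at this
    exact hf this
  · have hlt : r - 1 < Nat.find hex := by omega
    have hbot := not_not.1 (Nat.find_min hex hlt)
    exact hne ((Submodule.eq_bot_iff _).1 hbot _ ((hVC _ _).2 fun f' => by
      have := hlow f'
      rwa [if_neg h] at this))

theorem isTrigonalizable_of_injective {B : Type v} [CommRing B] [Bialgebra k B] (f : B →ₐc[k] A)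
    (hf : Function.Injective f) (hA : IsTrigonalizable k A) : IsTrigonalizable k B := by
  intro V _ _ cB hfin hV
  let cA : Comod k A V := comodMap (f : B →ₗc[k] A) cB
  refine @hA V _ _ cA hfin ⟨hV.1, fun W hW => hV.2 W ?_⟩
  exact (isSubcomod_iff_of_injective (C := B) (D := A) (f : B →ₗc[k] A).toLinearMap hf rfl).2 hW

theorem isTrigonalizable_of_surjective {B : Type v} [CommRing B] [Bialgebra k B] (π : A →ₐc[k] B)
    (hπ : Function.Surjective π) (hA : IsTrigonalizable k A) : IsTrigonalizable k B := by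
  intro V _ _ cB hfin hV
  have := hV.1
  obtain ⟨v, hv⟩ := exists_ne (0 : V)
  obtain ⟨f, hf⟩ := exists_cf_ne_zero (k := k) (A := B) hv
  have hinj : Function.Injective (cf (A := B) f) := cf_injective hV fun h => hf (by simp [h, cf_apply, sliceL])
  set E := LinearMap.range (cf (A := B) f) with hE
  have hEsimple : ∀ S' : Submodule k B, IsSubcomod (k := k) (A := B) S' → S' ≤ E → S' = ⊥ ∨ S' = E := by
    intro S' hS' hle
    rcases hV.2 _ (isSubcomod_comap (isComodHom_cf f) hS') with h | h
    · refine Or.inl ((Submodule.eq_bot_iff _).2 fun y hy => ?_)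
      obtain ⟨x, rfl⟩ := hle hy
      rw [(Submodule.eq_bot_iff _).1 h x hy, map_zero]
    · refine Or.inr (le_antisymm hle ?_)
      rintro _ ⟨x, rfl⟩
      exact h.ge (Submodule.mem_top (x := x))
  choose pre hpre using fun i : Fin (Module.finrank k V) => hπ (cf (A := B) f (Module.finBasis k V i))
  obtain ⟨U, hUfin, hUmem, hUs⟩ :=
    exists_finite_subcomod (k := k) (A := A) (Set.range pre) (Set.finite_range pre)
  let cU := ComodSub.Comod.restr (Comod.regular k A) U hUs
  have hUi := ComodSub.isComodHom_subtype (Comod.regular k A) U hUs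
  obtain ⟨F, hF, h0, hFs, hFr⟩ := exists_flag_trigonalizable hA (V := U)
  let Q : ℕ → Submodule k B := fun i => ((F i).map U.subtype).map (π : A →ₐ[k] B).toLinearMap
  have hQs : ∀ i, IsSubcomod (k := k) (A := B) (Q i) := fun i => isSubcomod_iff_hit.2 fun g y hy => by
    obtain ⟨x, hx, rfl⟩ := hy
    refine ⟨hit (V := A) (g ∘ₗ (π : A →ₐ[k] B).toLinearMap) x,
      IsSubcomod.hit_mem (isSubcomod_map hUi (hFs i)) _ hx, ?_⟩
    rw [hit_apply, hit_apply, show Comod.coact (k := k) (A := B) ((π : A →ₐ[k] B).toLinearMap x) =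
      TensorProduct.map (π : A →ₗc[k] B).toLinearMap (π : A →ₗc[k] B).toLinearMap
        (CoalgebraStruct.comul (R := k) x) from (CoalgHomClass.map_comp_comul_apply π x).symm]
    rw [show Comod.coact (k := k) (A := A) x = CoalgebraStruct.comul (R := k) x from rfl]
    generalize CoalgebraStruct.comul (R := k) x = t
    induction t using TensorProduct.induction_on with
    | zero => simp
    | add p q hp hq => simp only [map_add, hp, hq]
    | tmul a b => simp
  have hEQ : E ≤ Q (Module.finrank k U) := by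
    rw [hE, LinearMap.range_eq_map, ← (Module.finBasis k V).span_eq, Submodule.map_span_le]
    rintro _ ⟨i, rfl⟩
    have hFtop : F (Module.finrank k U) = ⊤ := Submodule.eq_top_of_finrank_eq (hFr _ le_rfl)
    rw [← hpre i]
    exact ⟨pre i, ⟨⟨pre i, hUmem ⟨i, rfl⟩⟩, by rw [hFtop]; trivial, rfl⟩, rfl⟩
  have hE0 : E ≠ ⊥ := (Submodule.ne_bot_iff _).2 ⟨_, ⟨v, rfl⟩, hf⟩
  classical
  have hex : ∃ i, E ⊓ Q i ≠ ⊥ := ⟨Module.finrank k U, by rw [inf_eq_left.2 hEQ]; exact hE0⟩
  obtain ⟨i, hi⟩ : ∃ i, Nat.find hex = i + 1 :=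
    Nat.exists_eq_succ_of_ne_zero fun h => Nat.find_spec hex (h ▸ by simp [Q, h0])
  have hbot : E ⊓ Q i = ⊥ := not_not.1 (Nat.find_min hex (m := i) (by omega))
  have hile : i + 1 ≤ Module.finrank k U := hi ▸ Nat.find_min' hex (by rw [inf_eq_left.2 hEQ]; exact hE0)
  have hEle : E ≤ Q (i + 1) := inf_eq_left.1 ((hEsimple _
    (isSubcomod_inf (isSubcomod_range (isComodHom_cf f)) (hQs _)) inf_le_left).resolve_left
    (hi ▸ Nat.find_spec hex))
  -- one extra vector
  have hlt : F i < F (i + 1) := lt_of_le_of_ne (hF (Nat.le_succ i)) fun h => by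
    have := hFr i (by omega); rw [h, hFr _ hile] at this; omega
  obtain ⟨x, hx, hxn⟩ := SetLike.exists_of_lt hlt
  have hsup : F i ⊔ Submodule.span k {x} = F (i + 1) := by
    refine Submodule.eq_of_le_of_finrank_le (sup_le hlt.le (by simpa using hx)) ?_
    have h1 : F i < F i ⊔ Submodule.span k {x} := lt_of_le_of_ne le_sup_left fun h =>
      hxn (h ▸ Submodule.mem_sup_right (Submodule.subset_span rfl))
    have := Submodule.finrank_lt_finrank_of_lt h1
    rw [hFr i (by omega)] at this
    rw [hFr _ hile]; omega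
  have hQsup : ∀ y ∈ Q (i + 1), ∃ c : k, y - c • π (x : A) ∈ Q i := by
    rintro _ ⟨_, ⟨z, hz, rfl⟩, rfl⟩
    rw [SetLike.mem_coe, ← hsup, Submodule.mem_sup] at hz
    obtain ⟨p, hp, q, hq, rfl⟩ := hz
    obtain ⟨c, rfl⟩ := Submodule.mem_span_singleton.1 hq
    exact ⟨c, ⟨p, ⟨p, hp, rfl⟩, by simp⟩⟩
  obtain ⟨c₀, hc₀⟩ := hQsup _ (hEle ⟨v, rfl⟩)
  refine finrank_eq_one_iff_of_nonzero' v hv |>.2 fun w => ?_
  obtain ⟨c, hc⟩ := hQsup _ (hEle ⟨w, rfl⟩)
  have hc0 : c₀ ≠ 0 := by
    rintro rfl
    rw [zero_smul, sub_zero] at hc₀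
    exact hf ((Submodule.eq_bot_iff _).1 hbot _ ⟨⟨v, rfl⟩, hc₀⟩)
  refine ⟨c * c₀⁻¹, ?_⟩
  have hd : cf (A := B) f ((c * c₀⁻¹) • v - w) ∈ E ⊓ Q i := by
    refine ⟨⟨_, rfl⟩, ?_⟩
    have := sub_mem ((Q i).smul_mem (c * c₀⁻¹) hc₀) hc
    rw [smul_sub, smul_smul, mul_assoc, inv_mul_cancel₀ hc0, mul_one, sub_sub_sub_cancel_right] at this
    simpa [map_sub, map_smul] using this
  rw [hbot, Submodule.mem_bot, ← map_zero (cf (A := B) f)] at hd
  exact sub_eq_zero.1 (hinj hd)

end Groth.Agent.HopfLib
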