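import Groth.Agent.HopfLib.Comod
import Mathlib.RingTheory.HopfAlgebra.Basic
import Mathlib.RingTheory.Bialgebra.Hom
import Mathlib.RingTheory.Flat.EquationalCriterion
import Mathlib.RingTheory.Flat.FaithfullyFlat.Basic
import Mathlib.RingTheory.Ideal.MinimalPrime.Localization
import Mathlib.RingTheory.LocalRing.Module
import Mathlib.RingTheory.Support
import Mathlib.RingTheory.TensorProduct.Basic
import Mathlib.LinearAlgebra.Dimension.Finite
import Mathlib.RingTheory.Noetherian.Orzech
import Mathlib.RingTheory.HopfAlgebra.Quotient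
import Mathlib.RingTheory.HopfAlgebra.Convolution
import Mathlib.RingTheory.RingHom.FaithfullyFlat

/-!
# Commutative Hopf algebras are faithfully flat over Hopf subalgebras

`faithfullyFlat_of_injective`: over a field, an injective map of commutative Hopf algebras `A → B`
with `A` Noetherian is faithfully flat (`B` arbitrary; no reducedness).
-/

noncomputable section

open TensorProduct

namespace Groth.Agent.HopfLib.FF

universe u v w

section Shear

variable (k : Type u) [CommRing k] (H : Type v) [CommRing H] [HopfAlgebra k H]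

/-- `b ⊗ c ↦ b₁ ⊗ b₂ c`. -/
def tau : H ⊗[k] H →ₐ[k] H ⊗[k] H :=
  Algebra.TensorProduct.lift (Bialgebra.comulAlgHom k H) Algebra.TensorProduct.includeRight
    fun _ _ => Commute.all _ _

/-- `b ⊗ c ↦ b₁ ⊗ S(b₂) c`. -/
def tau' : H ⊗[k] H →ₐ[k] H ⊗[k] H :=
  Algebra.TensorProduct.lift
    ((Algebra.TensorProduct.map (AlgHom.id k H) (HopfAlgebra.antipodeAlgHom k H)).comp
      (Bialgebra.comulAlgHom k H)) Algebra.TensorProduct.includeRight fun _ _ => Commute.all _ _

@[simp] lemma tau_tmul (b c : H) :
    tau k H (b ⊗ₜ c) = CoalgebraStruct.comul (R := k) b * ((1 : H) ⊗ₜ[k] c) := by simp [tau]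

lemma map_antipode_eq (t : H ⊗[k] H) :
    Algebra.TensorProduct.map (AlgHom.id k H) (HopfAlgebra.antipodeAlgHom k H) t =
      (HopfAlgebraStruct.antipode k (A := H)).lTensor H t := by
  induction t using TensorProduct.induction_on with
  | zero => simp
  | add p q hp hq => simp only [map_add, hp, hq]
  | tmul a b => simp

@[simp] lemma tau'_tmul (b c : H) :
    tau' k H (b ⊗ₜ c) = (HopfAlgebraStruct.antipode k (A := H)).lTensor H (CoalgebraStruct.comul (R := k) b) *
      ((1 : H) ⊗ₜ[k] c) := by
  simp [tau', map_antipode_eq]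

lemma lTensor_counit_comul' (b : H) :
    ((Algebra.linearMap k H) ∘ₗ CoalgebraStruct.counit).lTensor H (CoalgebraStruct.comul (R := k) b) =
      b ⊗ₜ[k] (1 : H) := by
  rw [LinearMap.lTensor_comp, LinearMap.comp_apply, Coalgebra.lTensor_counit_comul]
  simp

lemma tau'_tau (z : H ⊗[k] H) : tau' k H (tau k H z) = z := by
  induction z using TensorProduct.induction_on with
  | zero => simp
  | add p q hp hq => simp only [map_add, hp, hq]
  | tmul b c =>
    have h : ∀ t : H ⊗[k] H, tau' k H t = (LinearMap.mul' k H ∘ₗ
        (HopfAlgebraStruct.antipode k (A := H)).rTensor H).lTensor H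
        (TensorProduct.assoc k H H H ((CoalgebraStruct.comul (R := k) (A := H)).rTensor H t)) := by
      intro t
      induction t using TensorProduct.induction_on with
      | zero => simp
      | add p q hp hq => simp only [map_add, hp, hq]
      | tmul x y =>
        rw [tau'_tmul, LinearMap.rTensor_tmul]
        generalize CoalgebraStruct.comul (R := k) x = s
        induction s using TensorProduct.induction_on with
        | zero => simp
        | add p q hp hq => simp only [map_add, add_tmul, add_mul, hp, hq]
        | tmul p q => simp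
    rw [tau_tmul, map_mul, tau'_tmul k H 1 c, h, Coalgebra.coassoc_apply, ← LinearMap.comp_apply (LinearMap.lTensor _ _),
      ← LinearMap.lTensor_comp, LinearMap.comp_assoc,
      show LinearMap.mul' k H ∘ₗ (HopfAlgebraStruct.antipode k (A := H)).rTensor H ∘ₗ CoalgebraStruct.comul =
        Algebra.linearMap k H ∘ₗ CoalgebraStruct.counit from HopfAlgebra.mul_antipode_rTensor_comul,
      lTensor_counit_comul']
    simp [Algebra.TensorProduct.one_def]

lemma tau_tau' (z : H ⊗[k] H) : tau k H (tau' k H z) = z := by
  induction z using TensorProduct.induction_on with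
  | zero => simp
  | add p q hp hq => simp only [map_add, hp, hq]
  | tmul b c =>
    have h : ∀ t : H ⊗[k] H, tau k H ((HopfAlgebraStruct.antipode k (A := H)).lTensor H t) =
        (LinearMap.mul' k H ∘ₗ (HopfAlgebraStruct.antipode k (A := H)).lTensor H).lTensor H
        (TensorProduct.assoc k H H H ((CoalgebraStruct.comul (R := k) (A := H)).rTensor H t)) := by
      intro t
      induction t using TensorProduct.induction_on with
      | zero => simp
      | add p q hp hq => simp only [map_add, hp, hq]
      | tmul x y =>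
        rw [LinearMap.lTensor_tmul, tau_tmul, LinearMap.rTensor_tmul]
        generalize CoalgebraStruct.comul (R := k) x = s
        induction s using TensorProduct.induction_on with
        | zero => simp
        | add p q hp hq => simp only [map_add, add_tmul, add_mul, hp, hq]
        | tmul p q => simp
    rw [tau'_tmul, map_mul, tau_tmul k H 1 c, h, Coalgebra.coassoc_apply, ← LinearMap.comp_apply (LinearMap.lTensor _ _),
      ← LinearMap.lTensor_comp, LinearMap.comp_assoc,
      show LinearMap.mul' k H ∘ₗ (HopfAlgebraStruct.antipode k (A := H)).lTensor H ∘ₗ CoalgebraStruct.comul =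
        Algebra.linearMap k H ∘ₗ CoalgebraStruct.counit from HopfAlgebra.mul_antipode_lTensor_comul,
      lTensor_counit_comul']
    simp [Algebra.TensorProduct.one_def]

/-- Translation by a point keeps non-nilpotent elements non-nilpotent. -/
theorem not_isNilpotent_translate {K : Type w} [CommRing K] [Algebra k K] (x : H →ₐ[k] K)
    (hinj : Function.Injective (Algebra.TensorProduct.includeRight : H →ₐ[k] K ⊗[k] H)) {s : H}
    (hs : ¬ IsNilpotent s) :
    ¬ IsNilpotent (Algebra.TensorProduct.map x (AlgHom.id k H) (CoalgebraStruct.comul (R := k) s)) := by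
  intro hnil
  let ψ : K ⊗[k] H →ₐ[k] K ⊗[k] H := Algebra.TensorProduct.lift Algebra.TensorProduct.includeLeft
    ((Algebra.TensorProduct.map (x.comp (HopfAlgebra.antipodeAlgHom k H)) (AlgHom.id k H)).comp
      (Bialgebra.comulAlgHom k H)) fun _ _ => Commute.all _ _
  have h : ∀ t : H ⊗[k] H, ψ (Algebra.TensorProduct.map x (AlgHom.id k H) t) =
      (x.toLinearMap ∘ₗ LinearMap.mul' k H ∘ₗ (HopfAlgebraStruct.antipode k (A := H)).lTensor H).rTensor H
        ((TensorProduct.assoc k H H H).symm ((CoalgebraStruct.comul (R := k) (A := H)).lTensor H t)) := by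
    intro t
    induction t using TensorProduct.induction_on with
    | zero => simp
    | add p q hp hq => simp only [map_add, hp, hq]
    | tmul a b =>
      simp only [ψ, Algebra.TensorProduct.map_tmul, Algebra.TensorProduct.lift_tmul, AlgHom.comp_apply,
        Bialgebra.comulAlgHom_apply, LinearMap.lTensor_tmul, AlgHom.id_apply]
      generalize CoalgebraStruct.comul (R := k) b = u
      induction u using TensorProduct.induction_on with
      | zero => simp
      | add p q hp hq => simp only [map_add, tmul_add, mul_add, hp, hq]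
      | tmul p q => simp
  have h2 := hnil.map ψ
  rw [h, Coalgebra.coassoc_symm_apply, ← LinearMap.comp_apply (LinearMap.rTensor _ _), ← LinearMap.rTensor_comp,
    LinearMap.comp_assoc, LinearMap.comp_assoc,
    show LinearMap.mul' k H ∘ₗ (HopfAlgebraStruct.antipode k (A := H)).lTensor H ∘ₗ CoalgebraStruct.comul =
      Algebra.linearMap k H ∘ₗ CoalgebraStruct.counit from HopfAlgebra.mul_antipode_lTensor_comul,
    LinearMap.rTensor_comp, LinearMap.rTensor_comp, LinearMap.comp_apply, LinearMap.comp_apply,
    Coalgebra.rTensor_counit_comul] at h2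
  simp only [LinearMap.rTensor_tmul, Algebra.linearMap_apply, map_one, AlgHom.toLinearMap_apply] at h2
  exact hs ((IsNilpotent.map_iff hinj).1 h2)

end Shear

variable {k : Type u} [Field k] {A : Type v} [CommRing A] [HopfAlgebra k A]
  {B : Type w} [CommRing B] [HopfAlgebra k B] [Algebra A B] [IsScalarTower k A B]

variable (k A B) in
/-- `algebraMap` is a map of bialgebras. -/
structure IsBialgMap : Prop where
  comul : ∀ a : A, CoalgebraStruct.comul (R := k) (algebraMap A B a) =
    Algebra.TensorProduct.map (IsScalarTower.toAlgHom k A B) (IsScalarTower.toAlgHom k A B)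
      (CoalgebraStruct.comul (R := k) a)
  counit : ∀ a : A, CoalgebraStruct.counit (R := k) (algebraMap A B a) = CoalgebraStruct.counit (R := k) a

local notation "TT" => A ⊗[k] B

/-- `T → B ⊗ B`. -/
def emb : TT →ₐ[k] B ⊗[k] B := Algebra.TensorProduct.map (IsScalarTower.toAlgHom k A B) (AlgHom.id k B)

@[simp] lemma emb_tmul (a : A) (b : B) : emb (k := k) (a ⊗ₜ[k] b) = algebraMap A B a ⊗ₜ[k] b := by simp [emb]

variable (k A B) in
/-- `a ⊗ b ↦ a₁ ⊗ f(a₂) b` -/
def tauT : TT →ₐ[k] TT :=
  Algebra.TensorProduct.lift
    ((Algebra.TensorProduct.map (AlgHom.id k A) (IsScalarTower.toAlgHom k A B)).comp (Bialgebra.comulAlgHom k A))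
    Algebra.TensorProduct.includeRight fun _ _ => Commute.all _ _

variable (k A B) in
/-- `a ⊗ b ↦ a₁ ⊗ S(f(a₂)) b` -/
def tauT' : TT →ₐ[k] TT :=
  Algebra.TensorProduct.lift
    ((Algebra.TensorProduct.map (AlgHom.id k A)
      ((HopfAlgebra.antipodeAlgHom k B).comp (IsScalarTower.toAlgHom k A B))).comp (Bialgebra.comulAlgHom k A))
    Algebra.TensorProduct.includeRight fun _ _ => Commute.all _ _

lemma emb_tauT (hb : IsBialgMap k A B) (t : TT) : emb (tauT k A B t) = tau k B (emb t) := by
  induction t using TensorProduct.induction_on with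
  | zero => simp
  | add p q hp hq => simp only [map_add, hp, hq]
  | tmul a b =>
    simp only [tauT, Algebra.TensorProduct.lift_tmul, AlgHom.comp_apply, Bialgebra.comulAlgHom_apply,
      map_mul, emb_tmul, tau_tmul, hb.comul, Algebra.TensorProduct.includeRight_apply, map_one]
    congr 1
    generalize CoalgebraStruct.comul (R := k) a = s
    induction s using TensorProduct.induction_on with
    | zero => simp
    | add p q hp hq => simp only [map_add, hp, hq]
    | tmul p q => simp

lemma emb_tauT' (hb : IsBialgMap k A B) (t : TT) : emb (tauT' k A B t) = tau' k B (emb t) := by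
  induction t using TensorProduct.induction_on with
  | zero => simp
  | add p q hp hq => simp only [map_add, hp, hq]
  | tmul a b =>
    simp only [tauT', Algebra.TensorProduct.lift_tmul, AlgHom.comp_apply, Bialgebra.comulAlgHom_apply,
      map_mul, emb_tmul, tau'_tmul, hb.comul, Algebra.TensorProduct.includeRight_apply, map_one]
    congr 1
    generalize CoalgebraStruct.comul (R := k) a = s
    induction s using TensorProduct.induction_on with
    | zero => simp
    | add p q hp hq => simp only [map_add, hp, hq]
    | tmul p q => simp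

variable (M : Submodule A B)

/-- the action of `T` on `M ⊗ B` -/
def act : TT →ₐ[k] Module.End k (M ⊗[k] B) :=
  Algebra.TensorProduct.lift
    ((Module.End.rTensorAlgHom k M B).comp (Algebra.lsmul k k M))
    ((Module.End.lTensorAlgHom k B M).comp (Algebra.lmul k B))
    fun a b => TensorProduct.ext' fun m c => rfl

@[simp] lemma act_tmul (a : A) (b : B) (m : M) (c : B) :
    act (k := k) M (a ⊗ₜ[k] b) (m ⊗ₜ[k] c) = (a • m) ⊗ₜ[k] (b * c) := by
  simp only [act, Algebra.TensorProduct.lift_tmul]
  rfl

variable (k) in
/-- `M ⊗ B → B ⊗ B` -/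
def inj : M ⊗[k] B →ₗ[k] B ⊗[k] B := ((M.subtype).restrictScalars k).rTensor B

@[simp] lemma inj_tmul (m : M) (c : B) : inj k M (m ⊗ₜ[k] c) = (m : B) ⊗ₜ[k] c := rfl

lemma inj_injective : Function.Injective (inj k M) :=
  Module.Flat.rTensor_preserves_injective_linearMap _ Subtype.val_injective

lemma inj_act (t : TT) (z : M ⊗[k] B) : inj k M (act M t z) = emb t * inj k M z := by
  induction t using TensorProduct.induction_on with
  | zero => simp
  | add p q hp hq => simp only [map_add, LinearMap.add_apply, add_mul, hp, hq]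
  | tmul a b =>
    induction z using TensorProduct.induction_on with
    | zero => simp
    | add p q hp hq => simp only [map_add, mul_add, hp, hq]
    | tmul m c => simp [Algebra.smul_def]

variable (k) in
/-- `M` is stable under the comultiplication of `B`. -/
def IsCostable : Prop := ∀ m : M, CoalgebraStruct.comul (R := k) (m : B) ∈ LinearMap.range (inj k M)

variable {M}

lemma tau_mem (hM : IsCostable k M) (z : M ⊗[k] B) : tau k B (inj k M z) ∈ LinearMap.range (inj k M) := by
  induction z using TensorProduct.induction_on with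
  | zero => simp
  | add p q hp hq => simp only [map_add]; exact add_mem hp hq
  | tmul m c =>
    obtain ⟨y, hy⟩ := hM m
    refine ⟨act M ((1 : A) ⊗ₜ[k] c) y, ?_⟩
    rw [inj_act, inj_tmul, tau_tmul, emb_tmul, map_one, hy, mul_comm]

lemma tau'_mem (hM : IsCostable k M) (z : M ⊗[k] B) : tau' k B (inj k M z) ∈ LinearMap.range (inj k M) := by
  induction z using TensorProduct.induction_on with
  | zero => simp
  | add p q hp hq => simp only [map_add]; exact add_mem hp hq
  | tmul m c =>
    obtain ⟨y, hy⟩ := hM m
    refine ⟨act M ((1 : A) ⊗ₜ[k] c) ((HopfAlgebraStruct.antipode k (A := B)).lTensor M y), ?_⟩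
    rw [inj_act, inj_tmul, tau'_tmul, emb_tmul, map_one, ← hy, mul_comm]
    congr 1
    simp only [inj]
    rw [← LinearMap.comp_apply, ← LinearMap.comp_apply, LinearMap.rTensor_comp_lTensor,
      LinearMap.lTensor_comp_rTensor]

variable (hM : IsCostable k M)

/-- the coaction, extended semilinearly -/
def sig : M ⊗[k] B →ₗ[k] M ⊗[k] B :=
  (LinearEquiv.ofInjective _ (inj_injective M)).symm.toLinearMap ∘ₗ
    ((tau k B).toLinearMap ∘ₗ inj k M).codRestrict _ (tau_mem hM)

/-- its inverse -/
def sig' : M ⊗[k] B →ₗ[k] M ⊗[k] B :=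
  (LinearEquiv.ofInjective _ (inj_injective M)).symm.toLinearMap ∘ₗ
    ((tau' k B).toLinearMap ∘ₗ inj k M).codRestrict _ (tau'_mem hM)

lemma inj_sig (z : M ⊗[k] B) : inj k M (sig hM z) = tau k B (inj k M z) := by
  exact congrArg Subtype.val ((LinearEquiv.ofInjective _ (inj_injective M)).apply_symm_apply _)

lemma inj_sig' (z : M ⊗[k] B) : inj k M (sig' hM z) = tau' k B (inj k M z) := by
  exact congrArg Subtype.val ((LinearEquiv.ofInjective _ (inj_injective M)).apply_symm_apply _)

lemma sig_sig' (z : M ⊗[k] B) : sig hM (sig' hM z) = z :=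
  inj_injective M (by rw [inj_sig, inj_sig', tau_tau'])

lemma sig'_sig (z : M ⊗[k] B) : sig' hM (sig hM z) = z :=
  inj_injective M (by rw [inj_sig', inj_sig, tau'_tau])

lemma sig_act (hb : IsBialgMap k A B) (t : TT) (z : M ⊗[k] B) :
    sig hM (act M t z) = act M (tauT k A B t) (sig hM z) :=
  inj_injective M (by rw [inj_sig, inj_act, inj_act, inj_sig, map_mul, emb_tauT hb])

lemma sig'_act (hb : IsBialgMap k A B) (t : TT) (z : M ⊗[k] B) :
    sig' hM (act M t z) = act M (tauT' k A B t) (sig' hM z) :=
  inj_injective M (by rw [inj_sig', inj_act, inj_act, inj_sig', map_mul, emb_tauT' hb])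

lemma tmul_eq_act (m : M) (c : B) : m ⊗ₜ[k] c = act (k := k) M ((1 : A) ⊗ₜ[k] c) (m ⊗ₜ[k] (1 : B)) := by
  simp

lemma tauT_one_tmul (c : B) : tauT k A B ((1 : A) ⊗ₜ[k] c) = (1 : A) ⊗ₜ[k] c := by
  simp [tauT, Algebra.TensorProduct.one_def]

lemma tauT'_one_tmul (c : B) : tauT' k A B ((1 : A) ⊗ₜ[k] c) = (1 : A) ⊗ₜ[k] c := by
  simp [tauT', Algebra.TensorProduct.one_def]

/-! ### The pull-back of `M` along `A → B` is free -/

variable (k M) in
/-- `A⁺ M` -/
def augSub : Submodule k M :=
  (RingHom.ker (Bialgebra.counitAlgHom k A) • (⊤ : Submodule A M)).restrictScalars k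

local notation "WW" => M ⧸ augSub k M

lemma mk_smul (a : A) (m : M) :
    (Submodule.Quotient.mk (a • m) : WW) = CoalgebraStruct.counit (R := k) a • Submodule.Quotient.mk m := by
  rw [← Submodule.Quotient.mk_smul, Submodule.Quotient.eq, ← algebraMap_smul A (CoalgebraStruct.counit (R := k) a) m]
  show _ ∈ (RingHom.ker (Bialgebra.counitAlgHom k A) • (⊤ : Submodule A M) : Submodule A M)
  refine (sub_smul a (algebraMap k A (CoalgebraStruct.counit (R := k) a)) m) ▸ Submodule.smul_mem_smul ?_ Submodule.mem_top
  simp [RingHom.mem_ker]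

/-- `M ⊗ B → W ⊗ B` along the coaction -/
def psi : M ⊗[k] B →ₗ[k] WW ⊗[k] B := (augSub k M).mkQ.rTensor B ∘ₗ sig hM

lemma mkQ_act (t : TT) (y : M ⊗[k] B) :
    (augSub k M).mkQ.rTensor B (act M t y) =
      (LinearMap.mul k B (Algebra.TensorProduct.lid k B
        (Algebra.TensorProduct.map (Bialgebra.counitAlgHom k A) (AlgHom.id k B) t))).lTensor WW
        ((augSub k M).mkQ.rTensor B y) := by
  induction t using TensorProduct.induction_on with
  | zero => simp
  | add p q hp hq => simp only [map_add, LinearMap.add_apply, LinearMap.lTensor_add, hp, hq]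
  | tmul a b =>
    induction y using TensorProduct.induction_on with
    | zero => simp
    | add p q hp hq => simp only [map_add, hp, hq]
    | tmul m c => simp [mk_smul, smul_tmul']

lemma psi_act (hb : IsBialgMap k A B) (a : A) (b : B) (z : M ⊗[k] B) :
    psi hM (act M (a ⊗ₜ b) z) = (LinearMap.mul k B (algebraMap A B a * b)).lTensor WW (psi hM z) := by
  simp only [psi, LinearMap.comp_apply]
  rw [sig_act hM hb, mkQ_act]
  congr 4
  simp only [tauT, Algebra.TensorProduct.lift_tmul, AlgHom.comp_apply, Bialgebra.comulAlgHom_apply,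
    map_mul, Algebra.TensorProduct.includeRight_apply, Algebra.TensorProduct.map_tmul, map_one,
    Algebra.TensorProduct.lid_tmul, one_smul, AlgHom.id_apply]
  congr 1
  have h := congrArg (fun t => IsScalarTower.toAlgHom k A B (TensorProduct.lid k A t))
    (Coalgebra.rTensor_counit_comul (R := k) a)
  simp only [TensorProduct.lid_tmul, one_smul, IsScalarTower.coe_toAlgHom'] at h
  refine Eq.trans ?_ h
  generalize CoalgebraStruct.comul (R := k) a = s
  induction s using TensorProduct.induction_on with
  | zero => simp
  | add p q hp hq => simp only [map_add, hp, hq]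
  | tmul p q => simp [Algebra.smul_def, ← IsScalarTower.algebraMap_apply]

variable (k M) in
/-- `m ⊗ b ↦ b ⊗ m` -/
def theta : M ⊗[k] B →ₗ[k] B ⊗[A] M :=
  TensorProduct.lift (LinearMap.mk₂ k (fun m b => b ⊗ₜ[A] m)
    (fun m m' b => tmul_add b m m') (fun c m b => by rw [← algebraMap_smul A c m, tmul_smul, algebraMap_smul])
    (fun m b b' => add_tmul b b' m) (fun c m b => (smul_tmul' c b m).symm))

@[simp] lemma theta_tmul (m : M) (b : B) : theta k M (m ⊗ₜ[k] b) = b ⊗ₜ[A] m := rfl

lemma theta_act (t : TT) (y : M ⊗[k] B) :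
    theta k M (act M t y) =
      (Algebra.TensorProduct.lift (IsScalarTower.toAlgHom k A B) (AlgHom.id k B) (fun _ _ => Commute.all _ _) t) •
        theta k M y := by
  induction t using TensorProduct.induction_on with
  | zero => simp
  | add p q hp hq => simp only [map_add, LinearMap.add_apply, add_smul, hp, hq]
  | tmul a b =>
    induction y using TensorProduct.induction_on with
    | zero => simp
    | add p q hp hq => simp only [map_add, smul_add, hp, hq]
    | tmul m c =>
      simp only [act_tmul, theta_tmul, Algebra.TensorProduct.lift_tmul, IsScalarTower.coe_toAlgHom',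
        AlgHom.id_apply, smul_tmul', smul_eq_mul]
      rw [tmul_smul, smul_tmul', Algebra.smul_def, mul_assoc]

lemma theta_sig'_smul (hb : IsBialgMap k A B) (a : A) (m : M) :
    theta k M (sig' hM ((a • m) ⊗ₜ[k] (1 : B))) =
      CoalgebraStruct.counit (R := k) a • theta k M (sig' hM (m ⊗ₜ[k] (1 : B))) := by
  rw [show (a • m) ⊗ₜ[k] (1 : B) = act (k := k) M (a ⊗ₜ[k] (1 : B)) (m ⊗ₜ[k] (1 : B)) by simp,
    sig'_act hM hb, theta_act, ← algebraMap_smul B (CoalgebraStruct.counit (R := k) a)]
  congr 1
  simp only [tauT', Algebra.TensorProduct.lift_tmul, AlgHom.comp_apply, Bialgebra.comulAlgHom_apply,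
    Algebra.TensorProduct.includeRight_apply, ← Algebra.TensorProduct.one_def, mul_one]
  have h := HopfAlgebra.mul_antipode_lTensor_comul_apply (R := k) (algebraMap A B a)
  rw [hb.counit, hb.comul] at h
  refine Eq.trans ?_ h
  generalize CoalgebraStruct.comul (R := k) a = s
  induction s using TensorProduct.induction_on with
  | zero => simp
  | add p q hp hq => simp only [map_add, hp, hq]
  | tmul p q => simp

/-- a left inverse of `psi` up to `theta` -/
def phi (hb : IsBialgMap k A B) : WW ⊗[k] B →ₗ[k] B ⊗[A] M :=
  TensorProduct.lift <| LinearMap.mk₂ k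
    (fun w b => b • (augSub k M).liftQ (theta k M ∘ₗ sig' hM ∘ₗ (TensorProduct.mk k M B).flip 1)
      (fun m hm => by
        rw [LinearMap.mem_ker]
        refine Submodule.smul_induction_on (show m ∈ RingHom.ker (Bialgebra.counitAlgHom k A) • (⊤ : Submodule A M) from hm)
          (fun a ha x _ => ?_) (fun x y hx hy => by rw [map_add, hx, hy, add_zero])
        simp only [LinearMap.comp_apply, LinearMap.flip_apply, TensorProduct.mk_apply, theta_sig'_smul hM hb]
        rw [show CoalgebraStruct.counit (R := k) a = 0 from ha, zero_smul]) w)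
    (fun w w' b => by rw [map_add, smul_add]) (fun c w b => by rw [map_smul, smul_comm])
    (fun w b b' => add_smul b b' _) (fun c w b => smul_assoc c b _)

lemma phi_psi (hb : IsBialgMap k A B) (z : M ⊗[k] B) : phi hM hb (psi hM z) = theta k M z := by
  have h : ∀ y : M ⊗[k] B, phi hM hb ((augSub k M).mkQ.rTensor B y) = theta k M (sig' hM y) := by
    intro y
    induction y using TensorProduct.induction_on with
    | zero => simp
    | add p q hp hq => simp only [map_add, hp, hq]
    | tmul m c =>
      conv_rhs => rw [tmul_eq_act m c, sig'_act hM hb, tauT'_one_tmul, theta_act]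
      simp [phi]
  rw [psi, LinearMap.comp_apply, h, sig'_sig]

variable [IsNoetherianRing A]

include hM in
/-- Near a minimal prime `M` is free. -/
theorem exists_free_nhd (hb : IsBialgMap k A B) (hf : Function.Injective (algebraMap A B)) (hfg : M.FG)
    (p : Ideal A) (hp : p ∈ minimalPrimes A) :
    ∃ (n : ℕ) (x : Fin n → M) (s : A), s ∉ p ∧ (∀ m : M, s • m ∈ Submodule.span A (Set.range x)) ∧
      ∀ c : Fin n → A, ∑ i, c i • x i = 0 → ∀ i, s * c i = 0 := by
  classical
  have hpp : p.IsPrime := hp.1.1
  haveI : Module.Finite A M := Module.Finite.iff_fg.2 hfg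
  obtain ⟨q, hq, hqp⟩ := Ideal.exists_comap_eq_of_mem_minimalPrimes_of_injective hf p hp
  -- `W` is finite dimensional
  obtain ⟨G, hG⟩ := hfg
  haveI : Module.Finite k WW := by
    have hGB : ∀ g ∈ G, g ∈ M := fun g hg => hG ▸ Submodule.subset_span hg
    refine Module.Finite.of_surjective (Finsupp.linearCombination k
      fun g : G => (Submodule.Quotient.mk (⟨g.1, hGB g.1 g.2⟩ : M) : WW)) fun w => ?_
    obtain ⟨⟨m, hm⟩, rfl⟩ := Submodule.Quotient.mk_surjective _ w
    have hm' : m ∈ Submodule.span A (G : Set B) := hG.symm ▸ hm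
    induction hm' using Submodule.span_induction with
    | mem g hg => exact ⟨Finsupp.single ⟨g, hg⟩ 1, by simp⟩
    | zero => exact ⟨0, by rw [map_zero]; rfl⟩
    | add a b ha hb' iha ihb =>
      obtain ⟨u, hu⟩ := iha (hG ▸ ha)
      obtain ⟨u', hu'⟩ := ihb (hG ▸ hb')
      exact ⟨u + u', by rw [map_add, hu, hu']; rfl⟩
    | smul a b hb' ihb =>
      obtain ⟨u, hu⟩ := ihb (hG ▸ hb')
      refine ⟨CoalgebraStruct.counit (R := k) a • u, ?_⟩
      rw [map_smul, hu, ← mk_smul]
      rfl
  -- residue field dimension
  haveI : Module.Finite p.ResidueField (p.ResidueField ⊗[A] M) := inferInstance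
  have hspan : Submodule.span p.ResidueField
      (Set.range fun m : M => (1 : p.ResidueField) ⊗ₜ[A] m) = ⊤ := by
    rw [eq_top_iff]
    rintro z -
    induction z using TensorProduct.induction_on with
    | zero => simp
    | add a b ha hb => exact add_mem ha hb
    | tmul c m =>
      rw [show c ⊗ₜ[A] m = c • ((1 : p.ResidueField) ⊗ₜ[A] m) by rw [smul_tmul', smul_eq_mul, mul_one]]
      exact Submodule.smul_mem _ _ (Submodule.subset_span ⟨m, rfl⟩)
  obtain ⟨n, ⟨bas⟩⟩ : ∃ n, Nonempty (Module.Basis (Fin n) p.ResidueField (p.ResidueField ⊗[A] M)) :=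
    ⟨_, ⟨Module.finBasis _ _⟩⟩
  have hsur : ∀ z : p.ResidueField ⊗[A] M, ∃ (u : A) (m : M), u ∉ p ∧
      algebraMap A p.ResidueField u • z = (1 : p.ResidueField) ⊗ₜ[A] m := by
    intro z
    induction z using TensorProduct.induction_on with
    | zero => exact ⟨1, 0, fun h => hpp.ne_top (p.eq_top_iff_one.2 h), by simp⟩
    | add a b ha hb =>
      obtain ⟨u, m, hu, hm⟩ := ha
      obtain ⟨u', m', hu', hm'⟩ := hb
      refine ⟨u * u', u' • m + u • m', fun h => (hpp.mem_or_mem h).elim hu hu', ?_⟩
      rw [tmul_add, tmul_smul, tmul_smul, ← hm, ← hm', smul_add, map_mul, algebra_compatible_smul p.ResidueField u',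
        algebra_compatible_smul p.ResidueField u, smul_smul, smul_smul, mul_comm]
    | tmul c m =>
      obtain ⟨⟨cn, cd⟩, hc⟩ := IsLocalization.surj (nonZeroDivisors (A ⧸ p)) c
      obtain ⟨a, rfl⟩ := Ideal.Quotient.mk_surjective cn
      obtain ⟨d, hd⟩ := Ideal.Quotient.mk_surjective (cd : A ⧸ p)
      refine ⟨d, a • m, fun h => nonZeroDivisors.ne_zero cd.2 (hd ▸ Ideal.Quotient.eq_zero_iff_mem.2 h), ?_⟩
      rw [smul_tmul', smul_eq_mul, tmul_smul, smul_tmul', Algebra.smul_def, mul_one]
      congr 1
      rw [mul_comm, IsScalarTower.algebraMap_apply A (A ⧸ p) p.ResidueField, Ideal.Quotient.algebraMap_eq, hd, hc]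
      exact (IsScalarTower.algebraMap_apply A (A ⧸ p) p.ResidueField a).symm
  choose u x hu hx using fun i => hsur (bas i)
  -- spanning
  obtain ⟨s₁, hs₁p, hs₁⟩ : ∃ s, s ∉ p ∧ ∀ m : M, s • m ∈ Submodule.span A (Set.range x) := by
    have hns : ¬ Nontrivial (p.ResidueField ⊗[A] (M ⧸ Submodule.span A (Set.range x))) := by
      rw [not_nontrivial_iff_subsingleton]
      have hle : ∀ z, ((Submodule.span A (Set.range x)).mkQ.baseChange p.ResidueField) z = 0 := by
        have hb0 : ∀ i, ((Submodule.span A (Set.range x)).mkQ.baseChange p.ResidueField) (bas i) = 0 := by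
          intro i
          have hne : algebraMap A p.ResidueField (u i) ≠ 0 := fun h =>
            hu i (Ideal.algebraMap_residueField_eq_zero.1 h)
          refine (smul_eq_zero.1 ?_).resolve_left hne
          rw [← map_smul, hx, LinearMap.baseChange_tmul, Submodule.mkQ_apply,
            (Submodule.Quotient.mk_eq_zero (Submodule.span A (Set.range x))).2 (Submodule.subset_span ⟨i, rfl⟩),
            tmul_zero]
        exact fun z => LinearMap.congr_fun (bas.ext hb0 :
          ((Submodule.span A (Set.range x)).mkQ.baseChange p.ResidueField) = 0) z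
      refine subsingleton_of_forall_eq 0 fun z => ?_
      obtain ⟨z', rfl⟩ := LinearMap.lTensor_surjective p.ResidueField (Submodule.mkQ_surjective _) z
      exact hle z'
    rw [← Module.mem_support_iff_nontrivial_residueField_tensorProduct (⟨p, hpp⟩ : PrimeSpectrum A),
      Module.support_eq_zeroLocus, PrimeSpectrum.mem_zeroLocus] at hns
    obtain ⟨s, hs, hsp⟩ := Set.not_subset.1 hns
    exact ⟨s, hsp, fun m => (Submodule.Quotient.mk_eq_zero _).1
      (Module.mem_annihilator.1 hs (Submodule.Quotient.mk m))⟩
  -- `n ≤ d`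
  let bW := Module.finBasis k WW
  have hnd : n ≤ Module.finrank k WW := by
    haveI := hq
    letI : Algebra p.ResidueField q.ResidueField :=
      (Ideal.ResidueField.map p q (algebraMap A B) hqp.symm).toAlgebra
    haveI : IsScalarTower A p.ResidueField q.ResidueField := .of_algebraMap_eq fun a => by
      rw [RingHom.algebraMap_toAlgebra, Ideal.ResidueField.map_algebraMap,
        ← IsScalarTower.algebraMap_apply]
    have h1 : Module.finrank q.ResidueField (q.ResidueField ⊗[A] M) = n := by
      rw [← (TensorProduct.AlgebraTensorModule.cancelBaseChange A p.ResidueField q.ResidueField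
        q.ResidueField M).finrank_eq, Module.finrank_baseChange, Module.finrank_eq_card_basis bas,
        Fintype.card_fin]
    let η : B ⊗[A] M →ₗ[A] q.ResidueField ⊗[A] M :=
      (IsScalarTower.toAlgHom A B q.ResidueField).toLinearMap.rTensor M
    have hη : ∀ (b : B) z, η (b • z) = algebraMap B q.ResidueField b • η z := fun b z => by
      induction z using TensorProduct.induction_on with
      | zero => simp
      | add a c ha hc => simp only [smul_add, map_add, ha, hc]
      | tmul a m => simp [η, smul_tmul', Algebra.smul_def]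
    have htop : Submodule.span q.ResidueField (Set.range fun l =>
        η (phi hM hb (bW l ⊗ₜ[k] (1 : B)))) = ⊤ := by
      rw [eq_top_iff]
      rintro z -
      have hall : ∀ y, η (phi hM hb y) ∈ Submodule.span q.ResidueField (Set.range fun l =>
          η (phi hM hb (bW l ⊗ₜ[k] (1 : B)))) := by
        intro y
        induction y using TensorProduct.induction_on with
        | zero => simp
        | add a c ha hc => simp only [map_add]; exact add_mem ha hc
        | tmul w b =>
          conv in w ⊗ₜ[k] b => rw [← bW.sum_repr w]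
          rw [sum_tmul, map_sum, map_sum]
          refine Submodule.sum_mem _ fun l _ => ?_
          rw [← smul_tmul', map_smul, ← algebraMap_smul B (bW.repr w l), hη]
          refine Submodule.smul_mem _ _ ?_
          rw [show phi hM hb (bW l ⊗ₜ[k] b) = b • phi hM hb (bW l ⊗ₜ[k] (1 : B)) by simp [phi], hη]
          exact Submodule.smul_mem _ _ (Submodule.subset_span ⟨l, rfl⟩)
      induction z using TensorProduct.induction_on with
      | zero => simp
      | add a c ha hc => exact add_mem ha hc
      | tmul c m =>
        rw [show c ⊗ₜ[A] m = c • η (theta k M (m ⊗ₜ[k] (1 : B))) by simp [η, smul_tmul'], ← phi_psi hM hb]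
        exact Submodule.smul_mem _ _ (hall _)
    rw [← h1, ← finrank_top (R := q.ResidueField) (M := q.ResidueField ⊗[A] M), ← htop]
    exact (finrank_range_le_card _).trans_eq (Fintype.card_fin _)
  -- no relations after localisation
  let Q := Localization (Algebra.algebraMapSubmonoid B p.primeCompl)
  let L : Fin (Module.finrank k WW) → WW ⊗[k] B →ₗ[k] Q := fun l =>
    (IsScalarTower.toAlgHom k B Q).toLinearMap ∘ₗ (TensorProduct.lid k B).toLinearMap ∘ₗ (bW.coord l).rTensor B
  have hLmul : ∀ l (b : B) (y : WW ⊗[k] B),
      L l ((LinearMap.mul k B b).lTensor WW y) = algebraMap B Q b * L l y := fun l b y => by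
    induction y using TensorProduct.induction_on with
    | zero => simp
    | add a c ha hc => simp only [map_add, mul_add, ha, hc]
    | tmul w c => simp [L, ← map_mul, mul_smul_comm]
  let V : (Fin n → Q) →ₗ[Q] (Fin (Module.finrank k WW) → Q) :=
    Fintype.linearCombination Q fun i l => L l (psi hM (x i ⊗ₜ[k] (1 : B)))
  have hunit : ∀ a : A, a ∉ p → IsUnit (algebraMap B Q (algebraMap A B a)) := fun a ha =>
    IsLocalization.map_units Q (⟨_, a, ha, rfl⟩ : Algebra.algebraMapSubmonoid B p.primeCompl)
  have hVsurj : Function.Surjective V := by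
    have hall : ∀ z : M ⊗[k] B, (fun l => L l (psi hM z)) ∈ LinearMap.range V := by
      intro z
      induction z using TensorProduct.induction_on with
      | zero => exact ⟨0, by ext; simp⟩
      | add a c ha hc =>
        convert! add_mem ha hc using 1
        ext l
        simp
      | tmul m b =>
        obtain ⟨c, hc⟩ := Submodule.mem_span_range_iff_exists_fun A |>.1 (hs₁ m)
        obtain ⟨w, hw⟩ := (hunit s₁ hs₁p).exists_left_inv
        refine ⟨fun i => w * algebraMap B Q b * algebraMap B Q (algebraMap A B (c i)), ?_⟩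
        have e : ∀ (a : A) (b : B) (m : M), psi hM ((a • m) ⊗ₜ[k] b) =
            (LinearMap.mul k B (algebraMap A B a * b)).lTensor WW (psi hM (m ⊗ₜ[k] (1 : B))) := fun a b m => by
          rw [← psi_act hM hb]; simp
        ext l
        simp only [V, Fintype.linearCombination_apply, Finset.sum_apply, Pi.smul_apply, smul_eq_mul]
        have hsm := congrArg (fun y : M => L l (psi hM (y ⊗ₜ[k] b))) hc
        simp only [sum_tmul, map_sum, e, hLmul, map_mul] at hsm
        have hm1 : L l (psi hM (m ⊗ₜ[k] b)) = algebraMap B Q b * L l (psi hM (m ⊗ₜ[k] (1 : B))) := by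
          have := e 1 b m
          rw [one_smul, map_one, one_mul] at this
          rw [this, hLmul]
        rw [hm1]
        calc _ = w * ∑ i, algebraMap B Q (algebraMap A B (c i)) * algebraMap B Q b *
              L l (psi hM (x i ⊗ₜ[k] (1 : B))) := by
              rw [Finset.mul_sum]; exact Finset.sum_congr rfl fun i _ => by ring
          _ = w * algebraMap B Q (algebraMap A B s₁) * (algebraMap B Q b * L l (psi hM (m ⊗ₜ[k] (1 : B)))) := by
              rw [hsm]; ring
          _ = _ := by rw [hw, one_mul]
    intro v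
    rw [← LinearMap.mem_range, show v = ∑ l, v l • Pi.single l (1 : Q) by ext j; simp [Pi.single_apply]]
    refine Submodule.sum_mem _ fun l _ => Submodule.smul_mem _ _ ?_
    obtain ⟨m, hm⟩ := Submodule.Quotient.mk_surjective _ (bW l)
    convert! hall (sig' hM (m ⊗ₜ[k] (1 : B))) using 1
    ext l'
    simp [L, psi, sig_sig', hm, Pi.single_apply, Finsupp.single_apply, eq_comm, apply_ite (algebraMap B Q)]
  have hVinj : Function.Injective V := by
    have := OrzechProperty.injective_of_surjective_endomorphism
      (LinearMap.funLeft Q Q (Fin.castLE hnd) ∘ₗ V)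
      ((LinearMap.funLeft_surjective_of_injective Q Q _ (Fin.castLE_injective hnd)).comp hVsurj)
    exact Function.Injective.of_comp (f := LinearMap.funLeft Q Q (Fin.castLE hnd)) this
  have hrel : ∀ c : Fin n → A, ∑ i, c i • x i = 0 → ∃ s ∉ p, ∀ i, s * c i = 0 := by
    intro c hc
    have hz : V (fun i => algebraMap B Q (algebraMap A B (c i))) = 0 := by
      ext l
      simp only [V, Fintype.linearCombination_apply, Finset.sum_apply, Pi.smul_apply, smul_eq_mul, Pi.zero_apply]
      have := congrArg (fun y : M => L l (psi hM (y ⊗ₜ[k] (1 : B)))) hc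
      simp only [sum_tmul, map_sum, zero_tmul, map_zero] at this
      refine Eq.trans (Finset.sum_congr rfl fun i _ => ?_) this
      rw [← hLmul, ← mul_one (algebraMap A B (c i)), ← psi_act hM hb]
      simp
    have h0 := hVinj (hz.trans (map_zero V).symm)
    have : ∀ i, ∃ s ∉ p, s * c i = 0 := fun i => by
      obtain ⟨⟨_, a, ha, rfl⟩, hm⟩ :=
        (IsLocalization.map_eq_zero_iff (Algebra.algebraMapSubmonoid B p.primeCompl) Q _).1 (congrFun h0 i)
      exact ⟨a, ha, hf (by rw [map_mul, map_zero]; exact hm)⟩
    choose t ht ht0 using this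
    refine ⟨∏ i, t i, fun h => ?_, fun i => ?_⟩
    · obtain ⟨i, -, hi⟩ := hpp.prod_mem_iff.1 h
      exact ht i hi
    · rw [← Finset.prod_erase_mul _ _ (Finset.mem_univ i), mul_assoc, ht0, mul_zero]
  obtain ⟨R, hR⟩ : (LinearMap.ker (Fintype.linearCombination A x)).FG := IsNoetherian.noetherian _
  choose! t ht ht0 using fun (c : Fin n → A) (hc : c ∈ R) => hrel c (by
    have : c ∈ LinearMap.ker (Fintype.linearCombination A x) := hR ▸ Submodule.subset_span hc
    simpa [Fintype.linearCombination_apply] using this)
  refine ⟨n, x, s₁ * ∏ c ∈ R, t c, fun h => ?_, fun m => ?_, fun c hc i => ?_⟩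
  · rcases hpp.mem_or_mem h with h | h
    · exact hs₁p h
    · obtain ⟨c, hc, hi⟩ := hpp.prod_mem_iff.1 h
      exact ht c hc hi
  · rw [mul_comm, mul_smul]
    exact Submodule.smul_mem _ _ (hs₁ m)
  · have hc' : c ∈ Submodule.span A (R : Set (Fin n → A)) := by
      rw [hR]; simpa [Fintype.linearCombination_apply] using hc
    have hkill : ∀ e ∈ Submodule.span A (R : Set (Fin n → A)), (∏ c ∈ R, t c) • e = 0 := by
      intro e he
      induction he using Submodule.span_induction with
      | mem e he =>
        ext j
        rw [Pi.smul_apply, Pi.zero_apply, smul_eq_mul, ← Finset.prod_erase_mul R t he, mul_assoc, ht0 e he, mul_zero]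
      | zero => simp
      | add a b _ _ ha hb => rw [smul_add, ha, hb, add_zero]
      | smul a b _ hb => rw [smul_comm, hb, smul_zero]
    rw [mul_assoc, show (∏ c ∈ R, t c) * c i = 0 from congrFun (hkill c hc') i, mul_zero]

/-! ### Transport -/

omit [HopfAlgebra k B] [IsScalarTower k A B] [Algebra A B] [IsNoetherianRing A] in
lemma eq_zero_of_rTensor_eq_zero [Algebra k B] {X Y Z : Type*} [AddCommGroup X] [Module k X] [AddCommGroup Y]
    [Module k Y] [AddCommGroup Z] [Module k Z] (g : X →ₗ[k] Y) (G : X ⊗[k] B →ₗ[k] Z)
    (h : ∀ e, g e = 0 → ∀ b, G (e ⊗ₜ[k] b) = 0) {u : X ⊗[k] B} (hu : g.rTensor B u = 0) : G u = 0 := by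
  obtain ⟨u', rfl⟩ := (Module.Flat.rTensor_exact B (LinearMap.exact_subtype_ker_map g) u).1 hu
  have : G ∘ₗ (LinearMap.ker g).subtype.rTensor B = 0 :=
    TensorProduct.ext' fun e b => by simpa using h e.1 (LinearMap.mem_ker.1 e.2) b
  exact LinearMap.congr_fun this u'

variable (k A B) in
/-- `A → κ ⊗ B` -/
def mapK {K : Type*} [CommRing K] [Algebra k K] (χ : A →ₐ[k] K) : TT →ₐ[k] K ⊗[k] B :=
  Algebra.TensorProduct.map χ (AlgHom.id k B)

theorem not_isNilpotent_mapK (hf : Function.Injective (algebraMap A B)) (q : Ideal A) [q.IsPrime]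
    {s : A} (hs : ¬ IsNilpotent s) :
    ¬ IsNilpotent (mapK k A B (IsScalarTower.toAlgHom k A q.ResidueField) (tauT k A B (s ⊗ₜ[k] (1 : B)))) := by
  have hinjR : Function.Injective (Algebra.TensorProduct.includeRight : A →ₐ[k] q.ResidueField ⊗[k] A) :=
    Algebra.TensorProduct.includeRight_injective (algebraMap k q.ResidueField).injective
  have h := not_isNilpotent_translate k A (IsScalarTower.toAlgHom k A q.ResidueField) hinjR hs
  intro hn
  apply h
  have hinjL : Function.Injective
      (Algebra.TensorProduct.map (AlgHom.id k q.ResidueField) (IsScalarTower.toAlgHom k A B)) := by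
    have := Module.Flat.lTensor_preserves_injective_linearMap (M := q.ResidueField)
      (IsScalarTower.toAlgHom k A B).toLinearMap hf
    exact this
  apply (IsNilpotent.map_iff hinjL).1
  convert! hn using 1
  simp only [mapK, tauT, Algebra.TensorProduct.lift_tmul, AlgHom.comp_apply, Bialgebra.comulAlgHom_apply,
    Algebra.TensorProduct.includeRight_apply, ← Algebra.TensorProduct.one_def, mul_one]
  generalize CoalgebraStruct.comul (R := k) s = u
  induction u using TensorProduct.induction_on with
  | zero => simp
  | add p q hp hq => simp only [map_add, hp, hq]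
  | tmul p q => simp

lemma rTensor_act {N N' : Submodule A B} (g : N →ₗ[A] N') (t : TT) (z : N ⊗[k] B) :
    (g.restrictScalars k).rTensor B (act N t z) = act N' t ((g.restrictScalars k).rTensor B z) := by
  induction t using TensorProduct.induction_on with
  | zero => simp
  | add p q hp hq => simp only [map_add, LinearMap.add_apply, hp, hq]
  | tmul a b =>
    induction z using TensorProduct.induction_on with
    | zero => simp
    | add p q hp hq => simp only [map_add, hp, hq]
    | tmul m c => simp

include hM in
/-- A costable finitely generated `A`-submodule of `B` is flat. -/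
theorem flat_of_costable (hb : IsBialgMap k A B) (hf : Function.Injective (algebraMap A B)) (hfg : M.FG) :
    Module.Flat A M := by
  classical
  have hnt : Nontrivial A := by
    haveI : Nontrivial B := by
      refine ⟨0, 1, fun h => ?_⟩
      have := congrArg (CoalgebraStruct.counit (R := k) (A := B)) h
      simp at this
    exact (algebraMap A B).domain_nontrivial
  obtain ⟨p, hp⟩ : (minimalPrimes A).Nonempty := Set.nonempty_coe_sort.1 (Ideal.nonempty_minimalPrimes bot_ne_top)
  obtain ⟨n, x, s, hsp, hspan, hker⟩ := exists_free_nhd hM hb hf hfg p hp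
  have hsnil : ¬ IsNilpotent s := fun h => hsp (hp.1.1.mem_of_pow_mem _ (h.choose_spec ▸ p.zero_mem))
  refine Module.Flat.of_forall_isTrivialRelation fun {l a m} hrel => ?_
  -- trivial relations
  let Rel : Submodule A (Fin l → A) := LinearMap.ker (Fintype.linearCombination A a)
  let Tr : Submodule A (Fin l → M) := Submodule.span A
    (Set.range fun ey : Rel × M => fun i => (ey.1.1 i) • ey.2)
  suffices hmem : m ∈ Tr by
    obtain ⟨N, c, g, hsum⟩ := Submodule.mem_span_set'.1 hmem
    choose ey hey using fun j => (g j).2
    refine ⟨N, fun i j => c j * (ey j).1.1 i, fun j => (ey j).2, fun i => ?_, fun j => ?_⟩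
    · rw [← hsum, Finset.sum_apply]
      refine Finset.sum_congr rfl fun j _ => ?_
      rw [Pi.smul_apply, ← hey j, smul_smul]
    · have : ∑ i, (ey j).1.1 i • a i = 0 := (ey j).1.2
      calc ∑ i, a i * (c j * (ey j).1.1 i) = c j * ∑ i, (ey j).1.1 i • a i := by
            rw [Finset.mul_sum]; exact Finset.sum_congr rfl fun i _ => by rw [smul_eq_mul]; ring
        _ = 0 := by rw [this, mul_zero]
  rw [← Submodule.Quotient.mk_eq_zero Tr]
  let J : Ideal A := LinearMap.ker (LinearMap.toSpanSingleton A ((Fin l → M) ⧸ Tr) (Submodule.Quotient.mk m))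
  suffices hJ : J = ⊤ by
    have : (1 : A) ∈ J := hJ ▸ Submodule.mem_top
    simpa [J] using this
  by_contra hne
  obtain ⟨q, hq, hJq⟩ := J.exists_le_maximal hne
  haveI := hq.isPrime
  let S := tauT k A B (s ⊗ₜ[k] (1 : B))
  apply not_isNilpotent_mapK (k := k) hf q hsnil
  refine ⟨2, ?_⟩
  rw [← map_pow]
  -- `S² ∈ J ⊗ B`
  let Q := (Fin l → M) ⧸ Tr
  let io : Fin l → M ⊗[k] B →ₗ[k] Q ⊗[k] B := fun i =>
    ((Tr.mkQ ∘ₗ LinearMap.single A (fun _ => M) i).restrictScalars k).rTensor B
  let ev : TT →ₗ[k] Q ⊗[k] B :=
    ((LinearMap.toSpanSingleton A Q (Submodule.Quotient.mk m)).restrictScalars k).rTensor B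
  have hev : ∀ t, ev t = ∑ i, io i (act M t (m i ⊗ₜ[k] (1 : B))) := by
    intro t
    induction t using TensorProduct.induction_on with
    | zero => simp
    | add u v hu hv => simp only [map_add, LinearMap.add_apply, Finset.sum_add_distrib, hu, hv]
    | tmul c b =>
      simp only [ev, io, act_tmul, mul_one, LinearMap.rTensor_tmul, ← sum_tmul, LinearMap.restrictScalars_apply,
        LinearMap.toSpanSingleton_apply, LinearMap.comp_apply, Submodule.mkQ_apply, ← Submodule.Quotient.mk_smul]
      congr 1
      rw [← Submodule.mkQ_apply, ← map_smul,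
        show (c • m : Fin l → M) = ∑ i, LinearMap.single A (fun _ => M) i (c • m i) from
          (Finset.univ_sum_single (c • m)).symm, map_sum]
      rfl
  -- express `S • (m i ⊗ 1)` in the transported frame
  let w : Fin n → M ⊗[k] B := fun j => sig hM (x j ⊗ₜ[k] (1 : B))
  have hgen : ∀ z : M ⊗[k] B, ∃ c : Fin n → TT, act M S z = ∑ j, act M (c j) (w j) := by
    intro z
    have h0 : ∀ y : M ⊗[k] B, ∃ c : Fin n → TT,
        act M (s ⊗ₜ[k] (1 : B)) y = ∑ j, act M (c j) (x j ⊗ₜ[k] (1 : B)) := by
      intro y
      induction y using TensorProduct.induction_on with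
      | zero => exact ⟨0, by simp⟩
      | add u v hu hv =>
        obtain ⟨c, hc⟩ := hu
        obtain ⟨c', hc'⟩ := hv
        exact ⟨c + c', by simp [hc, hc', Finset.sum_add_distrib]⟩
      | tmul y b =>
        obtain ⟨c, hc⟩ := (Submodule.mem_span_range_iff_exists_fun A).1 (hspan y)
        refine ⟨fun j => c j ⊗ₜ[k] b, ?_⟩
        simp [← hc, sum_tmul]
    obtain ⟨c, hc⟩ := h0 (sig' hM z)
    refine ⟨fun j => tauT k A B (c j), ?_⟩
    have := congrArg (sig hM) hc
    rw [sig_act hM hb, sig_sig', map_sum] at this
    simpa [w, sig_act hM hb] using this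
  choose c hc using fun i => hgen (m i ⊗ₜ[k] (1 : B))
  have hindep : ∀ t : Fin n → TT, ∑ j, act M (t j) (w j) = 0 → ∀ j, S * t j = 0 := by
    intro t ht j
    let P : (Fin n → A) →ₗ[k] M := (Fintype.linearCombination A x).restrictScalars k
    have hz : ∑ j, act M (tauT' k A B (t j)) (x j ⊗ₜ[k] (1 : B)) = 0 := by
      have := congrArg (sig' hM) ht
      simpa [w, map_sum, sig'_act hM hb, sig'_sig] using this
    let y : (Fin n → A) ⊗[k] B :=
      ∑ j, ((LinearMap.single A (fun _ => A) j).restrictScalars k).rTensor B (tauT' k A B (t j))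
    have hy : P.rTensor B y = 0 := by
      rw [map_sum]
      refine Eq.trans (Finset.sum_congr rfl fun j _ => ?_) hz
      generalize tauT' k A B (t j) = u
      induction u using TensorProduct.induction_on with
      | zero => simp
      | add u v hu hv => simp only [map_add, LinearMap.add_apply, hu, hv]
      | tmul a b => simp [P]
    obtain ⟨y', hy'⟩ := (Module.Flat.rTensor_exact B (LinearMap.exact_subtype_ker_map P) y).1 hy
    have hkey : ∀ y'' : (LinearMap.ker P) ⊗[k] B,
        (((LinearMap.lsmul A (Fin n → A) s).restrictScalars k).rTensor B) ((LinearMap.ker P).subtype.rTensor B y'') = 0 := by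
      intro y''
      induction y'' using TensorProduct.induction_on with
      | zero => simp
      | add u v hu hv => simp only [map_add, hu, hv, add_zero]
      | tmul e b =>
        have he : s • (e.1 : Fin n → A) = 0 := funext fun i => hker e.1
          ((Fintype.linearCombination_apply A x e.1).symm.trans (LinearMap.mem_ker.1 e.2)) i
        simp [he]
    have h1 := hkey y'
    rw [hy'] at h1
    have h2 := congrArg (((LinearMap.proj j : (Fin n → A) →ₗ[A] A).restrictScalars k).rTensor B) h1
    have hval : ((LinearMap.proj j : (Fin n → A) →ₗ[A] A).restrictScalars k).rTensor B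
        (((LinearMap.lsmul A (Fin n → A) s).restrictScalars k).rTensor B y) =
        (s ⊗ₜ[k] (1 : B)) * tauT' k A B (t j) := by
      simp only [y, map_sum]
      rw [Finset.sum_eq_single j (fun i _ hij => ?_) (fun h => absurd (Finset.mem_univ j) h)]
      all_goals
        generalize tauT' k A B (t _) = u
        induction u using TensorProduct.induction_on with
        | zero => simp
        | add u v hu hv => simp only [map_add, mul_add, hu, hv, add_zero]
        | tmul a b => simp [*]
    rw [hval, map_zero] at h2
    have htt : ∀ u : TT, tauT k A B (tauT' k A B u) = u := fun u => by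
      have hinj : Function.Injective (emb (k := k) (A := A) (B := B)) := by
        have := Module.Flat.rTensor_preserves_injective_linearMap (M := B)
          (IsScalarTower.toAlgHom k A B).toLinearMap hf
        exact this
      exact hinj (by rw [emb_tauT hb, emb_tauT' hb, tau_tau'])
    have h3 := congrArg (tauT k A B) h2
    rw [map_mul, htt, map_zero] at h3
    exact h3
  have hcrel : ∀ j, ∑ i, (S * c i j) * (a i ⊗ₜ[k] (1 : B)) = 0 := by
    intro j
    have h0 : ∑ j, act M (∑ i, c i j * (a i ⊗ₜ[k] (1 : B))) (w j) = 0 := by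
      simp only [map_sum, LinearMap.sum_apply]
      rw [Finset.sum_comm]
      simp only [mul_comm (c _ _), map_mul, Module.End.mul_apply, ← map_sum, ← hc]
      rw [Finset.sum_congr rfl fun i _ => show act M (a i ⊗ₜ[k] (1 : B)) (act M S (m i ⊗ₜ[k] (1 : B))) =
        act M S ((a i • m i) ⊗ₜ[k] (1 : B)) by
        rw [← Module.End.mul_apply, ← map_mul, mul_comm, map_mul, Module.End.mul_apply, act_tmul, one_mul],
        ← map_sum, ← sum_tmul, hrel, zero_tmul, map_zero]
    rw [Finset.sum_congr rfl fun i _ => mul_assoc S _ _, ← Finset.mul_sum]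
    exact hindep _ h0 j
  have hev0 : ev (S * S) = 0 := by
    rw [hev]
    simp only [map_mul, Module.End.mul_apply, hc, map_sum]
    simp only [← Module.End.mul_apply, ← map_mul]
    rw [Finset.sum_comm]
    refine Finset.sum_eq_zero fun j _ => ?_
    let G : (Fin l → A) ⊗[k] B →ₗ[k] Q ⊗[k] B := ∑ i, io i ∘ₗ (act M).toLinearMap.flip (w j) ∘ₗ
      ((LinearMap.proj i : (Fin l → A) →ₗ[A] A).restrictScalars k).rTensor B
    let u : (Fin l → A) ⊗[k] B :=
      ∑ i, ((LinearMap.single A (fun _ => A) i).restrictScalars k).rTensor B (S * c i j)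
    have hproj : ∀ i, ((LinearMap.proj i : (Fin l → A) →ₗ[A] A).restrictScalars k).rTensor B u = S * c i j := by
      intro i
      simp only [u, map_sum]
      rw [Finset.sum_eq_single i (fun i' _ hii' => ?_) (fun h => absurd (Finset.mem_univ i) h)]
      all_goals
        generalize S * c _ j = v
        induction v using TensorProduct.induction_on with
        | zero => simp
        | add v v' hv hv' => simp only [map_add, hv, hv', add_zero]
        | tmul a b => simp [*]
    have hu0 : ((Fintype.linearCombination A a).restrictScalars k).rTensor B u = 0 := by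
      rw [← hcrel j]
      simp only [u, map_sum]
      refine Finset.sum_congr rfl fun i _ => ?_
      generalize S * c i j = v
      induction v using TensorProduct.induction_on with
      | zero => simp
      | add v v' hv hv' => simp only [map_add, add_mul, hv, hv']
      | tmul e b => simp
    obtain ⟨u', hu'⟩ := (Module.Flat.rTensor_exact B
      (LinearMap.exact_subtype_ker_map ((Fintype.linearCombination A a).restrictScalars k)) u).1 hu0
    calc _ = G u := by simp [G, hproj]
      _ = 0 := by
        refine eq_zero_of_rTensor_eq_zero _ G (fun e he b => ?_) hu0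
        simp only [G, LinearMap.sum_apply, LinearMap.comp_apply, LinearMap.flip_apply, LinearMap.rTensor_tmul,
          AlgHom.toLinearMap_apply, LinearMap.restrictScalars_apply, LinearMap.proj_apply]
        generalize w j = z
        induction z using TensorProduct.induction_on with
        | zero => simp
        | add v v' hv hv' => simp only [map_add, Finset.sum_add_distrib, hv, hv', add_zero]
        | tmul y b' =>
          simp only [io, act_tmul, LinearMap.rTensor_tmul, LinearMap.restrictScalars_apply, LinearMap.comp_apply,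
            ← sum_tmul]
          rw [show (∑ i, Tr.mkQ (LinearMap.single A (fun _ => M) i (e i • y))) = (0 : Q) from ?_, zero_tmul]
          rw [← map_sum, Submodule.mkQ_apply, Submodule.Quotient.mk_eq_zero]
          refine Submodule.subset_span ⟨(⟨e, LinearMap.mem_ker.2 he⟩, y), ?_⟩
          funext i'
          simp [LinearMap.single_apply, Finset.sum_apply, Pi.single_apply]
  rw [sq]
  refine eq_zero_of_rTensor_eq_zero _ (mapK k A B (IsScalarTower.toAlgHom k A q.ResidueField)).toLinearMap
    (fun e he b => ?_) hev0
  have he' : algebraMap A q.ResidueField e = 0 :=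
    Ideal.algebraMap_residueField_eq_zero.2 (hJq (LinearMap.mem_ker.2 he))
  simp [mapK, he']

include hM in
/-- The unit is nowhere zero in a costable module containing it. -/
theorem one_notMem_smul (hb : IsBialgMap k A B) (hf : Function.Injective (algebraMap A B)) (hfg : M.FG)
    (h1 : (1 : B) ∈ M) (q : Ideal A) [q.IsPrime] : (⟨1, h1⟩ : M) ∉ q • (⊤ : Submodule A M) := by
  classical
  have hnt : Nontrivial A := by
    haveI : Nontrivial B := by
      refine ⟨0, 1, fun h => ?_⟩
      have := congrArg (CoalgebraStruct.counit (R := k) (A := B)) h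
      simp at this
    exact (algebraMap A B).domain_nontrivial
  obtain ⟨p, hp⟩ : (minimalPrimes A).Nonempty := Set.nonempty_coe_sort.1 (Ideal.nonempty_minimalPrimes bot_ne_top)
  haveI := hp.1.1
  obtain ⟨n, x, s, hsp, hspan, hker⟩ := exists_free_nhd hM hb hf hfg p hp
  -- coordinate forms
  choose co hco using fun m : M => (Submodule.mem_span_range_iff_exists_fun A).1 (hspan m)
  have huniq : ∀ (m : M) (c : Fin n → A), ∑ i, c i • x i = s • m → ∀ i, s * co m i = s * c i := by
    intro m c hc i
    have := hker (co m - c) (by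
      rw [← Fintype.linearCombination_apply A x, map_sub]
      simp [Fintype.linearCombination_apply, hco, hc]) i
    rwa [Pi.sub_apply, mul_sub, sub_eq_zero] at this
  let φ : Fin n → M →ₗ[A] A := fun i =>
    { toFun := fun m => s * co m i
      map_add' := fun m m' => by
        rw [huniq (m + m') (co m + co m') (by simp [add_smul, Finset.sum_add_distrib, hco]) i]
        simp [mul_add]
      map_smul' := fun a m => by
        rw [huniq (a • m) (a • co m) (by simp [mul_smul, ← Finset.smul_sum, hco, smul_comm s a]) i]
        simp only [Pi.smul_apply, smul_eq_mul, RingHom.id_apply]; ring }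
  -- some coordinate of `1` is not nilpotent
  obtain ⟨i, hi⟩ : ∃ i, φ i ⟨1, h1⟩ ∉ p := by
    by_contra hall
    push Not at hall
    obtain ⟨q', hq', hq'p⟩ := Ideal.exists_comap_eq_of_mem_minimalPrimes_of_injective hf p hp
    have h2 : (s * s) • (⟨1, h1⟩ : M) = ∑ i, φ i ⟨1, h1⟩ • x i := by
      rw [mul_smul, show s • (⟨1, h1⟩ : M) = ∑ i, co ⟨1, h1⟩ i • x i from (hco _).symm, Finset.smul_sum]
      exact Finset.sum_congr rfl fun i _ => (mul_smul s _ _).symm
    have h3 := congrArg (fun y : M => (y : B)) h2
    simp only [SetLike.val_smul, AddSubmonoidClass.coe_finsetSum] at h3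
    rw [Algebra.smul_def, mul_one] at h3
    have hmem : algebraMap A B (s * s) ∈ q' := by
      rw [h3]
      refine q'.sum_mem fun i _ => ?_
      rw [Algebra.smul_def]
      exact q'.mul_mem_right _ (show φ i ⟨1, h1⟩ ∈ Ideal.comap (algebraMap A B) q' from hq'p.symm ▸ hall i)
    have : s * s ∈ p := hq'p ▸ hmem
    exact hsp ((hp.1.1.mem_or_mem this).elim id id)
  have hnil : ¬ IsNilpotent (φ i ⟨1, h1⟩) := fun h => hi (hp.1.1.mem_of_pow_mem _ (h.choose_spec ▸ p.zero_mem))
  intro hcon
  apply not_isNilpotent_mapK (k := k) hf q hnil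
  -- transported form
  let φT : M ⊗[k] B →ₗ[k] TT := (tauT k A B).toLinearMap ∘ₗ ((φ i).restrictScalars k).rTensor B ∘ₗ sig' hM
  have hφT : ∀ t z, φT (act M t z) = t * φT z := by
    intro t z
    have hlin : ∀ t z, ((φ i).restrictScalars k).rTensor B (act M t z) = t * ((φ i).restrictScalars k).rTensor B z := by
      intro t z
      induction t using TensorProduct.induction_on with
      | zero => simp
      | add u v hu hv => simp only [map_add, LinearMap.add_apply, add_mul, hu, hv]
      | tmul a b =>
        induction z using TensorProduct.induction_on with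
        | zero => simp
        | add u v hu hv => simp only [map_add, mul_add, hu, hv]
        | tmul m c => simp [smul_eq_mul]
    have hinj : Function.Injective (emb (k := k) (A := A) (B := B)) := by
      have := Module.Flat.rTensor_preserves_injective_linearMap (M := B)
        (IsScalarTower.toAlgHom k A B).toLinearMap hf
      exact this
    simp only [φT, LinearMap.comp_apply, AlgHom.toLinearMap_apply, sig'_act hM hb, hlin, map_mul]
    congr 1
    exact hinj (by rw [emb_tauT hb, emb_tauT' hb, tau_tau'])
  have hone : sig' hM ((⟨1, h1⟩ : M) ⊗ₜ[k] (1 : B)) = (⟨1, h1⟩ : M) ⊗ₜ[k] (1 : B) :=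
    inj_injective M (by
      rw [inj_sig', inj_tmul]
      show tau' k B ((1 : B) ⊗ₜ[k] (1 : B)) = (1 : B) ⊗ₜ[k] (1 : B)
      rw [← Algebra.TensorProduct.one_def, map_one])
  have hval : φT ((⟨1, h1⟩ : M) ⊗ₜ[k] (1 : B)) = tauT k A B (φ i ⟨1, h1⟩ ⊗ₜ[k] (1 : B)) := by
    simp [φT, hone]
  refine ⟨1, ?_⟩
  rw [pow_one, ← hval]
  refine Submodule.smul_induction_on hcon (fun a ha m _ => ?_) (fun u v hu hv => by
    rw [add_tmul, map_add, map_add, hu, hv, add_zero])
  rw [show (a • m) ⊗ₜ[k] (1 : B) = act (k := k) M (a ⊗ₜ[k] (1 : B)) (m ⊗ₜ[k] (1 : B)) by simp, hφT, map_mul]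
  have : algebraMap A q.ResidueField a = 0 := Ideal.algebraMap_residueField_eq_zero.2 ha
  simp [mapK, this]

omit [IsNoetherianRing A] in
lemma exists_costable (hb : IsBialgMap k A B) (s : Set B) (hs : s.Finite) :
    ∃ M : Submodule A B, M.FG ∧ s ⊆ M ∧ IsCostable k M := by
  obtain ⟨V, hV, hsV, hVsub⟩ := exists_finite_subcomod (k := k) (A := B) (V := B) s hs
  refine ⟨Submodule.span A (V : Set B), ?_, fun y hy => Submodule.subset_span (hsV hy), ?_⟩
  · obtain ⟨G, hG⟩ := Module.Finite.iff_fg.1 hV
    refine ⟨G, le_antisymm (Submodule.span_mono fun y hy => hG ▸ Submodule.subset_span hy) ?_⟩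
    rw [Submodule.span_le]
    intro y hy
    rw [SetLike.mem_coe, ← hG] at hy
    exact Submodule.span_le_restrictScalars k A (G : Set B) hy
  · rintro ⟨y, hy⟩
    induction hy using Submodule.span_induction with
    | mem y hy =>
      obtain ⟨z, hz⟩ := hVsub y hy
      refine ⟨((Submodule.inclusion (show V ≤ (Submodule.span A (V : Set B)).restrictScalars k from
        Submodule.subset_span)).rTensor B) z, ?_⟩
      refine Eq.trans ?_ hz
      clear hz
      induction z using TensorProduct.induction_on with
      | zero => rw [map_zero, map_zero]; exact map_zero _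
      | add u v hu hv => rw [map_add, map_add, ← hu, ← hv]; exact map_add _ _ _
      | tmul v b => rfl
    | zero => exact ⟨0, by simp⟩
    | add u v _ _ hu hv => simp only [map_add]; exact add_mem hu hv
    | smul a u _ hu =>
      obtain ⟨z, hz⟩ := hu
      refine ⟨act _ (Algebra.TensorProduct.map (AlgHom.id k A) (IsScalarTower.toAlgHom k A B)
        (CoalgebraStruct.comul (R := k) a)) z, ?_⟩
      rw [inj_act, hz]
      show _ * CoalgebraStruct.comul (R := k) u = CoalgebraStruct.comul (R := k) (a • u)
      rw [Algebra.smul_def, Bialgebra.comul_mul, hb.comul]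
      congr 1
      generalize CoalgebraStruct.comul (R := k) a = t
      induction t using TensorProduct.induction_on with
      | zero => simp
      | add u v hu hv => simp only [map_add, hu, hv]
      | tmul u v => simp

/-- An injective map of commutative Hopf algebras over a field, with Noetherian source, is faithfully
flat. -/
theorem faithfullyFlat_of_isBialgMap (hb : IsBialgMap k A B) (hf : Function.Injective (algebraMap A B)) :
    Module.FaithfullyFlat A B := by
  haveI : Module.Flat A B := by
    refine Module.Flat.of_forall_isTrivialRelation fun {l a m} hrel => ?_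
    obtain ⟨M, hfg, hsub, hM⟩ := exists_costable hb (Set.range m) (Set.finite_range m)
    haveI := flat_of_costable hM hb hf hfg
    obtain ⟨N, c, y, hy, hc⟩ := Module.Flat.isTrivialRelation_of_sum_smul_eq_zero (R := A) (M := M)
      (f := a) (x := fun i => ⟨m i, hsub ⟨i, rfl⟩⟩) (Subtype.ext (by simpa using hrel))
    exact ⟨N, c, fun j => y j, fun i => by simpa using congrArg Subtype.val (hy i), hc⟩
  refine ⟨fun q hq htop => ?_⟩
  haveI := hq.isPrime
  have h1 : (1 : B) ∈ q • (⊤ : Submodule A B) := by rw [htop]; trivial
  obtain ⟨T, hT⟩ : ∃ T : Finset B, (1 : B) ∈ q • Submodule.span A (T : Set B) := by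
    refine Submodule.smul_induction_on h1 (fun a ha b _ => ⟨{b},
      Submodule.smul_mem_smul ha (Submodule.subset_span (by simp))⟩) fun u v ⟨T, hu⟩ ⟨T', hv⟩ => ?_
    classical
    refine ⟨T ∪ T', add_mem (Submodule.smul_mono le_rfl (Submodule.span_mono (by simp)) hu)
      (Submodule.smul_mono le_rfl (Submodule.span_mono (by simp)) hv)⟩
  obtain ⟨M, hfg, hsub, hM⟩ := exists_costable hb (insert (1 : B) (T : Set B)) (T.finite_toSet.insert _)
  refine one_notMem_smul hM hb hf hfg (hsub (Set.mem_insert _ _)) q ?_
  have hle : q • Submodule.span A (T : Set B) ≤ Submodule.map M.subtype (q • (⊤ : Submodule A M)) := by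
    rw [Submodule.map_smul'', Submodule.map_top, Submodule.range_subtype]
    exact Submodule.smul_mono le_rfl (Submodule.span_le.2 fun y hy => hsub (Set.mem_insert_of_mem _ hy))
  obtain ⟨m, hm, hm1⟩ := hle hT
  rwa [show (⟨1, hsub (Set.mem_insert _ _)⟩ : M) = m from Subtype.ext hm1.symm]

end Groth.Agent.HopfLib.FF

namespace Groth.Agent.HopfLib

open FF

/-- An injective bialgebra map from a Noetherian commutative Hopf algebra over a field is faithfully flat. -/
theorem faithfullyFlat_of_injective {k : Type*} {A : Type*} {B : Type*} [Field k] [CommRing A] [CommRing B]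
    [HopfAlgebra k A] [HopfAlgebra k B] [IsNoetherianRing A]
    (f : A →ₐc[k] B) (hf : Function.Injective f) : (f : A →+* B).FaithfullyFlat := by
  algebraize [(f : A →+* B)]
  haveI : IsScalarTower k A B := .of_algebraMap_eq fun c => ((f : A →ₐ[k] B).commutes c).symm
  refine faithfullyFlat_of_isBialgMap (k := k) ⟨fun a => ?_, fun a => ?_⟩ hf
  · rw [show algebraMap A B a = f a from rfl,
      show CoalgebraStruct.comul (R := k) (f a) = TensorProduct.map (f : A →ₗ[k] B) (f : A →ₗ[k] B)
        (CoalgebraStruct.comul (R := k) a) from (CoalgHomClass.map_comp_comul_apply f a).symm]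
    generalize CoalgebraStruct.comul (R := k) a = t
    induction t using TensorProduct.induction_on with
    | zero => simp
    | add u v hu hv => simp only [map_add, hu, hv]
    | tmul u v => rfl
  · exact CoalgHomClass.counit_comp_apply f a

end Groth.Agent.HopfLib

namespace Groth.Agent.HopfLib

open WithConv in
/-- Bialgebra maps commute with the antipodes. -/
theorem map_antipode' {k : Type*} {A : Type*} {B : Type*} [CommRing k] [CommRing A] [CommRing B]
    [HopfAlgebra k A] [HopfAlgebra k B] (φ : A →ₐc[k] B) (c : A) :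
    φ (HopfAlgebra.antipode k c) = HopfAlgebra.antipode k (φ c) := by
  let f : WithConv (A →ₐ[k] B) := toConv (φ : A →ₐ[k] B)
  let g : WithConv (A →ₐ[k] B) := toConv ((HopfAlgebra.antipodeAlgHom k B).comp (φ : A →ₐ[k] B))
  have h : g * f = 1 := by
    have e := AlgHom.convMul_comp_bialgHom_distrib (toConv (HopfAlgebra.antipodeAlgHom k B))
      (toConv (AlgHom.id k B)) φ
    rw [AlgHom.antipode_id_cancel] at e
    refine ofConv_injective ?_
    refine e.symm.trans ?_
    ext x
    simp
  have h2 : g = f⁻¹ := eq_inv_of_mul_eq_one_left h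
  exact (congrArg (fun u : WithConv (A →ₐ[k] B) => u.ofConv c) h2).symm

/-- The kernel of a bialgebra map over a field is a Hopf ideal. -/
theorem isHopfIdeal_ker {k : Type*} {A : Type*} {B : Type*} [Field k] [CommRing A] [CommRing B]
    [HopfAlgebra k A] [HopfAlgebra k B] (f : A →ₐc[k] B) :
    (RingHom.ker (f : A →+* B)).IsHopfIdeal k := by
  let I := RingHom.ker (f : A →+* B)
  let g : (A ⧸ I.restrictScalars k) →ₗ[k] B :=
    (I.restrictScalars k).liftQ (f : A →ₗ[k] B) fun x hx => hx
  have hg : Function.Injective g := LinearMap.ker_eq_bot.1 (Submodule.ker_liftQ_eq_bot _ _ _ fun x hx => hx)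
  have hgg : Function.Injective (TensorProduct.map g g) := by
    rw [← LinearMap.lTensor_comp_rTensor, LinearMap.coe_comp]
    exact (Module.Flat.lTensor_preserves_injective_linearMap g hg).comp
      (Module.Flat.rTensor_preserves_injective_linearMap g hg)
  refine { toIsCoideal := ⟨fun x hx => ?_, fun x hx => ?_⟩, antipode_mem := fun x hx => ?_ }
  · rw [← CoalgHomClass.counit_comp_apply f x, show f x = 0 from hx, map_zero]
  · apply hgg
    rw [map_zero, ← LinearMap.comp_apply (TensorProduct.map g g), ← TensorProduct.map_comp]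
    rw [show g ∘ₗ (I.restrictScalars k).mkQ = (f : A →ₗ[k] B) from Submodule.liftQ_mkQ _ _ _]
    have h := CoalgHomClass.map_comp_comul_apply f x
    rw [show f x = 0 from hx, map_zero] at h
    exact h
  · show f (HopfAlgebra.antipode k x) = 0
    rw [map_antipode', show f x = 0 from hx, map_zero]

theorem faithfullyFlat_comp {R : Type*} {S : Type*} {T : Type*} [CommRing R] [CommRing S] [CommRing T]
    (f : R →+* S) (g : S →+* T) (hf : f.FaithfullyFlat) (hg : g.FaithfullyFlat) : (g.comp f).FaithfullyFlat := by
  algebraize [f, g, g.comp f]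
  rw [← RingHom.algebraMap_toAlgebra (g.comp f), RingHom.faithfullyFlat_algebraMap_iff]
  exact .trans R S T

/-- A commutative Hopf algebra is faithfully flat over the (Noetherian) image of any bialgebra map. -/
theorem faithfullyFlat_range {k : Type*} {A : Type*} {B : Type*} [Field k] [CommRing A] [CommRing B]
    [HopfAlgebra k A] [HopfAlgebra k B] [IsNoetherianRing A] (f : A →ₐc[k] B) :
    ((f : A →ₐ[k] B).range.val : (f : A →ₐ[k] B).range →+* B).FaithfullyFlat := by
  haveI := isHopfIdeal_ker f
  let I := RingHom.ker (f : A →+* B)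
  let g₀ : (A ⧸ I) →ₐ[k] B := Ideal.Quotient.liftₐ I (f : A →ₐ[k] B) fun a ha => ha
  have hg₀ : ∀ a, g₀ (Ideal.Quotient.mk I a) = f a := fun a => rfl
  let g : (A ⧸ I) →ₐc[k] B := BialgHom.ofAlgHom g₀
    (AlgHom.ext fun a => by
      obtain ⟨a, rfl⟩ := Ideal.Quotient.mk_surjective a
      exact CoalgHomClass.counit_comp_apply f a)
    (AlgHom.ext fun a => by
      obtain ⟨a, rfl⟩ := Ideal.Quotient.mk_surjective a
      simp only [AlgHom.comp_apply, Bialgebra.comulAlgHom_apply, hg₀]
      rw [← CoalgHomClass.map_comp_comul_apply f a]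
      show Algebra.TensorProduct.map g₀ g₀ (TensorProduct.map _ _ (CoalgebraStruct.comul (R := k) a)) = _
      generalize CoalgebraStruct.comul (R := k) a = t
      induction t using TensorProduct.induction_on with
      | zero => simp
      | add u v hu hv => simp only [map_add, hu, hv]
      | tmul u v => rfl)
  have hginj : Function.Injective g := by
    refine (injective_iff_map_eq_zero g).2 fun a ha => ?_
    obtain ⟨a, rfl⟩ := Ideal.Quotient.mk_surjective a
    exact Ideal.Quotient.eq_zero_iff_mem.2 (show f a = 0 from ha)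
  have hff := faithfullyFlat_of_injective g hginj
  let c : (A ⧸ I) →+* (f : A →ₐ[k] B).range :=
    Ideal.Quotient.lift I (f : A →ₐ[k] B).rangeRestrict.toRingHom fun a ha => Subtype.ext ha
  have hc : Function.Bijective c := by
    refine ⟨(injective_iff_map_eq_zero c).2 fun a ha => hginj ?_, fun b => ?_⟩
    · obtain ⟨a, rfl⟩ := Ideal.Quotient.mk_surjective a
      exact (congrArg Subtype.val ha).trans (map_zero g).symm
    · obtain ⟨a, ha⟩ := b.2
      exact ⟨Ideal.Quotient.mk I a, Subtype.ext ha⟩
  have hcomp : ((f : A →ₐ[k] B).range.val : (f : A →ₐ[k] B).range →+* B) =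
      (g : A ⧸ I →+* B).comp (RingEquiv.ofBijective c hc).symm.toRingHom := by
    ext b
    obtain ⟨a, rfl⟩ := hc.2 b
    rw [RingHom.comp_apply, RingEquiv.toRingHom_eq_coe, RingEquiv.coe_toRingHom,
      show (RingEquiv.ofBijective c hc).symm (c a) = a from (RingEquiv.ofBijective c hc).symm_apply_apply a]
    obtain ⟨a, rfl⟩ := Ideal.Quotient.mk_surjective a
    rfl
  rw [hcomp]
  exact faithfullyFlat_comp (RingEquiv.ofBijective c hc).symm.toRingHom (g : A ⧸ I →+* B)
    (RingHom.FaithfullyFlat.of_bijective (RingEquiv.ofBijective c hc).symm.bijective) hff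

end Groth.Agent.HopfLib
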