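import Mathlib.RingTheory.HopfAlgebra.Basic
import Mathlib.RingTheory.HopfAlgebra.Convolution
import Mathlib.RingTheory.Bialgebra.Hom
import Mathlib.RingTheory.FiniteType

/-!
# Transport of Hopf algebra structures along algebra equivalences; small models
-/

universe u v w

open TensorProduct

namespace Groth.Agent.HopfLib

variable {k : Type u} [CommRing k] {A : Type v} [CommRing A] [HopfAlgebra k A] {B : Type w} [CommRing B]
  [Algebra k B] (e : B ≃ₐ[k] A)

/-- transported comultiplication -/
noncomputable def transComul : B →ₐ[k] B ⊗[k] B :=
  ((Algebra.TensorProduct.map e.symm.toAlgHom e.symm.toAlgHom).comp (Bialgebra.comulAlgHom k A)).comp e.toAlgHom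

theorem map_transComul (b : B) : Algebra.TensorProduct.map e.toAlgHom e.toAlgHom (transComul e b) =
    CoalgebraStruct.comul (R := k) (e b) := by
  simp only [transComul, AlgHom.comp_apply, AlgEquiv.coe_toAlgHom, Bialgebra.comulAlgHom_apply]
  generalize CoalgebraStruct.comul (R := k) (e b) = t
  induction t using TensorProduct.induction_on with
  | zero => simp
  | add p q hp hq => simp only [map_add, hp, hq]
  | tmul p q => simp

theorem transComul_eq (b : B) (t : A ⊗[k] A) (h : CoalgebraStruct.comul (R := k) (e b) = t) :
    transComul e b = Algebra.TensorProduct.map e.symm.toAlgHom e.symm.toAlgHom t := by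
  simp [transComul, ← h]

/-- transported bialgebra structure -/
noncomputable abbrev bialgOfEquiv : Bialgebra k B :=
  Bialgebra.ofAlgHom (transComul e) ((Bialgebra.counitAlgHom k A).comp e.toAlgHom)
    (by
      refine AlgHom.ext fun b => ?_
      have h1 : ∀ z : A ⊗[k] A, (Algebra.TensorProduct.assoc k k k B B B).toAlgHom
          (Algebra.TensorProduct.map (transComul e) (AlgHom.id k B)
            (Algebra.TensorProduct.map e.symm.toAlgHom e.symm.toAlgHom z)) =
          Algebra.TensorProduct.map e.symm.toAlgHom (Algebra.TensorProduct.map e.symm.toAlgHom e.symm.toAlgHom)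
            (TensorProduct.assoc k A A A ((CoalgebraStruct.comul (R := k) (A := A)).rTensor A z)) := by
        intro z
        induction z using TensorProduct.induction_on with
        | zero => simp
        | add p q hp hq => simp only [map_add, hp, hq]
        | tmul p q =>
          simp only [Algebra.TensorProduct.map_tmul, AlgHom.id_apply, LinearMap.rTensor_tmul, AlgEquiv.coe_toAlgHom]
          rw [transComul_eq e (e.symm p) _ (by rw [e.apply_symm_apply])]
          generalize CoalgebraStruct.comul (R := k) p = t
          induction t using TensorProduct.induction_on with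
          | zero => simp
          | add u v hu hv => simp only [map_add, add_tmul, hu, hv]
          | tmul u v => simp
      have h2 : ∀ z : A ⊗[k] A, Algebra.TensorProduct.map (AlgHom.id k B) (transComul e)
            (Algebra.TensorProduct.map e.symm.toAlgHom e.symm.toAlgHom z) =
          Algebra.TensorProduct.map e.symm.toAlgHom (Algebra.TensorProduct.map e.symm.toAlgHom e.symm.toAlgHom)
            ((CoalgebraStruct.comul (R := k) (A := A)).lTensor A z) := by
        intro z
        induction z using TensorProduct.induction_on with
        | zero => simp
        | add p q hp hq => simp only [map_add, hp, hq]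
        | tmul p q =>
          simp only [Algebra.TensorProduct.map_tmul, AlgHom.id_apply, LinearMap.lTensor_tmul, AlgEquiv.coe_toAlgHom]
          rw [transComul_eq e (e.symm q) _ (by rw [e.apply_symm_apply])]
      simp only [AlgHom.comp_apply]
      rw [transComul_eq e b _ rfl, h1, h2, Coalgebra.coassoc_apply])
    (by
      refine AlgHom.ext fun b => ?_
      have h1 : ∀ z : A ⊗[k] A, Algebra.TensorProduct.map ((Bialgebra.counitAlgHom k A).comp e.toAlgHom) (AlgHom.id k B)
            (Algebra.TensorProduct.map e.symm.toAlgHom e.symm.toAlgHom z) =
          Algebra.TensorProduct.map (AlgHom.id k k) e.symm.toAlgHom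
            ((CoalgebraStruct.counit (R := k) (A := A)).rTensor A z) := by
        intro z
        induction z using TensorProduct.induction_on with
        | zero => simp
        | add p q hp hq => simp only [map_add, hp, hq]
        | tmul p q => simp
      simp only [AlgHom.comp_apply]
      rw [transComul_eq e b _ rfl, h1, Coalgebra.rTensor_counit_comul]
      simp)
    (by
      refine AlgHom.ext fun b => ?_
      have h1 : ∀ z : A ⊗[k] A, Algebra.TensorProduct.map (AlgHom.id k B) ((Bialgebra.counitAlgHom k A).comp e.toAlgHom)
            (Algebra.TensorProduct.map e.symm.toAlgHom e.symm.toAlgHom z) =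
          Algebra.TensorProduct.map e.symm.toAlgHom (AlgHom.id k k)
            ((CoalgebraStruct.counit (R := k) (A := A)).lTensor A z) := by
        intro z
        induction z using TensorProduct.induction_on with
        | zero => simp
        | add p q hp hq => simp only [map_add, hp, hq]
        | tmul p q => simp
      simp only [AlgHom.comp_apply]
      rw [transComul_eq e b _ rfl, h1, Coalgebra.lTensor_counit_comul]
      simp)

/-- transported Hopf structure -/
noncomputable abbrev hopfOfEquiv : HopfAlgebra k B :=
  letI := bialgOfEquiv e
  HopfAlgebra.ofAlgHom ((e.symm.toAlgHom.comp (HopfAlgebra.antipodeAlgHom k A)).comp e.toAlgHom)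
    (by
      refine AlgHom.ext fun b => ?_
      have h1 : ∀ z : A ⊗[k] A, Algebra.TensorProduct.lift
            ((e.symm.toAlgHom.comp (HopfAlgebra.antipodeAlgHom k A)).comp e.toAlgHom) (AlgHom.id k B)
            (fun _ _ => Commute.all _ _)
            (Algebra.TensorProduct.map e.symm.toAlgHom e.symm.toAlgHom z) =
          e.symm (LinearMap.mul' k A ((HopfAlgebraStruct.antipode k (A := A)).rTensor A z)) := by
        intro z
        induction z using TensorProduct.induction_on with
        | zero => simp
        | add p q hp hq => simp only [map_add, hp, hq]
        | tmul p q => simp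
      simp only [AlgHom.comp_apply]
      show Algebra.TensorProduct.lift _ (AlgHom.id k B) (fun _ _ => Commute.all _ _) (transComul e b) =
        algebraMap k B (CoalgebraStruct.counit (R := k) (e b))
      rw [transComul_eq e b _ rfl, h1, HopfAlgebra.mul_antipode_rTensor_comul_apply, AlgEquiv.commutes])
    (by
      refine AlgHom.ext fun b => ?_
      have h1 : ∀ z : A ⊗[k] A, Algebra.TensorProduct.lift
            (AlgHom.id k B) ((e.symm.toAlgHom.comp (HopfAlgebra.antipodeAlgHom k A)).comp e.toAlgHom)
            (fun _ _ => Commute.all _ _)
            (Algebra.TensorProduct.map e.symm.toAlgHom e.symm.toAlgHom z) =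
          e.symm (LinearMap.mul' k A ((HopfAlgebraStruct.antipode k (A := A)).lTensor A z)) := by
        intro z
        induction z using TensorProduct.induction_on with
        | zero => simp
        | add p q hp hq => simp only [map_add, hp, hq]
        | tmul p q => simp
      simp only [AlgHom.comp_apply]
      show Algebra.TensorProduct.lift (AlgHom.id k B) _ (fun _ _ => Commute.all _ _) (transComul e b) =
        algebraMap k B (CoalgebraStruct.counit (R := k) (e b))
      rw [transComul_eq e b _ rfl, h1, HopfAlgebra.mul_antipode_lTensor_comul_apply, AlgEquiv.commutes])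

/-- A Hopf algebra of finite type has a model in the universe of the base. -/
theorem exists_small_model {k : Type u} [CommRing k] (A : Type v) [CommRing A] [HopfAlgebra k A]
    [Algebra.FiniteType k A] :
    ∃ (B : Type u) (_ : CommRing B) (_ : HopfAlgebra k B) (e : B ≃ₐ[k] A),
      (Bialgebra.counitAlgHom k A).comp e.toAlgHom = Bialgebra.counitAlgHom k B ∧
      ∀ b, Algebra.TensorProduct.map e.toAlgHom e.toAlgHom (CoalgebraStruct.comul (R := k) b) =
        CoalgebraStruct.comul (R := k) (e b) := by
  obtain ⟨n, f, hf⟩ := Algebra.FiniteType.iff_quotient_mvPolynomial''.1 (inferInstance : Algebra.FiniteType k A)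
  let e := Ideal.quotientKerAlgEquivOfSurjective hf
  exact ⟨_, inferInstance, hopfOfEquiv e, e, rfl, map_transComul e⟩

end Groth.Agent.HopfLib
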