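import Groth.Agent.HopfLib.UnipotentPow
import Mathlib.RingTheory.HopfAlgebra.Convolution
import Mathlib.GroupTheory.Nilpotent
import Mathlib.Algebra.CharP.Algebra
import Mathlib.Data.Nat.Prime.Factorial
import Mathlib.Data.Nat.Choose.Dvd

/-!
# Points of unipotent groups
-/

open TensorProduct HopfRep WithConv
open scoped commutatorElement

universe u v w

namespace Groth.Agent.HopfLib

set_option linter.unusedSectionVars false
set_option maxHeartbeats 400000

variable {k : Type u} [Field k] {A : Type v} [CommRing A]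

section Bialgebra

variable [Bialgebra k A] {V : Type w} [AddCommGroup V] [Module k V] [Comod k A V]

theorem act_apply (g : A →ₐ[k] k) (v : V) : Comod.act k A V g v = hit g.toLinearMap v := rfl

/-- The action of points on a comodule. -/
noncomputable def actHom (k : Type u) [Field k] (A : Type v) [CommRing A] [Bialgebra k A]
    (V : Type w) [AddCommGroup V] [Module k V] [Comod k A V] :
    WithConv (A →ₐ[k] k) →* Module.End k V where
  toFun g := Comod.act k A V g.ofConv
  map_one' := LinearMap.ext fun v => hit_counit v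
  map_mul' g h := LinearMap.ext fun v => by
    change hit (g * h).ofConv.toLinearMap v = hit g.ofConv.toLinearMap (hit h.ofConv.toLinearMap v)
    rw [hit_hit]
    rfl

theorem actHom_sub_one_mem {S T : Submodule k V}
    (h : ∀ v ∈ T, Comod.coact (k := k) (A := A) v - v ⊗ₜ[k] (1 : A) ∈ LinearMap.range (S.subtype.rTensor A))
    (g : WithConv (A →ₐ[k] k)) {v : V} (hv : v ∈ T) : (actHom k A V g - 1) v ∈ S := by
  have := sliceR_mem_of_mem_range (h v hv) g.ofConv.toLinearMap
  rw [map_sub, sliceR_tmul, AlgHom.toLinearMap_apply, map_one, one_smul] at this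
  exact this

theorem isNilpotent_act_sub_one {V : Type v} [AddCommGroup V] [Module k V] [Comod k A V] [Module.Finite k V]
    (hU : IsUnipotent k A) (g : A →ₐ[k] k) : IsNilpotent (Comod.act k A V g - 1) := by
  obtain ⟨F, hF, h0, htop, -, hs⟩ := exists_flag_unipotent (k := k) (A := A) (V := V) hU
  refine ⟨Module.finrank k V, LinearMap.ext fun v => ?_⟩
  have : ∀ i j, ∀ v ∈ F (i + j), ((actHom k A V (toConv g) - 1) ^ j) v ∈ F i := by
    intro i j
    induction j generalizing i with
    | zero => intro v hv; simpa using hv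
    | succ j ih =>
      intro v hv
      rw [pow_succ, Module.End.mul_apply]
      exact ih i _ (actHom_sub_one_mem (hs (i + j)) (toConv g) hv)
  have h := this 0 (Module.finrank k V) v (by rw [Nat.zero_add, htop]; exact Submodule.mem_top)
  rw [h0, Submodule.mem_bot] at h
  exact h

end Bialgebra

section Filtered

variable {V : Type w} [AddCommGroup V] [Module k V] {G : Type v} [Group G]

/-- Elements acting trivially up to shifting the filtration by `r`. -/
def shiftSubgroup (F : ℕ → Submodule k V) (hF : Monotone F) (ρ : G →* Module.End k V)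
    (h1 : ∀ g, ∀ i, ∀ v ∈ F (i + 1), ρ g v - v ∈ F i) (r : ℕ) : Subgroup G :=
  have stab : ∀ (g : G) (i : ℕ), ∀ v ∈ F i, ρ g v ∈ F i := fun g i v hv => by
    rw [← sub_add_cancel (ρ g v) v]
    exact add_mem (h1 g i v (hF (Nat.le_succ i) hv)) hv
  { carrier := {g | ∀ i, ∀ v ∈ F (i + r), ρ g v - v ∈ F i}
    one_mem' := fun i v _ => by simp
    mul_mem' := fun {g h} hg hh i v hv => by
      rw [map_mul, Module.End.mul_apply, show ρ g (ρ h v) - v = (ρ g (ρ h v) - ρ h v) + (ρ h v - v) by abel]
      exact add_mem (hg i _ (stab h _ v hv)) (hh i v hv)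
    inv_mem' := fun {g} hg i v hv => by
      have := hg i _ (stab g⁻¹ _ v hv)
      rw [← Module.End.mul_apply, ← map_mul, mul_inv_cancel, map_one, Module.End.one_apply] at this
      rw [← neg_sub]
      exact neg_mem this }

theorem isNilpotent_of_filtration (F : ℕ → Submodule k V) (hF : Monotone F) (h0 : F 0 = ⊥)
    (ρ : G →* Module.End k V) (h1 : ∀ g, ∀ i, ∀ v ∈ F (i + 1), ρ g v - v ∈ F i)
    (N : ℕ) (hinj : ∀ g, (∀ v ∈ F N, ρ g v = v) → g = 1) : Group.IsNilpotent G := by
  let H := shiftSubgroup F hF ρ h1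
  have stab : ∀ (g : G) (i : ℕ), ∀ v ∈ F i, ρ g v ∈ F i := fun g i v hv => by
    rw [← sub_add_cancel (ρ g v) v]
    exact add_mem (h1 g i v (hF (Nat.le_succ i) hv)) hv
  have key : ∀ n, Subgroup.lowerCentralSeries (⊤ : Subgroup G) n ≤ H (n + 1) := by
    intro n
    induction n with
    | zero => exact fun g _ i v hv => h1 g i v hv
    | succ n ih =>
      rw [Subgroup.lowerCentralSeries_succ, Subgroup.commutator_le]
      intro a ha b _ i v hv
      have ha' := ih ha
      let w := ρ (a⁻¹ * b⁻¹) v
      have hw : w ∈ F (i + (n + 1 + 1)) := stab _ _ v hv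
      have e1 : ρ ⁅a, b⁆ v = ρ a (ρ b w) := by
        rw [← Module.End.mul_apply, ← Module.End.mul_apply, ← map_mul, ← map_mul, commutatorElement_def]
        simp only [mul_assoc]
      have e2 : v = ρ b (ρ a w) := by
        rw [← Module.End.mul_apply, ← Module.End.mul_apply, ← map_mul, ← map_mul]
        simp [mul_assoc]
      have hA : ρ b w - w ∈ F (i + (n + 1)) := h1 b _ w hw
      have hB : ρ a w - w ∈ F (i + 1) := ha' (i + 1) w (by rwa [Nat.add_right_comm i 1, Nat.add_assoc])
      rw [e1]
      conv => arg 2; arg 2; rw [e2]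
      have e3 : ρ a (ρ b w) - ρ b (ρ a w) =
          (ρ a (ρ b w - w) - (ρ b w - w)) - (ρ b (ρ a w - w) - (ρ a w - w)) := by
        simp only [map_sub]; abel
      rw [e3]
      exact sub_mem (ha' i _ hA) (h1 b i _ hB)
  rw [Subgroup.nilpotent_iff_lowerCentralSeries]
  refine ⟨N, (Subgroup.eq_bot_iff_forall _).2 fun g hg => hinj g fun v hv => ?_⟩
  have := key N hg 0 v (hF (by omega) hv)
  rwa [h0, Submodule.mem_bot, sub_eq_zero] at this

end Filtered

section HopfAlgebra

variable [HopfAlgebra k A] [Algebra.FiniteType k A]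

set_option maxHeartbeats 1000000 in
theorem exists_socFil_generators (hU : IsUnipotent k A) :
    ∃ (s : Finset A) (N : ℕ), Algebra.adjoin k (s : Set A) = ⊤ ∧ ∀ a ∈ s, a ∈ socFil k A N := by
  obtain ⟨s, hs⟩ := (Algebra.FiniteType.out : (⊤ : Subalgebra k A).FG)
  choose r hr using fun a : A => exists_mem_socFil hU a
  exact ⟨s, s.sup r, hs, fun a ha => socFil_mono (Finset.le_sup ha) (hr a)⟩

theorem isNilpotent_points (hU : IsUnipotent k A) : Group.IsNilpotent (WithConv (A →ₐ[k] k)) := by
  obtain ⟨s, N, hs, hN⟩ := exists_socFil_generators hU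
  have h0 : socFil k A 0 = ⊥ := rfl
  have h1 : ∀ (g : WithConv (A →ₐ[k] k)) (i : ℕ), ∀ v ∈ socFil k A (i + 1),
      actHom k A A g v - v ∈ socFil k A i := fun g i v hv =>
    actHom_sub_one_mem (S := socFil k A i) (T := socFil k A (i + 1)) (fun x hx => comul_sub_mem_socFil hx) g hv
  refine isNilpotent_of_filtration (V := A) (socFil k A) socFil_mono h0 (actHom k A A) h1 N fun g hg => ?_
  apply ofConv_injective
  refine AlgHom.ext_of_adjoin_eq_top hs fun a ha => ?_
  have h := congrArg (CoalgebraStruct.counit (R := k)) (hg a (hN a ha))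
  show g.ofConv a = algebraMap k k (CoalgebraStruct.counit a)
  rw [Algebra.algebraMap_self_apply, ← h]
  change g.ofConv a = CoalgebraStruct.counit (R := k) (sliceR g.ofConv.toLinearMap (CoalgebraStruct.comul (R := k) a))
  conv_lhs => rw [← Coalgebra.sum_counit_smul (Coalgebra.Repr.arbitrary k a)]
  conv_rhs => rw [← (Coalgebra.Repr.arbitrary k a).eq]
  simp [map_sum, mul_comm]

variable {B : Type w} [CommRing B] [Algebra k B]

theorem convPow_eq_sum (g : A →ₐ[k] B) (n : ℕ) (a : A) :
    (toConv g ^ n).ofConv a =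
      ∑ j ∈ Finset.range (n + 1), n.choose j • ((toConv g.toLinearMap - 1) ^ j).ofConv a := by
  have := (Commute.one_right (toConv g.toLinearMap - 1 : WithConv (A →ₗ[k] B))).add_pow n
  rw [sub_add_cancel] at this
  refine (congrArg (fun x : WithConv (A →ₗ[k] B) => x.ofConv a)
    ((AlgHom.toLinearMap_convPow (toConv g) n).trans this)).trans ?_
  rw [WithConv.ofConv_sum, LinearMap.sum_apply]
  refine Finset.sum_congr rfl fun j _ => ?_
  rw [one_pow, mul_one, ← (Nat.cast_commute _ _).eq, ← nsmul_eq_mul]
  rfl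

theorem exists_pow_primePow_eq_one (p : ℕ) [Fact p.Prime] [CharP k p] (hU : IsUnipotent k A) :
    ∃ m, 0 < m ∧ ∀ g : WithConv (A →ₐ[k] B), g ^ p ^ m = 1 := by
  obtain ⟨s, N, hs, hN⟩ := exists_socFil_generators hU
  refine ⟨N + 1, Nat.succ_pos _, fun g => ?_⟩
  apply ofConv_injective
  refine AlgHom.ext_of_adjoin_eq_top hs fun a ha => ?_
  rw [show g = toConv g.ofConv from (toConv_ofConv g).symm, convPow_eq_sum, Finset.sum_eq_single 0]
  · simp
  · intro j hj hj0
    rw [Finset.mem_range] at hj
    rcases eq_or_ne j (p ^ (N + 1)) with rfl | hne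
    · rw [convPow_apply_eq_zero _ (by simp [Algebra.algebraMap_eq_smul_one]) N a (hN a ha) _
        ((Nat.le_succ N).trans (Nat.lt_pow_self (Fact.out : p.Prime).one_lt).le), smul_zero]
    · obtain ⟨c, hc⟩ := (Fact.out : p.Prime).dvd_choose_pow hj0 hne
      rw [← Nat.cast_smul_eq_nsmul k, hc, Nat.cast_mul, CharP.cast_eq_zero k p, zero_mul, zero_smul]
  · simp

theorem pow_bijective_points (hU : IsUnipotent k A) (e : ℕ) (he : ¬ ringChar k ∣ e) :
    Function.Bijective fun g : WithConv (A →ₐ[k] B) => g ^ e := by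
  rcases CharP.char_is_prime_or_zero k (ringChar k) with hp | hp
  · have := Fact.mk hp
    have : CharP k (ringChar k) := ringChar.charP k
    obtain ⟨m, hm, h⟩ := exists_pow_primePow_eq_one (B := B) (ringChar k) hU
    have hcop : Nat.Coprime e (ringChar k ^ m) :=
      Nat.Coprime.pow_right m ((hp.coprime_iff_not_dvd.2 he).symm)
    obtain ⟨d, -, hd⟩ := Nat.exists_mul_mod_eq_one_of_coprime hcop (Nat.one_lt_pow hm.ne' hp.one_lt)
    have key : ∀ g : WithConv (A →ₐ[k] B), g ^ (e * d) = g := fun g => by
      rw [pow_eq_pow_mod _ (h g), hd, pow_one]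
    exact Function.bijective_iff_has_inverse.2 ⟨fun g => g ^ d, fun g => by
      show (g ^ e) ^ d = g; rw [← pow_mul, key], fun g => by
      show (g ^ d) ^ e = g; rw [← pow_mul, mul_comm, key]⟩
  · have : CharP k 0 := hp ▸ ringChar.charP k
    have : CharZero k := CharP.charP_to_charZero k
    refine pow_bijective_of_isUnipotent hU fun h0 => he ?_
    rw [h0, hp]

end HopfAlgebra

end Groth.Agent.HopfLib
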