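import Groth.Agent.HopfLib.Subcoalgebra
import Mathlib.LinearAlgebra.Dual.Lemmas
import Groth.Prelude.Def_HopfRep
import Groth.Prelude.Def_Hoch
import Groth.Prelude.Def_ComodSub

/-!
# Comodules over a coalgebra: slices, subcomodules, morphisms, coefficient spaces
-/

open TensorProduct HopfRep
open Coalgebra (comul counit)

universe u v w w'

namespace Groth.Agent.HopfLib

set_option linter.unusedSectionVars false
set_option maxHeartbeats 400000

section CommRing

variable {k : Type u} [CommRing k] {A : Type v} [AddCommGroup A] [Module k A] [Coalgebra k A]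
  {V : Type w} [AddCommGroup V] [Module k V] [Comod k A V]
  {W : Type w'} [AddCommGroup W] [Module k W] [Comod k A W]

/-- Convolution of two linear forms on a coalgebra. -/
noncomputable def formMul (g h : A →ₗ[k] k) : A →ₗ[k] k :=
  (LinearMap.mul' k k ∘ₗ TensorProduct.map g h) ∘ₗ comul

/-- The action of a linear form on a comodule: `v ↦ Σ g(v₁) v₀`. -/
noncomputable def hit (g : A →ₗ[k] k) : V →ₗ[k] V := sliceR g ∘ₗ Comod.coact

/-- The matrix coefficient `v ↦ Σ f(v₀) v₁`. -/
noncomputable def cf (f : V →ₗ[k] k) : V →ₗ[k] A := sliceL f ∘ₗ Comod.coact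

theorem hit_apply (g : A →ₗ[k] k) (v : V) : hit g v = sliceR g (Comod.coact v) := rfl

theorem cf_apply (f : V →ₗ[k] k) (v : V) : cf (A := A) f v = sliceL f (Comod.coact v) := rfl

theorem coassoc_apply (v : V) :
    TensorProduct.assoc k V A A ((Comod.coact (k := k) (A := A) (V := V)).rTensor A (Comod.coact v)) =
      (comul (R := k) (A := A)).lTensor V (Comod.coact v) :=
  LinearMap.congr_fun (Comod.coassoc (k := k) (A := A) (V := V)) v

theorem counit_coact (v : V) :
    (counit (R := k) (A := A)).lTensor V (Comod.coact v) = v ⊗ₜ 1 :=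
  LinearMap.congr_fun (Comod.counit_comp (k := k) (A := A) (V := V)) v

@[simp] theorem hit_counit (v : V) : hit (counit (R := k) (A := A)) v = v := by
  simp [hit_apply, sliceR, counit_coact v]

theorem hit_hit (g h : A →ₗ[k] k) (v : V) : hit g (hit h v) = hit (formMul g h) v := by
  have e : ∀ Y : (V ⊗[k] A) ⊗[k] A, sliceR g (sliceR h Y) =
      sliceR (LinearMap.mul' k k ∘ₗ TensorProduct.map g h) (TensorProduct.assoc k V A A Y) := by
    intro Y
    induction Y using TensorProduct.induction_on with
    | zero => simp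
    | add p q hp hq => simp only [map_add, hp, hq]
    | tmul ab c =>
      induction ab using TensorProduct.induction_on with
      | zero => simp
      | add p q hp hq => simp only [TensorProduct.add_tmul, map_add, hp, hq]
      | tmul a b => simp [smul_smul, mul_comm]
  simp only [hit_apply]
  rw [← sliceR_rTensor, e, coassoc_apply]
  generalize Comod.coact (k := k) (A := A) v = t
  induction t using TensorProduct.induction_on with
  | zero => simp
  | add p q hp hq => simp only [map_add, hp, hq]
  | tmul a b => simp [formMul]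

theorem hit_add (g h : A →ₗ[k] k) (v : V) : hit (g + h) v = hit g v + hit h v := by
  simp only [hit_apply]
  generalize Comod.coact (k := k) (A := A) v = t
  induction t using TensorProduct.induction_on with
  | zero => simp
  | add p q hp hq => simp only [map_add, hp, hq]; abel
  | tmul a b => simp [add_smul]

theorem hit_smul (c : k) (g : A →ₗ[k] k) (v : V) : hit (c • g) v = c • hit g v := by
  simp only [hit_apply]
  generalize Comod.coact (k := k) (A := A) v = t
  induction t using TensorProduct.induction_on with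
  | zero => simp
  | add p q hp hq => simp only [map_add, smul_add, hp, hq]
  | tmul a b => simp [mul_smul]

/-- `(g ↦ hit g v)` as a linear map. -/
noncomputable def orbitMap (v : V) : (A →ₗ[k] k) →ₗ[k] V where
  toFun g := hit g v
  map_add' g h := hit_add g h v
  map_smul' c g := hit_smul c g v

/-- The smallest subcomodule containing `v` (over a field). -/
noncomputable def orbit (k : Type u) [CommRing k] (A : Type v) [AddCommGroup A] [Module k A] [Coalgebra k A]
    {V : Type w} [AddCommGroup V] [Module k V] [Comod k A V] (v : V) : Submodule k V :=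
  LinearMap.range (orbitMap (k := k) (A := A) v)

theorem mem_orbit_self (v : V) : v ∈ orbit k A v :=
  ⟨counit, hit_counit v⟩

theorem orbit_fg_le (v : V) : ∃ U : Submodule k V, U.FG ∧ orbit k A v ≤ U := by
  obtain ⟨U, hU, hU'⟩ := exists_fg_forall_sliceR_mem (Comod.coact (k := k) (A := A) v)
  exact ⟨U, hU, fun _ ⟨g, hg⟩ => hg ▸ hU' g⟩

/-! ### Coefficients -/

theorem counit_cf (f : V →ₗ[k] k) (v : V) : counit (R := k) (cf (A := A) f v) = f v := by
  rw [cf_apply]
  calc counit (R := k) (sliceL f (Comod.coact (k := k) (A := A) v))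
      = sliceL f ((counit (R := k) (A := A)).lTensor V (Comod.coact v)) :=
        (sliceL_lTensor _ _ _).symm
    _ = f v := by rw [counit_coact]; simp

theorem sliceL_coact_comul (f : V →ₗ[k] k) (v : V) :
    comul (R := k) (cf (A := A) f v) =
      (cf (A := A) f).rTensor A (Comod.coact (k := k) (A := A) v) := by
  rw [cf_apply, ← sliceL_lTensor, ← coassoc_apply]
  generalize Comod.coact (k := k) (A := A) v = t
  induction t using TensorProduct.induction_on with
  | zero => simp
  | add p q hp hq => simp only [map_add, hp, hq]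
  | tmul a b =>
    simp only [LinearMap.rTensor_tmul, cf_apply]
    generalize Comod.coact (k := k) (A := A) a = t
    induction t using TensorProduct.induction_on with
    | zero => simp
    | add p q hp hq => simp only [TensorProduct.add_tmul, map_add, hp, hq]
    | tmul c d => simp [TensorProduct.smul_tmul']

/-- A matrix coefficient map is a morphism to the regular comodule. -/
theorem isComodHom_cf (f : V →ₗ[k] k) : Hoch.IsComodHom A (cf (A := A) f) :=
  LinearMap.ext fun v => sliceL_coact_comul f v

theorem sliceR_comul_cf (g : A →ₗ[k] k) (f : V →ₗ[k] k) (v : V) :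
    sliceR g (comul (R := k) (cf (A := A) f v)) = cf f (hit g v) := by
  rw [sliceL_coact_comul, sliceR_rTensor]; rfl

theorem sliceL_comul_cf (h : A →ₗ[k] k) (f : V →ₗ[k] k) (v : V) :
    sliceL h (comul (R := k) (cf (A := A) f v)) = cf (f ∘ₗ hit h) v := by
  rw [sliceL_coact_comul, cf_apply]
  generalize Comod.coact (k := k) (A := A) v = t
  induction t using TensorProduct.induction_on with
  | zero => simp
  | add p q hp hq => simp only [map_add, hp, hq]
  | tmul a b =>
    simp only [LinearMap.rTensor_tmul, sliceL_tmul, LinearMap.comp_apply, hit_apply, cf_apply]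
    congr 1
    generalize Comod.coact (k := k) (A := A) a = t
    induction t using TensorProduct.induction_on with
    | zero => simp
    | add p q hp hq => simp only [map_add, hp, hq]
    | tmul c d => simp [mul_comm]

/-! ### Morphisms -/

theorem IsComodHom.coact_apply {f : V →ₗ[k] W} (hf : Hoch.IsComodHom A f) (v : V) :
    Comod.coact (k := k) (A := A) (f v) = f.rTensor A (Comod.coact v) :=
  LinearMap.congr_fun hf v

theorem IsComodHom.hit_apply {f : V →ₗ[k] W} (hf : Hoch.IsComodHom A f) (g : A →ₗ[k] k) (v : V) :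
    f (hit g v) = hit g (f v) := by
  simp only [Groth.Agent.HopfLib.hit_apply, IsComodHom.coact_apply hf, sliceR_rTensor]

theorem isComodHom_id : Hoch.IsComodHom A (LinearMap.id : V →ₗ[k] V) := by
  simp [Hoch.IsComodHom]

theorem isComodHom_zero : Hoch.IsComodHom A (0 : V →ₗ[k] W) := by
  simp [Hoch.IsComodHom]

theorem IsComodHom.comp {U : Type*} [AddCommGroup U] [Module k U] [Comod k A U] {f : V →ₗ[k] W}
    {g : W →ₗ[k] U} (hg : Hoch.IsComodHom A g) (hf : Hoch.IsComodHom A f) :
    Hoch.IsComodHom A (g ∘ₗ f) := by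
  refine LinearMap.ext fun v => ?_
  simp [IsComodHom.coact_apply hg, IsComodHom.coact_apply hf, LinearMap.rTensor_comp]

theorem IsComodHom.add {f g : V →ₗ[k] W} (hf : Hoch.IsComodHom A f) (hg : Hoch.IsComodHom A g) :
    Hoch.IsComodHom A (f + g) := by
  refine LinearMap.ext fun v => ?_
  simp [IsComodHom.coact_apply hg, IsComodHom.coact_apply hf, LinearMap.rTensor_add]

theorem IsComodHom.smul {f : V →ₗ[k] W} (c : k) (hf : Hoch.IsComodHom A f) :
    Hoch.IsComodHom A (c • f) := by
  refine LinearMap.ext fun v => ?_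
  simp [IsComodHom.coact_apply hf, LinearMap.rTensor_smul]

theorem IsComodHom.sub {f g : V →ₗ[k] W} (hf : Hoch.IsComodHom A f) (hg : Hoch.IsComodHom A g) :
    Hoch.IsComodHom A (f - g) := by
  refine LinearMap.ext fun v => ?_
  simp [IsComodHom.coact_apply hg, IsComodHom.coact_apply hf, LinearMap.rTensor_sub]

theorem IsComodHom.symm {e : V ≃ₗ[k] W} (he : Hoch.IsComodHom A e.toLinearMap) :
    Hoch.IsComodHom A e.symm.toLinearMap := by
  refine LinearMap.ext fun w => ?_
  have := IsComodHom.coact_apply he (e.symm w)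
  simp only [LinearEquiv.coe_coe, LinearEquiv.apply_symm_apply] at this
  simp only [LinearMap.comp_apply, LinearEquiv.coe_coe]
  rw [this, ← LinearMap.comp_apply, ← LinearMap.rTensor_comp, LinearEquiv.symm_comp]
  exact (LinearMap.rTensor_id_apply A V _).symm

/-! ### Subcomodules -/

theorem IsSubcomod.hit_mem {S : Submodule k V} (hS : IsSubcomod (k := k) (A := A) S)
    (g : A →ₗ[k] k) {v : V} (hv : v ∈ S) : hit g v ∈ S :=
  sliceR_mem_of_mem_range (hS v hv) g

theorem isSubcomod_bot : IsSubcomod (k := k) (A := A) (⊥ : Submodule k V) := by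
  intro v hv
  rw [Submodule.mem_bot] at hv
  simp [hv]

theorem isSubcomod_top : IsSubcomod (k := k) (A := A) (⊤ : Submodule k V) := fun v _ =>
  ⟨(LinearEquiv.ofTop ⊤ rfl).symm.toLinearMap.rTensor A (Comod.coact v), by
    rw [← LinearMap.comp_apply, ← LinearMap.rTensor_comp]
    exact LinearMap.rTensor_id_apply A V _⟩

theorem range_rTensor_subtype_mono {S T : Submodule k V} (h : S ≤ T) :
    LinearMap.range ((S.subtype : S →ₗ[k] V).rTensor A) ≤ LinearMap.range (T.subtype.rTensor A) := by
  rw [show (S.subtype : S →ₗ[k] V) = T.subtype ∘ₗ Submodule.inclusion h from rfl, LinearMap.rTensor_comp]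
  exact LinearMap.range_comp_le_range _ _

theorem isSubcomod_iSup {ι : Sort*} {S : ι → Submodule k V}
    (h : ∀ i, IsSubcomod (k := k) (A := A) (S i)) : IsSubcomod (k := k) (A := A) (⨆ i, S i) := by
  intro v hv
  refine Submodule.iSup_induction S (motive := fun x => Comod.coact (k := k) (A := A) x ∈
    LinearMap.range ((⨆ i, S i).subtype.rTensor A)) hv ?_ ?_ ?_
  · exact fun i x hx => range_rTensor_subtype_mono (le_iSup S i) (h i x hx)
  · simp
  · exact fun x y hx hy => by rw [map_add]; exact add_mem hx hy

theorem isSubcomod_sup {S T : Submodule k V} (hS : IsSubcomod (k := k) (A := A) S)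
    (hT : IsSubcomod (k := k) (A := A) T) : IsSubcomod (k := k) (A := A) (S ⊔ T) := by
  rw [sup_eq_iSup]
  exact isSubcomod_iSup (fun b => by cases b <;> assumption)

theorem isSubcomod_map {f : V →ₗ[k] W} (hf : Hoch.IsComodHom A f) {S : Submodule k V}
    (hS : IsSubcomod (k := k) (A := A) S) : IsSubcomod (k := k) (A := A) (S.map f) := by
  rintro _ ⟨v, hv, rfl⟩
  obtain ⟨t, ht⟩ := hS v hv
  refine ⟨((f ∘ₗ S.subtype).codRestrict (S.map f) fun x => ⟨x, x.2, rfl⟩).rTensor A t, ?_⟩
  rw [← LinearMap.comp_apply, ← LinearMap.rTensor_comp, IsComodHom.coact_apply hf, ← ht,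
    ← LinearMap.comp_apply, ← LinearMap.rTensor_comp]
  congr 1

theorem isSubcomod_range {f : V →ₗ[k] W} (hf : Hoch.IsComodHom A f) :
    IsSubcomod (k := k) (A := A) (LinearMap.range f) := by
  rw [LinearMap.range_eq_map]
  exact isSubcomod_map hf isSubcomod_top

end CommRing

section Field

variable {k : Type u} [Field k] {A : Type v} [AddCommGroup A] [Module k A] [Coalgebra k A]
  {V : Type w} [AddCommGroup V] [Module k V] [c : Comod k A V]
  {W : Type w'} [AddCommGroup W] [Module k W] [Comod k A W]

theorem isSubcomod_iff_hit {S : Submodule k V} :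
    IsSubcomod (k := k) (A := A) S ↔ ∀ g : A →ₗ[k] k, ∀ v ∈ S, hit g v ∈ S :=
  ⟨fun h g _ hv => IsSubcomod.hit_mem h g hv,
    fun h v hv => mem_range_rTensor_subtype_iff.2 fun g => h g v hv⟩

theorem isComodHom_iff_hit {f : V →ₗ[k] W} :
    Hoch.IsComodHom A f ↔ ∀ (g : A →ₗ[k] k) (v : V), f (hit g v) = hit g (f v) := by
  refine ⟨fun h g v => IsComodHom.hit_apply h g v, fun h => LinearMap.ext fun v => ?_⟩
  refine eq_of_forall_sliceR_eq fun g => ?_
  simp only [LinearMap.comp_apply, sliceR_rTensor]
  exact (h g v).symm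

theorem isSubcomod_inf {S T : Submodule k V} (hS : IsSubcomod (k := k) (A := A) S)
    (hT : IsSubcomod (k := k) (A := A) T) : IsSubcomod (k := k) (A := A) (S ⊓ T) :=
  isSubcomod_iff_hit.2 fun g _ hv => ⟨IsSubcomod.hit_mem hS g hv.1, IsSubcomod.hit_mem hT g hv.2⟩

theorem isSubcomod_iInf {ι : Sort*} {S : ι → Submodule k V}
    (h : ∀ i, IsSubcomod (k := k) (A := A) (S i)) : IsSubcomod (k := k) (A := A) (⨅ i, S i) :=
  isSubcomod_iff_hit.2 fun g _ hv => Submodule.mem_iInf _ |>.2 fun i =>
    IsSubcomod.hit_mem (h i) g ((Submodule.mem_iInf _).1 hv i)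

theorem isSubcomod_comap {f : V →ₗ[k] W} (hf : Hoch.IsComodHom A f) {S : Submodule k W}
    (hS : IsSubcomod (k := k) (A := A) S) : IsSubcomod (k := k) (A := A) (S.comap f) :=
  isSubcomod_iff_hit.2 fun g v hv => by
    rw [Submodule.mem_comap, IsComodHom.hit_apply hf]
    exact IsSubcomod.hit_mem hS g hv

theorem isSubcomod_ker {f : V →ₗ[k] W} (hf : Hoch.IsComodHom A f) :
    IsSubcomod (k := k) (A := A) (LinearMap.ker f) :=
  isSubcomod_comap hf isSubcomod_bot

theorem isSubcomod_orbit (v : V) : IsSubcomod (k := k) (A := A) (orbit k A v) :=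
  isSubcomod_iff_hit.2 fun g _ ⟨h, hh⟩ => ⟨formMul g h, by
    rw [← hh]; exact (hit_hit g h v).symm⟩

theorem orbit_le {S : Submodule k V} (hS : IsSubcomod (k := k) (A := A) S) {v : V} (hv : v ∈ S) :
    orbit k A v ≤ S := fun _ ⟨g, hg⟩ => hg ▸ IsSubcomod.hit_mem hS g hv

theorem finite_orbit (v : V) : Module.Finite k (orbit k A v) := by
  obtain ⟨U, hU, hle⟩ := orbit_fg_le (k := k) (A := A) v
  exact Module.Finite.iff_fg.2 (Submodule.FG.of_le hU hle)

theorem exists_finite_subcomod (s : Set V) (hs : s.Finite) :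
    ∃ S : Submodule k V, Module.Finite k S ∧ s ⊆ S ∧ IsSubcomod (k := k) (A := A) S := by
  classical
  refine ⟨⨆ v ∈ hs.toFinset, orbit k A v, Module.Finite.iff_fg.2 ?_, fun v hv => ?_, ?_⟩
  · exact Submodule.fg_biSup _ _ fun v _ => Module.Finite.iff_fg.1 (finite_orbit v)
  · exact Submodule.mem_iSup_of_mem v (Submodule.mem_iSup_of_mem (hs.mem_toFinset.2 hv) (mem_orbit_self v))
  · exact isSubcomod_iSup fun v => isSubcomod_iSup fun _ => isSubcomod_orbit v

/-! ### Restricted and quotient structures -/

theorem hit_restr {S : Submodule k V} (hS : @IsSubcomod k A _ _ _ _ V _ _ c S)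
    (g : A →ₗ[k] k) (x : S) :
    Subtype.val (@hit k _ A _ _ _ S _ _ (ComodSub.Comod.restr c S hS) g x) =
      @hit k _ A _ _ _ V _ _ c g (S.subtype x) :=
  @IsComodHom.hit_apply k _ A _ _ _ S _ _ (ComodSub.Comod.restr c S hS) V _ _ c S.subtype
    (ComodSub.isComodHom_subtype c S hS) g x

theorem hit_quot {S : Submodule k V} (hS : @IsSubcomod k A _ _ _ _ V _ _ c S)
    (g : A →ₗ[k] k) (x : V) :
    @hit k _ A _ _ _ (V ⧸ S) _ _ (ComodSub.Comod.quot c S hS) g (S.mkQ x) =
      S.mkQ (@hit k _ A _ _ _ V _ _ c g x) :=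
  (@IsComodHom.hit_apply k _ A _ _ _ V _ _ c (V ⧸ S) _ _ (ComodSub.Comod.quot c S hS) S.mkQ
    (ComodSub.isComodHom_mkQ c S hS) g x).symm

/-! ### The coefficient space -/

/-- The span of all matrix coefficients. -/
noncomputable def coeffSpace (k : Type u) [Field k] (A : Type v) [AddCommGroup A] [Module k A]
    [Coalgebra k A] (V : Type w) [AddCommGroup V] [Module k V] [Comod k A V] : Submodule k A :=
  ⨆ f : V →ₗ[k] k, LinearMap.range (cf (A := A) f)

theorem cf_mem_coeffSpace (f : V →ₗ[k] k) (v : V) : cf f v ∈ coeffSpace k A V :=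
  Submodule.mem_iSup_of_mem f ⟨v, rfl⟩

theorem forall_coact_mem_iff_coeffSpace_le (D : Submodule k A) :
    (∀ v : V, Comod.coact (k := k) (A := A) v ∈ LinearMap.range (D.subtype.lTensor V)) ↔
      coeffSpace k A V ≤ D := by
  simp only [coeffSpace, iSup_le_iff, mem_range_lTensor_subtype_iff]
  exact ⟨fun h f _ ⟨v, hv⟩ => hv ▸ h v f, fun h v f => h f ⟨v, rfl⟩⟩

theorem isLeast_coeffSpace :
    IsLeast {D : Submodule k A | ∀ v : V, Comod.coact (k := k) (A := A) v ∈
      LinearMap.range (D.subtype.lTensor V)} (coeffSpace k A V) :=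
  ⟨(forall_coact_mem_iff_coeffSpace_le _).2 le_rfl, fun D hD =>
    (forall_coact_mem_iff_coeffSpace_le D).1 hD⟩

theorem comul_coeffSpace (b : A) (hb : b ∈ coeffSpace k A V) :
    comul (R := k) b ∈
      LinearMap.range (TensorProduct.map (coeffSpace k A V).subtype (coeffSpace k A V).subtype) := by
  refine Submodule.iSup_induction _ (motive := fun x => comul (R := k) x ∈
    LinearMap.range (TensorProduct.map (coeffSpace k A V).subtype (coeffSpace k A V).subtype)) hb ?_ ?_ ?_
  · rintro f _ ⟨v, rfl⟩
    refine mem_range_map_subtype_iff.2 ⟨fun g => ?_, fun h => ?_⟩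
    · rw [sliceR_comul_cf]; exact cf_mem_coeffSpace _ _
    · rw [sliceL_comul_cf]; exact cf_mem_coeffSpace _ _
  · simp
  · exact fun x y hx hy => by rw [map_add]; exact add_mem hx hy

theorem exists_cf_ne_zero {v : V} (hv : v ≠ 0) : ∃ f : V →ₗ[k] k, cf (A := A) f v ≠ 0 := by
  obtain ⟨f, hf⟩ := not_forall.1 (mt (Module.forall_dual_apply_eq_zero_iff k v).1 hv)
  exact ⟨f, fun h => hf (by rw [← counit_cf (A := A) f v, h, map_zero])⟩

theorem coeffSpace_le_of_injective {f : V →ₗ[k] W} (hf : Hoch.IsComodHom A f)
    (hinj : Function.Injective f) : coeffSpace k A V ≤ coeffSpace k A W := by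
  refine iSup_le fun φ => ?_
  obtain ⟨π, hπ⟩ := f.exists_leftInverse_of_injective (LinearMap.ker_eq_bot.2 hinj)
  rintro _ ⟨v, rfl⟩
  have h1 : cf (A := A) (φ ∘ₗ π) (f v) = cf (A := A) φ v := by
    simp only [cf_apply, IsComodHom.coact_apply hf]
    generalize Comod.coact (k := k) (A := A) v = t
    induction t using TensorProduct.induction_on with
    | zero => simp
    | add p q hp hq => simp only [map_add, hp, hq]
    | tmul a b => simp [show π (f a) = a from LinearMap.congr_fun hπ a]
  rw [← h1]
  exact cf_mem_coeffSpace _ _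

/-- Build a comodule from its action of linear forms. -/
@[reducible] def comodOfHit (ρ : V →ₗ[k] V ⊗[k] A)
    (h1 : ∀ v, sliceR (counit (R := k) (A := A)) (ρ v) = v)
    (h2 : ∀ g h v, sliceR g (ρ (sliceR h (ρ v))) = sliceR (formMul g h) (ρ v)) : Comod k A V where
  coact := ρ
  coassoc := by
    refine LinearMap.ext fun v => ?_
    refine (TensorProduct.assoc k V A A).symm.injective ?_
    simp only [LinearMap.comp_apply, LinearEquiv.coe_coe, LinearEquiv.symm_apply_apply]
    refine eq_of_forall_sliceR_eq fun h => eq_of_forall_sliceR_eq fun g => ?_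
    rw [sliceR_rTensor, h2]
    generalize ρ v = t
    induction t using TensorProduct.induction_on with
    | zero => simp
    | add p q hp hq => simp only [map_add, hp, hq]
    | tmul a b =>
      simp only [LinearMap.lTensor_tmul, sliceR_tmul, formMul, LinearMap.comp_apply]
      generalize comul (R := k) b = s
      induction s using TensorProduct.induction_on with
      | zero => simp
      | add p q hp hq => simp only [TensorProduct.tmul_add, map_add, add_smul, hp, hq]
      | tmul c d => simp [smul_smul, mul_comm]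
  counit_comp := by
    refine LinearMap.ext fun v => ?_
    apply (TensorProduct.rid k V).injective
    simpa [sliceR] using h1 v

end Field

end Groth.Agent.HopfLib
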