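import Groth.Agent.HopfLib.ComodModule
import Mathlib.RingTheory.HopfAlgebra.Convolution

/-!
# Integrals on commutative Hopf algebras and averaging
-/

open TensorProduct HopfRep WithConv Coalgebra

universe u v w w' x

namespace Groth.Agent.HopfLib

set_option linter.unusedSectionVars false
set_option maxHeartbeats 400000
set_option linter.unusedSimpArgs false

section Antipode

variable {k : Type u} [CommRing k] {A : Type v} [CommRing A] [HopfAlgebra k A]

theorem antipode_antipode (a : A) :
    HopfAlgebraStruct.antipode k (HopfAlgebraStruct.antipode k a) = a := by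
  have h : ((toConv (AlgHom.id k A))⁻¹)⁻¹ = toConv (AlgHom.id k A) := inv_inv _
  exact congr($(h).ofConv a)

/-- In the group of algebra maps `A → A ⊗ A`: `(1 ⊗ id) · (Δ ∘ S) = S ⊗ 1`. -/
theorem mul_map_includeRight_comul_antipode (a : A) :
    LinearMap.mul' k (A ⊗[k] A) (TensorProduct.map
      (Algebra.TensorProduct.includeRight : A →ₐ[k] A ⊗[k] A).toLinearMap
      (CoalgebraStruct.comul (R := k) ∘ₗ HopfAlgebraStruct.antipode k) (CoalgebraStruct.comul (R := k) a)) =
      HopfAlgebraStruct.antipode k a ⊗ₜ (1 : A) := by
  let iL : WithConv (A →ₐ[k] A ⊗[k] A) := toConv Algebra.TensorProduct.includeLeft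
  let iR : WithConv (A →ₐ[k] A ⊗[k] A) := toConv Algebra.TensorProduct.includeRight
  have hδ : iL * iR = toConv (Bialgebra.comulAlgHom k A) := by
    apply WithConv.ext
    refine AlgHom.ext fun x => ?_
    change (iL * iR) x = _
    rw [AlgHom.convMul_apply]
    simp only [iL, iR, ofConv_toConv, Bialgebra.comulAlgHom_apply]
    generalize CoalgebraStruct.comul (R := k) x = t
    induction t using TensorProduct.induction_on with
    | zero => simp
    | add p q hp hq => simp only [map_add, hp, hq]
    | tmul b c => simp [Algebra.TensorProduct.tmul_mul_tmul]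
  have h : iR * (iL * iR)⁻¹ = iL⁻¹ :=
    (congrArg (iR * ·) (mul_inv_rev iL iR)).trans (mul_inv_cancel_left iR _)
  rw [hδ] at h
  exact congr($(h).ofConv a)

theorem comul_antipode (a : A) :
    CoalgebraStruct.comul (R := k) (HopfAlgebraStruct.antipode k a) =
      TensorProduct.map (HopfAlgebraStruct.antipode k) (HopfAlgebraStruct.antipode k)
        (TensorProduct.comm k A A (CoalgebraStruct.comul (R := k) a)) := by
  let iL : WithConv (A →ₐ[k] A ⊗[k] A) := toConv Algebra.TensorProduct.includeLeft
  let iR : WithConv (A →ₐ[k] A ⊗[k] A) := toConv Algebra.TensorProduct.includeRight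
  have hδ : iL * iR = toConv (Bialgebra.comulAlgHom k A) := by
    apply WithConv.ext
    refine AlgHom.ext fun x => ?_
    change (iL * iR) x = _
    rw [AlgHom.convMul_apply]
    simp only [iL, iR, ofConv_toConv, Bialgebra.comulAlgHom_apply]
    generalize CoalgebraStruct.comul (R := k) x = t
    induction t using TensorProduct.induction_on with
    | zero => simp
    | add p q hp hq => simp only [map_add, hp, hq]
    | tmul b c => simp [Algebra.TensorProduct.tmul_mul_tmul]
  have h : (iL * iR)⁻¹ = iR⁻¹ * iL⁻¹ := mul_inv_rev iL iR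
  rw [hδ] at h
  refine (congr($(h).ofConv a)).trans ?_
  change (iR⁻¹ * iL⁻¹) a = _
  rw [AlgHom.convMul_apply]
  generalize CoalgebraStruct.comul (R := k) a = t
  induction t using TensorProduct.induction_on with
  | zero => simp
  | add p q hp hq => simp only [map_add, hp, hq]
  | tmul b c =>
    change (iR.ofConv (HopfAlgebraStruct.antipode k b)) * (iL.ofConv (HopfAlgebraStruct.antipode k c)) = _
    simp [iL, iR]

theorem sliceL_mul_antipode (a : A) :
    LinearMap.mul' k A ((HopfAlgebraStruct.antipode k).rTensor A (CoalgebraStruct.comul (R := k) a)) =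
      CoalgebraStruct.counit (R := k) a • (1 : A) :=
  (HopfAlgebra.mul_antipode_rTensor_comul_apply (R := k) a).trans (Algebra.algebraMap_eq_smul_one _)

end Antipode

section Avg

variable {k : Type u} [CommRing k] {A : Type v} [CommRing A] [HopfAlgebra k A]
  {V : Type w} [AddCommGroup V] [Module k V] [Comod k A V]
  {B : Type w'} [AddCommGroup B] [Module k B] {W : Type x} [AddCommGroup W] [Module k W]
  (α : A →ₗ[k] B) (mu : V ⊗[k] B →ₗ[k] W)

/-- `v ⊗ a ↦ Σ mu(v₀ ⊗ α(S(v₁) a))`. -/
noncomputable def avgMap : V ⊗[k] A →ₗ[k] W :=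
  mu ∘ₗ (α ∘ₗ LinearMap.mul' k A ∘ₗ (HopfAlgebraStruct.antipode k).rTensor A).lTensor V ∘ₗ
    (TensorProduct.assoc k V A A).toLinearMap ∘ₗ (Comod.coact (k := k) (A := A)).rTensor A

theorem avgMap_tmul (v : V) (a : A) : avgMap α mu (v ⊗ₜ a) =
    mu ((α ∘ₗ LinearMap.mulRight k a ∘ₗ HopfAlgebraStruct.antipode k).lTensor V (Comod.coact v)) := by
  simp only [avgMap, LinearMap.comp_apply, LinearMap.rTensor_tmul, LinearEquiv.coe_coe]
  generalize Comod.coact (k := k) (A := A) v = t
  induction t using TensorProduct.induction_on with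
  | zero => simp
  | add p q hp hq => simp only [TensorProduct.add_tmul, map_add, hp, hq]
  | tmul x c => simp

theorem avgMap_coact (v : V) : avgMap α mu (Comod.coact v) = mu (v ⊗ₜ α 1) := by
  simp only [avgMap, LinearMap.comp_apply, LinearEquiv.coe_coe]
  rw [coassoc_apply, ← LinearMap.lTensor_comp_apply]
  have h : (α ∘ₗ LinearMap.mul' k A ∘ₗ (HopfAlgebraStruct.antipode k).rTensor A) ∘ₗ
      CoalgebraStruct.comul (R := k) = (LinearMap.toSpanSingleton k B (α 1)) ∘ₗ CoalgebraStruct.counit := by
    ext a
    simp [sliceL_mul_antipode, Algebra.algebraMap_eq_smul_one]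
  rw [show Coalgebra.comul (R := k) (A := A) = CoalgebraStruct.comul (R := k) (A := A) from rfl, h,
    LinearMap.lTensor_comp, LinearMap.comp_apply, counit_coact]
  simp

/-- If `α` is colinear and `mu` is compatible with the coactions, `avgMap` is colinear from the
induced comodule. -/
theorem avgMap_colinear (ρB : B →ₗ[k] B ⊗[k] A) (ρW : W →ₗ[k] W ⊗[k] A)
    (hα : ∀ y, ρB (α y) = α.rTensor A (CoalgebraStruct.comul (R := k) y))
    (hμ : ∀ v b, ρW (mu (v ⊗ₜ b)) = (mu.rTensor A ∘ₗ (LinearMap.mul' k A).lTensor (V ⊗[k] B))
      (TensorProduct.tensorTensorTensorComm k V A B A (Comod.coact v ⊗ₜ ρB b))) (x : V ⊗[k] A) :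
    ρW (avgMap α mu x) = (avgMap α mu).rTensor A (Hoch.Ind.coactAux k A V x) := by
  induction x using TensorProduct.induction_on with
  | zero => simp
  | add p q hp hq => simp only [map_add, hp, hq]
  | tmul v a =>
  let Q : V ⊗[k] (A ⊗[k] A) →ₗ[k] W ⊗[k] A :=
    (mu ∘ₗ α.lTensor V).rTensor A ∘ₗ (TensorProduct.assoc k V A A).symm.toLinearMap
  let iR : A →ₗ[k] A ⊗[k] A := (Algebra.TensorProduct.includeRight : A →ₐ[k] A ⊗[k] A).toLinearMap
  let K : A ⊗[k] A →ₗ[k] A ⊗[k] A := LinearMap.mulRight k (CoalgebraStruct.comul (R := k) a) ∘ₗ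
    LinearMap.mul' k (A ⊗[k] A) ∘ₗ
      TensorProduct.map iR (CoalgebraStruct.comul (R := k) ∘ₗ HopfAlgebraStruct.antipode k)
  let J : A →ₗ[k] A ⊗[k] A := LinearMap.mulRight k (CoalgebraStruct.comul (R := k) a) ∘ₗ
    (TensorProduct.mk k A A).flip 1 ∘ₗ HopfAlgebraStruct.antipode k
  have hKJ : K ∘ₗ CoalgebraStruct.comul = J := by
    ext c
    simp only [K, J, iR, LinearMap.comp_apply, mul_map_includeRight_comul_antipode]
    simp
  have h1 : ∀ t : V ⊗[k] A,
      ρW (mu ((α ∘ₗ LinearMap.mulRight k a ∘ₗ HopfAlgebraStruct.antipode k).lTensor V t)) =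
        Q (K.lTensor V (TensorProduct.assoc k V A A ((Comod.coact (k := k) (A := A)).rTensor A t))) := by
    intro t
    induction t using TensorProduct.induction_on with
    | zero => simp
    | add p q hp hq => simp only [map_add, hp, hq]
    | tmul x c =>
      simp only [LinearMap.lTensor_tmul, LinearMap.rTensor_tmul, LinearMap.comp_apply, hμ, hα,
        LinearMap.mulRight_apply, Bialgebra.comul_mul]
      generalize Comod.coact (k := k) (A := A) x = s
      induction s using TensorProduct.induction_on with
      | zero => simp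
      | add p q hp hq => simp only [TensorProduct.add_tmul, map_add, hp, hq]
      | tmul x' b =>
        simp only [TensorProduct.assoc_tmul, LinearMap.lTensor_tmul, K, LinearMap.comp_apply,
          TensorProduct.map_tmul, LinearMap.mul'_apply, LinearMap.mulRight_apply, iR,
          AlgHom.toLinearMap_apply, Algebra.TensorProduct.includeRight_apply, mul_assoc]
        generalize CoalgebraStruct.comul (R := k) (HopfAlgebraStruct.antipode k c) *
          CoalgebraStruct.comul (R := k) a = Y
        induction Y using TensorProduct.induction_on with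
        | zero => simp
        | add p q hp hq => simp only [TensorProduct.tmul_add, map_add, mul_add, hp, hq]
        | tmul y z => simp [Q]
  rw [avgMap_tmul, h1, coassoc_apply, ← LinearMap.comp_apply (K.lTensor V), ← LinearMap.lTensor_comp,
    hKJ, Hoch.Ind.coactAux_tmul]
  simp only [show Coalgebra.comul (R := k) a = CoalgebraStruct.comul (R := k) a from rfl, J]
  generalize CoalgebraStruct.comul (R := k) a = Z
  induction Z using TensorProduct.induction_on with
  | zero => simp
  | add p q hp hq =>
    simp only [TensorProduct.tmul_add, map_add, ← hp, ← hq]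
    rw [show LinearMap.mulRight k (p + q) = LinearMap.mulRight k p + LinearMap.mulRight k q from
      LinearMap.ext fun y => mul_add y p q, LinearMap.add_comp, LinearMap.lTensor_add,
      LinearMap.add_apply, map_add]
  | tmul y z =>
    simp only [TensorProduct.assoc_symm_tmul, LinearMap.rTensor_tmul, avgMap_tmul]
    generalize Comod.coact (k := k) (A := A) v = t
    induction t using TensorProduct.induction_on with
    | zero => simp
    | add p q hp hq => simp only [TensorProduct.add_tmul, map_add, hp, hq]
    | tmul x' b => simp [Q]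

end Avg

section Scalar

variable {k : Type u} [CommRing k] {A : Type v} [CommRing A] [HopfAlgebra k A]
  {V : Type w} [AddCommGroup V] [Module k V] [Comod k A V]
  {W : Type x} [AddCommGroup W] [Module k W] [Comod k A W]

/-- A right invariant linear form: `Σ α(a₁) a₂ = α(a)`. -/
def IsIntegral (α : A →ₗ[k] k) : Prop :=
  ∀ a : A, sliceL α (CoalgebraStruct.comul (R := k) a) = α a • (1 : A)

theorem isComodHom_trivial_iff (α : A →ₗ[k] k) :
    @Hoch.IsComodHom k _ A _ _ _ A _ _ _ k _ _ (HopfRep.Comod.trivial k A k) α ↔ IsIntegral α := by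
  have key : ∀ t : A ⊗[k] A, TensorProduct.lid k A (α.rTensor A t) = sliceL α t := fun t => rfl
  constructor
  · intro h a
    rw [← key]
    have := congrArg (TensorProduct.lid k A) (LinearMap.congr_fun h a)
    refine this.symm.trans ?_
    change TensorProduct.lid k A (α a ⊗ₜ (1 : A)) = _
    simp
  · intro h
    refine LinearMap.ext fun a => (TensorProduct.lid k A).injective ?_
    refine Eq.trans ?_ ((key _).trans (h a)).symm
    change TensorProduct.lid k A (α a ⊗ₜ (1 : A)) = _
    simp

/-- `v ⊗ a ↦ Σ α(S(v₁) a) v₀`. -/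
noncomputable def avg (α : A →ₗ[k] k) : V ⊗[k] A →ₗ[k] V := avgMap α (TensorProduct.rid k V).toLinearMap

theorem avg_tmul (α : A →ₗ[k] k) (v : V) (a : A) :
    avg α (v ⊗ₜ a) = hit (α ∘ₗ LinearMap.mulRight k a ∘ₗ HopfAlgebraStruct.antipode k) v :=
  avgMap_tmul α _ v a

theorem avg_coact {α : A →ₗ[k] k} (h1 : α 1 = 1) (v : V) : avg α (Comod.coact v) = v := by
  simp [avg, avgMap_coact, h1]

theorem coact_avg {α : A →ₗ[k] k} (hα : IsIntegral α) (x : V ⊗[k] A) :
    Comod.coact (k := k) (A := A) (avg α x) = (avg α).rTensor A (Hoch.Ind.coactAux k A V x) := by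
  refine avgMap_colinear α _ ((TensorProduct.mk k k A).flip 1) _
    (fun y => LinearMap.congr_fun ((isComodHom_trivial_iff α).2 hα) y) (fun v c => ?_) x
  simp only [LinearEquiv.coe_coe, TensorProduct.rid_tmul, map_smul, LinearMap.flip_apply,
    TensorProduct.mk_apply]
  generalize Comod.coact (k := k) (A := A) v = t
  induction t using TensorProduct.induction_on with
  | zero => simp
  | add p q hp hq => simp only [TensorProduct.add_tmul, map_add, smul_add, hp, hq]
  | tmul x b => simp [TensorProduct.smul_tmul']

theorem coact_avg_tmul_one {α : A →ₗ[k] k} (hα : IsIntegral α) (v : V) :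
    Comod.coact (k := k) (A := A) (avg α (v ⊗ₜ 1)) = avg α (v ⊗ₜ 1) ⊗ₜ 1 := by
  rw [coact_avg hα, Hoch.Ind.coactAux_tmul, Bialgebra.comul_one]
  simp [Algebra.TensorProduct.one_def]

theorem avg_tmul_one (α : A →ₗ[k] k) (v : V) :
    avg α (v ⊗ₜ (1 : A)) = hit (α ∘ₗ HopfAlgebraStruct.antipode k) v := by
  rw [avg_tmul, show LinearMap.mulRight k (1 : A) = LinearMap.id from LinearMap.ext mul_one,
    LinearMap.id_comp]

theorem IsIntegral.comp_antipode {α : A →ₗ[k] k} (hα : IsIntegral α) (h1 : α 1 = 1) :
    α ∘ₗ HopfAlgebraStruct.antipode k = α := by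
  ext a
  let β := α ∘ₗ HopfAlgebraStruct.antipode k
  have hfix : CoalgebraStruct.comul (R := k) (hit β a) = hit β a ⊗ₜ (1 : A) := by
    rw [← avg_tmul_one]; exact coact_avg_tmul_one hα a
  have hscal : hit β a = β a • (1 : A) := by
    have h := Coalgebra.rTensor_counit_comul (R := k) (hit β a)
    rw [show Coalgebra.comul (R := k) (hit β a) = CoalgebraStruct.comul (R := k) (hit β a) from rfl,
      hfix, LinearMap.rTensor_tmul] at h
    have hε : CoalgebraStruct.counit (R := k) (hit β a) = β a := by
      rw [hit_apply]
      calc _ = β (sliceL (CoalgebraStruct.counit (R := k)) (Comod.coact (k := k) (A := A) a)) := by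
            generalize Comod.coact (k := k) (A := A) a = t
            induction t using TensorProduct.induction_on with
            | zero => simp
            | add p q hp hq => simp only [map_add, hp, hq]
            | tmul x y => simp [mul_comm]
        _ = β a := by
            congr 1
            have := Coalgebra.rTensor_counit_comul (R := k) a
            change TensorProduct.lid k A ((Coalgebra.counit (R := k) (A := A)).rTensor A
              (Coalgebra.comul (R := k) a)) = a
            rw [this]; simp
    have h2 := congrArg (TensorProduct.lid k A) h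
    simp only [TensorProduct.lid_tmul, one_smul] at h2
    rw [← h2, hε]
  have h2 : α (hit β a) = β (sliceL α (CoalgebraStruct.comul (R := k) a)) := by
    rw [hit_apply, show Comod.coact (k := k) (A := A) a = CoalgebraStruct.comul (R := k) a from rfl]
    generalize CoalgebraStruct.comul (R := k) a = t
    induction t using TensorProduct.induction_on with
    | zero => simp
    | add p q hp hq => simp only [map_add, hp, hq]
    | tmul x y => simp [mul_comm]
  rw [hα a, hscal, map_smul, map_smul, h1] at h2
  simpa [β, HopfAlgebra.antipode_one, h1] using h2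

/-- The averaging projection onto the fixed vectors. -/
noncomputable def reynolds (α : A →ₗ[k] k) : V →ₗ[k] V := hit α

theorem reynolds_mem_fixedPts {α : A →ₗ[k] k} (hα : IsIntegral α) (h1 : α 1 = 1) (v : V) :
    hit α v ∈ fixedPts k A V := by
  have := coact_avg_tmul_one hα v
  rwa [avg_tmul_one, hα.comp_antipode h1] at this

theorem hit_of_mem_fixedPts (g : A →ₗ[k] k) {v : V} (hv : v ∈ fixedPts k A V) : hit g v = g 1 • v := by
  rw [hit_apply, show Comod.coact (k := k) (A := A) v = v ⊗ₜ (1 : A) from hv, sliceR_tmul]

theorem hit_eq_self_of_mem_fixedPts {α : A →ₗ[k] k} (h1 : α 1 = 1) {v : V}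
    (hv : v ∈ fixedPts k A V) : hit α v = v := by
  rw [hit_of_mem_fixedPts α hv, h1, one_smul]

theorem isComodHom_hit_integral {α : A →ₗ[k] k} (hα : IsIntegral α) (h1 : α 1 = 1) :
    Hoch.IsComodHom A (hit (V := V) α) := by
  refine LinearMap.ext fun v => ?_
  simp only [LinearMap.comp_apply]
  rw [show Comod.coact (k := k) (A := A) (hit α v) = hit α v ⊗ₜ (1 : A) from
    reynolds_mem_fixedPts hα h1 v]
  have h : ∀ t : V ⊗[k] A, (hit α).rTensor A t =
      (sliceR α).rTensor A ((Comod.coact (k := k) (A := A)).rTensor A t) := fun t => by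
    rw [← LinearMap.comp_apply, ← LinearMap.rTensor_comp]; rfl
  rw [h, ← LinearEquiv.symm_apply_apply (TensorProduct.assoc k V A A)
    ((Comod.coact (k := k) (A := A)).rTensor A (Comod.coact v)), coassoc_apply]
  calc hit α v ⊗ₜ (1 : A) = ((LinearMap.toSpanSingleton k A 1) ∘ₗ α).lTensor V (Comod.coact v) := by
        rw [hit_apply]
        generalize Comod.coact (k := k) (A := A) v = t
        induction t using TensorProduct.induction_on with
        | zero => simp
        | add p q hp hq => simp only [TensorProduct.add_tmul, map_add, hp, hq]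
        | tmul x b => simp [TensorProduct.smul_tmul]
    _ = _ := by
        generalize Comod.coact (k := k) (A := A) v = t
        induction t using TensorProduct.induction_on with
        | zero => simp
        | add p q hp hq => simp only [map_add, hp, hq]
        | tmul x b =>
          simp only [LinearMap.lTensor_tmul, LinearMap.comp_apply, LinearMap.toSpanSingleton_apply,
            ← hα b]
          generalize CoalgebraStruct.comul (R := k) b = s
          induction s using TensorProduct.induction_on with
          | zero => simp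
          | add p q hp hq => simp only [TensorProduct.tmul_add, map_add, hp, hq]
          | tmul y z => simp [TensorProduct.smul_tmul]

end Scalar

section Field

variable {k : Type u} [Field k] {A : Type v} [CommRing A] [HopfAlgebra k A]
  {V : Type w} [AddCommGroup V] [Module k V] [c : Comod k A V]

/-- Maschke: a normalised invariant form makes every comodule semisimple. -/
theorem isSemisimpleComod_of_integral {α : A →ₗ[k] k} (hα : IsIntegral α) (h1 : α 1 = 1) :
    IsSemisimpleComod k A V := by
  intro W hW
  obtain ⟨P, hP, hP'⟩ := exists_projection W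
  let Q : V →ₗ[k] V := avg α ∘ₗ P.rTensor A ∘ₗ Comod.coact
  have hQh : Hoch.IsComodHom A Q := by
    refine LinearMap.ext fun v => ?_
    simp only [Q, LinearMap.comp_apply, coact_avg hα, LinearMap.rTensor_comp]
    congr 1
    have nat : ∀ t : V ⊗[k] A, Hoch.Ind.coactAux k A V (P.rTensor A t) =
        (P.rTensor A).rTensor A (Hoch.Ind.coactAux k A V t) := by
      intro t
      induction t using TensorProduct.induction_on with
      | zero => simp
      | add p q hp hq => simp only [map_add, hp, hq]
      | tmul x b =>
        simp only [LinearMap.rTensor_tmul, Hoch.Ind.coactAux_tmul]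
        generalize Coalgebra.comul (R := k) b = s
        induction s using TensorProduct.induction_on with
        | zero => simp
        | add p q hp hq => simp only [TensorProduct.tmul_add, map_add, hp, hq]
        | tmul y z => simp
    rw [nat]
    congr 1
    exact (TensorProduct.assoc k V A A).symm_apply_eq.2 (coassoc_apply v).symm
  have hmem : ∀ v, Q v ∈ W := by
    intro v
    simp only [Q, LinearMap.comp_apply]
    generalize Comod.coact (k := k) (A := A) v = t
    induction t using TensorProduct.induction_on with
    | zero => simp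
    | add p q hp hq => rw [map_add, map_add]; exact add_mem hp hq
    | tmul x b =>
      rw [LinearMap.rTensor_tmul, avg_tmul]
      exact IsSubcomod.hit_mem hW _ (hP x)
  have hid : ∀ w ∈ W, Q w = w := by
    intro w hw
    simp only [Q, LinearMap.comp_apply]
    have : P.rTensor A (Comod.coact (k := k) (A := A) w) = Comod.coact w := by
      obtain ⟨s, hs⟩ := hW w hw
      rw [← hs, ← LinearMap.comp_apply, ← LinearMap.rTensor_comp,
        show P ∘ₗ W.subtype = W.subtype from LinearMap.ext fun x => hP' x x.2]
    rw [this, avg_coact h1]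
  refine ⟨LinearMap.ker Q, isSubcomod_ker hQh, ⟨?_, ?_⟩⟩
  · rw [Submodule.disjoint_def]
    exact fun x hx hk => by rw [← hid x hx]; exact LinearMap.mem_ker.1 hk
  · rw [codisjoint_iff, Submodule.eq_top_iff']
    intro x
    refine Submodule.mem_sup.2 ⟨Q x, hmem x, x - Q x, ?_, add_sub_cancel _ _⟩
    simp [hid _ (hmem x)]

theorem exists_integral_of_isSemisimpleComod (h : IsSemisimpleComod k A A) (hA : (1 : A) ≠ 0) :
    ∃ α : A →ₗ[k] k, IsIntegral α ∧ α 1 = 1 := by
  have hone : IsSubcomod (k := k) (A := A) (Submodule.span k {(1 : A)}) := isSubcomod_iff_hit.2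
    fun g v hv => by
      obtain ⟨r, rfl⟩ := Submodule.mem_span_singleton.1 hv
      rw [map_smul, hit_apply, show Comod.coact (k := k) (A := A) (1 : A) = (1 : A ⊗[k] A) from
        Bialgebra.comul_one, Algebra.TensorProduct.one_def, sliceR_tmul]
      exact Submodule.smul_mem _ _ (Submodule.smul_mem _ _ (Submodule.subset_span rfl))
  obtain ⟨U, hU, hc⟩ := h _ hone
  let e := LinearEquiv.toSpanNonzeroSingleton k A (1 : A) hA
  let α : A →ₗ[k] k := e.symm.toLinearMap ∘ₗ (Submodule.span k {(1 : A)}).projectionOnto U hc
  have h1 : α 1 = 1 := by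
    simp only [α, LinearMap.comp_apply, LinearEquiv.coe_coe]
    rw [Submodule.projectionOnto_apply_left hc ⟨1, Submodule.subset_span rfl⟩, LinearEquiv.symm_apply_eq]
    exact Subtype.ext (by simp [e])
  have hker : ∀ u ∈ U, α u = 0 := fun u hu => by
    simp [α, Submodule.projectionOnto_apply_eq_zero_iff hc |>.2 hu]
  refine ⟨α, fun a => ?_, h1⟩
  obtain ⟨x, hx, u, hu, rfl⟩ := Submodule.mem_sup.1 (hc.2.eq_top.ge (Submodule.mem_top (x := a)))
  obtain ⟨r, rfl⟩ := Submodule.mem_span_singleton.1 hx
  have h2 : sliceL α (CoalgebraStruct.comul (R := k) u) = 0 := by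
    obtain ⟨s, hs⟩ := hU u hu
    rw [show CoalgebraStruct.comul (R := k) u = Comod.coact (k := k) (A := A) u from rfl, ← hs]
    clear hs
    induction s using TensorProduct.induction_on with
    | zero => simp
    | add p q hp hq => simp only [map_add, hp, hq, add_zero]
    | tmul y z => simp [hker _ y.2]
  have h3 : sliceL α (CoalgebraStruct.comul (R := k) (1 : A)) = 1 := by
    simp [Bialgebra.comul_one, Algebra.TensorProduct.one_def, h1]
  rw [map_add, map_add, map_add, map_smul, map_smul, map_smul, h2, h3, hker u hu, h1]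
  simp

theorem isLinearlyReductive_of_integral {α : A →ₗ[k] k} (hα : IsIntegral α) (h1 : α 1 = 1) :
    IsLinearlyReductive k A := fun V _ _ _ _ => isSemisimpleComod_of_integral hα h1

theorem exists_integral (hG : IsLinearlyReductive k A) : ∃ α : A →ₗ[k] k, IsIntegral α ∧ α 1 = 1 := by
  have hA : (1 : A) ≠ 0 := fun h0 => by
    simpa [h0] using (Bialgebra.counit_one (R := k) (A := A)).symm
  exact exists_integral_of_isSemisimpleComod
    (isSemisimpleComod_of_forall_finite fun S hS hfin => @hG S _ _ (ComodSub.Comod.restr _ S hS) hfin) hA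

theorem isSemisimpleComod_of_isLinearlyReductive (hG : IsLinearlyReductive k A) :
    IsSemisimpleComod k A V := by
  obtain ⟨α, hα, h1⟩ := exists_integral hG
  exact isSemisimpleComod_of_integral hα h1

/-- Any equivariant projection onto the fixed vectors is averaging against the integral. -/
theorem eq_hit_integral {α : A →ₗ[k] k} (hα : IsIntegral α) (h1 : α 1 = 1) {E : V →ₗ[k] V}
    (hE : Hoch.IsComodHom A E) (hE2 : E ∘ₗ E = E) (hfix : ∀ x, E x = x ↔ x ∈ fixedPts k A V) :
    E = hit α := by
  ext v
  have hEv : E v ∈ fixedPts k A V := (hfix _).1 (LinearMap.congr_fun hE2 v)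
  rw [← hit_eq_self_of_mem_fixedPts h1 hEv, ← IsComodHom.hit_apply hE]
  exact (hfix _).2 (reynolds_mem_fixedPts hα h1 v)

theorem sliceR_rTensor_eq_of_trivial {π : V →ₗ[k] k}
    (hπ : π.rTensor A ∘ₗ Comod.coact (k := k) (A := A) = (TensorProduct.mk k k A).flip (1 : A) ∘ₗ π)
    (g : A →ₗ[k] k) (v : V) : π (hit g v) = g 1 * π v := by
  rw [hit_apply, ← sliceR_rTensor, ← LinearMap.comp_apply (π.rTensor A), hπ]
  simp

end Field

end Groth.Agent.HopfLib
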