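import Groth.Agent.HopfLib.Cartier
import Mathlib.AlgebraicGeometry.Morphisms.Smooth
import Mathlib.CategoryTheory.Monoidal.Cartesian.Over
import Mathlib.CategoryTheory.Monoidal.Cartesian.Grp
import Mathlib.FieldTheory.IsAlgClosed.AlgebraicClosure

/-!
# Cartier's theorem for group schemes locally of finite type over a field of characteristic zero

Points with values in dual numbers give, by the group law, derivations of every local ring with
prescribed value at the closed point.
-/

universe u

open CategoryTheory CategoryTheory.Limits AlgebraicGeometry MonoidalCategory CartesianMonoidalCategory MonObj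
open TensorProduct IsLocalRing

namespace Groth.Agent.HopfLib

set_option linter.unusedSectionVars false
set_option maxHeartbeats 1600000

/-- A derivation on a localisation from a ring map into dual numbers. -/
theorem exists_derivation_of_dualNumber {B : Type u} [CommRing B] (S : Submonoid B) (L : Type u) [CommRing L]
    [Algebra B L] [IsLocalization S L] (f : B →+* DualNumber L) (hf : ∀ a, (f a).fst = algebraMap B L a) :
    ∃ D : Derivation ℤ L L, ∀ a, D (algebraMap B L a) = (f a).snd := by
  have hu : ∀ s : S, IsUnit (f s) := fun s =>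
    TrivSqZeroExt.isUnit_iff_isUnit_fst.2 (by rw [hf]; exact IsLocalization.map_units L s)
  let F : L →+* DualNumber L := IsLocalization.lift hu
  have hF : ∀ l, (F l).fst = l := by
    have : (TrivSqZeroExt.fstHom L L L).toRingHom.comp F = RingHom.id L := by
      refine IsLocalization.ringHom_ext S (RingHom.ext fun a => ?_)
      simp [F, IsLocalization.lift_eq, hf]
    exact fun l => RingHom.congr_fun this l
  refine ⟨Derivation.mk' (AddMonoidHom.mk' (fun l => (F l).snd) fun a c => by simp).toIntLinearMap
    (fun a c => ?_), fun a => ?_⟩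
  · show (F (a * c)).snd = a • (F c).snd + c • (F a).snd
    rw [map_mul, DualNumber.snd_mul, hF, hF]
    simp [smul_eq_mul, mul_comm]
  · show (F (algebraMap B L a)).snd = _
    simp [F, IsLocalization.lift_eq]

/-- Regularity at a rational point from lifts of tangent vectors to derivations. -/
theorem isRegularLocalRing_of_tangent_lifts {k : Type u} [Field k] [CharZero k] {B : Type u} [CommRing B]
    [Algebra k B] [IsNoetherianRing B] (g : B →ₐ[k] k) (m : Ideal B) [m.IsPrime] (hm : m = RingHom.ker g)
    (ρ : Localization.AtPrime m →ₐ[k] k) (hρ : ∀ b, ρ (algebraMap B _ b) = g b)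
    (H : ∀ q : B →ₐ[k] DualNumber k, (∀ b, (q b).fst = g b) →
      ∃ Φ : B →ₐ[k] DualNumber (Localization.AtPrime m),
        (∀ b, (Φ b).fst = algebraMap B _ b) ∧ ∀ b, ρ (Φ b).snd = (q b).snd) :
    IsRegularLocalRing (Localization.AtPrime m) := by
  classical
  let L := Localization.AtPrime m
  have hgm : ∀ a, a ∈ m ↔ g a = 0 := fun a => by rw [hm, RingHom.mem_ker]
  have hsm' : ∀ (a : B) (z : m), Submodule.Quotient.mk (p := m • (⊤ : Submodule B m)) (a • z) =
      g a • Submodule.Quotient.mk (p := m • (⊤ : Submodule B m)) z := by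
    intro a z
    rw [← Submodule.Quotient.mk_smul, ← algebraMap_smul B (g a) z, Submodule.Quotient.eq, ← sub_smul]
    refine Submodule.smul_mem_smul ?_ Submodule.mem_top
    simp [hgm]
  have hsm : ∀ (a : B) (z : m), m.toCotangent (a • z) = g a • m.toCotangent z := hsm'
  have hfin : Module.Finite k m.Cotangent := by
    obtain ⟨s, hs⟩ := Module.Finite.fg_top (R := B) (M := m)
    refine Module.Finite.of_surjective (Finsupp.linearCombination k fun y : s => m.toCotangent y) ?_
    intro q
    obtain ⟨z, rfl⟩ := Ideal.toCotangent_surjective m q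
    have hz : z ∈ Submodule.span B (s : Set m) := hs ▸ Submodule.mem_top
    obtain ⟨c, -, rfl⟩ := Submodule.mem_span_finset.1 hz
    refine ⟨Finsupp.equivFunOnFinite.symm fun y : s => g (c y), ?_⟩
    rw [Finsupp.linearCombination_apply, Finsupp.sum_fintype _ _ (by simp), map_sum]
    simp only [Finsupp.coe_equivFunOnFinite_symm]
    refine (Finset.sum_attach s (fun y => g (c y) • m.toCotangent y)).trans ?_
    exact Finset.sum_congr rfl fun y _ => (hsm (c y) y).symm
  let b := Module.finBasis k m.Cotangent
  choose X hX using fun i => Ideal.toCotangent_surjective m (b i)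
  let p : B →ₗ[k] m :=
    { toFun := fun a => ⟨a - algebraMap k B (g a), by simp [hgm]⟩
      map_add' := fun a c => Subtype.ext (by simp; ring)
      map_smul' := fun r a => Subtype.ext (by simp [Algebra.smul_def, mul_sub, map_mul]) }
  let dl : Fin (Module.finrank k m.Cotangent) → B →ₗ[k] k := fun i =>
    b.coord i ∘ₗ (m.toCotangent.restrictScalars k) ∘ₗ p
  have hdl : ∀ i a c, dl i (a * c) = g a * dl i c + g c * dl i a := by
    intro i a c
    have e : p (a * c) = a • p c + algebraMap k B (g c) • p a := by
      refine Subtype.ext ?_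
      simp [p, Algebra.smul_def, map_mul]
      ring
    simp only [dl, LinearMap.comp_apply, e, LinearMap.coe_restrictScalars, map_add, hsm, AlgHom.commutes]
    simp
  let qv : Fin (Module.finrank k m.Cotangent) → (B →ₐ[k] DualNumber k) := fun i =>
    AlgHom.ofLinearMap
      ((TrivSqZeroExt.inlAlgHom k k k).toLinearMap ∘ₗ g.toLinearMap +
        (TrivSqZeroExt.inrHom k k).restrictScalars k ∘ₗ dl i)
      (TrivSqZeroExt.ext (by simp) (by
        have := hdl i 1 1
        simp at this
        simpa using this))
      (fun a c => TrivSqZeroExt.ext (by simp) (by simp [hdl]; ring))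
  choose Φ hΦ1 hΦ2 using fun i => H (qv i) (fun a => by simp [qv])
  choose D0 hD0 using fun i => exists_derivation_of_dualNumber m.primeCompl (Localization.AtPrime m) (Φ i).toRingHom (hΦ1 i)
  have hρker : ∀ l : L, ρ l = 0 → l ∈ maximalIdeal L := fun l hl => by
    rw [IsLocalRing.mem_maximalIdeal, mem_nonunits_iff]
    intro hu
    exact not_isUnit_zero (hl ▸ hu.map ρ)
  refine isRegularLocalRing_of_derivations (fun i => algebraMap B L (X i : B)) ?_ D0 (fun i j => ?_) ?_
  · have hle : Ideal.span (Set.range fun i => algebraMap B L (X i : B)) ≤ maximalIdeal L := by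
      rw [Ideal.span_le]
      rintro - ⟨i, rfl⟩
      rw [← Localization.AtPrime.map_eq_maximalIdeal]
      exact Ideal.mem_map_of_mem _ (X i).2
    refine le_antisymm hle ?_
    refine Submodule.le_of_le_smul_of_le_jacobson_bot (IsNoetherian.noetherian _)
      (IsLocalRing.jacobson_eq_maximalIdeal ⊥ bot_ne_top).ge ?_
    conv_lhs => rw [← Localization.AtPrime.map_eq_maximalIdeal]
    rw [Ideal.map_le_iff_le_comap]
    intro a ha
    rw [Ideal.mem_comap]
    have h := b.sum_repr (m.toCotangent ⟨a, ha⟩)
    simp only [← hX, ← LinearMap.map_smul_of_tower, ← map_sum] at h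
    rw [eq_comm, Ideal.toCotangent_eq] at h
    rw [← sub_add_cancel a ((∑ i, b.repr (m.toCotangent ⟨a, ha⟩) i • X i : m) : B), map_add, add_comm]
    refine Submodule.add_mem_sup ?_ ?_
    · rw [Submodule.coe_sum, map_sum]
      refine sum_mem fun i _ => ?_
      rw [Submodule.coe_smul_of_tower, Algebra.smul_def, map_mul]
      exact Ideal.mul_mem_left _ _ (Ideal.subset_span ⟨i, rfl⟩)
    · have h2 := Ideal.mem_map_of_mem (algebraMap B L) h
      rwa [Ideal.map_pow, Localization.AtPrime.map_eq_maximalIdeal, sq] at h2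
  · refine hρker _ ?_
    rw [map_sub, hD0]
    show ρ (Φ i (X j : B)).snd - _ = 0
    rw [hΦ2]
    have : dl i (X j : B) = if j = i then 1 else 0 := by
      simp only [dl, LinearMap.comp_apply]
      rw [show p (X j : B) = X j from Subtype.ext (by simp [p, (hgm _).1 (X j).2])]
      simp [hX, Finsupp.single_apply]
    have e : (qv i (X j : B)).snd = dl i (X j : B) := by simp [qv]
    rw [e, this]
    by_cases h : i = j
    · subst h; simp
    · rw [if_neg h, if_neg (Ne.symm h)]; simp
  · intro d hd
    rw [← map_natCast (algebraMap k L)]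
    exact (IsUnit.mk0 _ (Nat.cast_ne_zero.2 hd.ne')).map _

section Scheme

/-- The map of dual numbers induced by an algebra map. -/
def dnMap {K R S : Type u} [CommRing K] [CommRing R] [Algebra K R] [CommRing S] [Algebra K S] (f : R →ₐ[K] S) :
    DualNumber R →ₐ[K] DualNumber S where
  toFun x := (f x.fst, f x.snd)
  map_one' := TrivSqZeroExt.ext (map_one f) (map_zero f)
  map_zero' := TrivSqZeroExt.ext (map_zero f) (map_zero f)
  map_add' x y := TrivSqZeroExt.ext (map_add f x.fst y.fst) (map_add f x.snd y.snd)
  map_mul' x y := TrivSqZeroExt.ext (map_mul f x.fst y.fst) (by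
    show f (x * y).snd = f x.fst * f y.snd + f x.snd * f y.fst
    rw [DualNumber.snd_mul, map_add, map_mul, map_mul])
  commutes' r := TrivSqZeroExt.ext (f.commutes r) (map_zero f)

@[simp] theorem dnMap_fst {K R S : Type u} [CommRing K] [CommRing R] [Algebra K R] [CommRing S] [Algebra K S]
    (f : R →ₐ[K] S) (x : DualNumber R) : (dnMap f x).fst = f x.fst := rfl

@[simp] theorem dnMap_snd {K R S : Type u} [CommRing K] [CommRing R] [Algebra K R] [CommRing S] [Algebra K S]
    (f : R →ₐ[K] S) (x : DualNumber R) : (dnMap f x).snd = f x.snd := rfl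

/-- The reduction of dual numbers. -/
def dnFst (K R : Type u) [CommRing K] [CommRing R] [Algebra K R] : DualNumber R →ₐ[K] R where
  toFun x := x.fst
  map_one' := rfl
  map_zero' := rfl
  map_add' _ _ := rfl
  map_mul' _ _ := rfl
  commutes' _ := rfl

@[simp] theorem dnFst_apply (K R : Type u) [CommRing K] [CommRing R] [Algebra K R] (x : DualNumber R) :
    dnFst K R x = x.fst := rfl


variable {K : Type u} [Field K]

/-- The `K`-scheme `Spec R`. -/
noncomputable abbrev specK (R : Type u) [CommRing R] [Algebra K R] : Over (Spec (CommRingCat.of K)) :=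
  Over.mk (Spec.map (CommRingCat.ofHom (algebraMap K R)))

/-- Functoriality of `specK`. -/
noncomputable abbrev specKMap {R S : Type u} [CommRing R] [Algebra K R] [CommRing S] [Algebra K S] (f : R →ₐ[K] S) :
    specK (K := K) S ⟶ specK (K := K) R :=
  Over.homMk (Spec.map (CommRingCat.ofHom f.toRingHom)) (by
    show Spec.map _ ≫ Spec.map _ = Spec.map _
    rw [← Spec.map_comp, ← CommRingCat.ofHom_comp]
    congr 2
    exact RingHom.ext fun r => f.commutes r)

theorem specKMap_comp {R S T : Type u} [CommRing R] [Algebra K R] [CommRing S] [Algebra K S] [CommRing T]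
    [Algebra K T] (f : R →ₐ[K] S) (g : S →ₐ[K] T) : specKMap (g.comp f) = specKMap g ≫ specKMap f := by
  refine Over.OverMorphism.ext ?_
  show Spec.map _ = Spec.map _ ≫ Spec.map _
  rw [← Spec.map_comp, ← CommRingCat.ofHom_comp]
  rfl

theorem specKMap_injective {R S : Type u} [CommRing R] [Algebra K R] [CommRing S] [Algebra K S] {f g : R →ₐ[K] S}
    (h : specKMap f = specKMap g) : f = g := by
  have h1 : Spec.map (CommRingCat.ofHom f.toRingHom) = Spec.map (CommRingCat.ofHom g.toRingHom) :=
    congrArg CommaMorphism.left h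
  have h2 := congrArg CommRingCat.Hom.hom (Spec.map_injective h1)
  exact AlgHom.ext fun r => RingHom.congr_fun h2 r

variable (G : Over (Spec (CommRingCat.of K))) [GrpObj G]

/-- A chart of a group scheme in characteristic zero is smooth. -/
theorem smooth_chart [CharZero K] {B : Type u} [CommRing B] [Algebra K B] [Algebra.FiniteType K B]
    (j : specK (K := K) B ⟶ G) [IsOpenImmersion j.left] : Algebra.Smooth K B := by
  let k := AlgebraicClosure K
  have : CharZero k := charZero_of_injective_algebraMap (algebraMap K k).injective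
  let Bk := k ⊗[K] B
  have : Algebra.FiniteType k Bk := Algebra.FiniteType.baseChange (A := B) k
  have : IsNoetherianRing Bk := Algebra.FiniteType.isNoetherianRing k Bk
  have : IsNoetherianRing B := Algebra.FiniteType.isNoetherianRing K B
  refine ⟨AlgSpLib.SmoothField.formallySmooth_of_baseChange K k B ?_,
    Algebra.FinitePresentation.of_finiteType.1 inferInstance⟩
  have : Algebra.FinitePresentation k Bk := Algebra.FinitePresentation.of_finiteType.1 inferInstance
  rw [← Algebra.smoothLocus_eq_univ_iff, Set.eq_univ_iff_forall]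
  intro P
  obtain ⟨m, hmax, hle⟩ := P.asIdeal.exists_le_maximal P.isPrime.ne_top
  suffices hreg : IsRegularLocalRing (Localization.AtPrime m) by
    have h : (⟨m, hmax.isPrime⟩ : PrimeSpectrum Bk) ∈ Algebra.smoothLocus k Bk :=
      (AlgSpLib.SmoothField.isSmoothAt_iff_regular k Bk m).2 hreg
    exact ((PrimeSpectrum.le_iff_specializes P ⟨m, hmax.isPrime⟩).1 hle).mem_open Algebra.isOpen_smoothLocus h
  obtain ⟨g, hg⟩ := exists_algHom_le_ker (k := k) hmax.ne_top
  have hmg : m = RingHom.ker g := hmax.eq_of_le (RingHom.ker_ne_top _) hg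
  let L := Localization.AtPrime m
  let ρ : L →ₐ[k] k := IsLocalization.liftAlgHom (M := m.primeCompl) (f := g)
    (fun s => IsUnit.mk0 _ fun h => s.2 (hmg.ge h))
  have hρ : ∀ a, ρ (algebraMap Bk L a) = g a := fun a => IsLocalization.lift_eq _ a
  refine isRegularLocalRing_of_tangent_lifts g m hmg ρ hρ fun q hq => ?_
  let inB : B →ₐ[K] Bk := Algebra.TensorProduct.includeRight
  let LE := DualNumber L
  let kL : DualNumber k →ₐ[K] LE := dnMap (IsScalarTower.toAlgHom K k L)
  let ρE : LE →ₐ[K] DualNumber k := dnMap (ρ.restrictScalars K)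
  let fstL : LE →ₐ[K] L := dnFst K L
  let P0 : B →ₐ[K] L := (IsScalarTower.toAlgHom K Bk L).comp inB
  let P1 : B →ₐ[K] LE := (TrivSqZeroExt.inlAlgHom K L L).comp P0
  let G1 : B →ₐ[K] LE := (TrivSqZeroExt.inlAlgHom K L L).comp
    ((IsScalarTower.toAlgHom K k L).comp ((g.restrictScalars K).comp inB))
  let Q0 : B →ₐ[K] DualNumber k := (q.restrictScalars K).comp inB
  let pt : (B →ₐ[K] LE) → (specK (K := K) LE ⟶ G) := fun f => specKMap f ≫ j
  let mu : specK (K := K) LE ⟶ G := pt P1 * ((pt G1)⁻¹ * pt (kL.comp Q0))
  have hfst : ∀ f : B →ₐ[K] LE, specKMap fstL ≫ pt f = specKMap (fstL.comp f) ≫ j := fun f => by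
    simp only [pt]; rw [← Category.assoc, ← specKMap_comp]
  have hρE : ∀ f : B →ₐ[K] LE, specKMap ρE ≫ pt f = specKMap (ρE.comp f) ≫ j := fun f => by
    simp only [pt]; rw [← Category.assoc, ← specKMap_comp]
  have e1 : fstL.comp P1 = P0 := AlgHom.ext fun a => rfl
  have e2 : fstL.comp G1 = fstL.comp (kL.comp Q0) := AlgHom.ext fun a => by
    show algebraMap k L (g (inB a)) = algebraMap k L (q (inB a)).fst
    rw [hq]
  have e3 : ρE.comp P1 = ρE.comp G1 := AlgHom.ext fun a => TrivSqZeroExt.ext (by
    show ρ (algebraMap Bk L (inB a)) = ρ (algebraMap k L (g (inB a)))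
    rw [hρ, ρ.commutes]
    rfl) rfl
  have e4 : ρE.comp (kL.comp Q0) = Q0 := AlgHom.ext fun a => TrivSqZeroExt.ext (ρ.commutes _) (ρ.commutes _)
  have hmu0 : specKMap fstL ≫ mu = specKMap P0 ≫ j := by
    simp only [mu, MonObj.comp_mul, GrpObj.comp_inv, hfst, e1, e2, inv_mul_cancel, _root_.mul_one]
  have hmuρ : specKMap ρE ≫ mu = specKMap Q0 ≫ j := by
    simp only [mu, MonObj.comp_mul, GrpObj.comp_inv, hρE, e3, e4, mul_inv_cancel_left]
  -- the product lands in the chart
  have hrange : Set.range mu.left ⊆ Set.range j.left := by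
    rintro _ ⟨y, rfl⟩
    obtain ⟨z, rfl⟩ : ∃ z, (specKMap fstL).left z = y := by
      have hker : RingHom.ker fstL.toRingHom ≤ nilradical LE := fun a ha => by
        rw [mem_nilradical]
        refine ⟨2, ?_⟩
        have ha' : a.fst = 0 := ha
        rw [sq]
        refine TrivSqZeroExt.ext ?_ ?_
        · show a.fst * a.fst = 0
          rw [ha', MulZeroClass.mul_zero]
        · show (a * a).snd = (0 : L)
          refine (DualNumber.snd_mul (R := L) a a).trans ?_
          rw [ha', MulZeroClass.mul_zero, MulZeroClass.zero_mul, add_zero]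
      have hsurj : Function.Surjective fstL.toRingHom := fun l => ⟨TrivSqZeroExt.inl l, rfl⟩
      haveI : y.asIdeal.IsPrime := PrimeSpectrum.isPrime y
      refine ⟨⟨y.asIdeal.map fstL.toRingHom, Ideal.map_isPrime_of_surjective hsurj
        (hker.trans (nilradical_le_prime _))⟩, PrimeSpectrum.ext ?_⟩
      show (y.asIdeal.map fstL.toRingHom).comap fstL.toRingHom = y.asIdeal
      rw [Ideal.comap_map_of_surjective _ hsurj, ← RingHom.ker_eq_comap_bot]
      exact sup_eq_left.2 (hker.trans (nilradical_le_prime _))
    rw [← Scheme.Hom.comp_apply]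
    rw [show (specKMap fstL).left ≫ mu.left = (specKMap P0 ≫ j).left from congrArg CommaMorphism.left hmu0]
    exact ⟨_, (Scheme.Hom.comp_apply _ _ _).symm⟩
  let l := IsOpenImmersion.lift j.left mu.left hrange
  have hl : l ≫ j.left = mu.left := IsOpenImmersion.lift_fac _ _ _
  let φ0 : B →+* LE := (Spec.preimage l).hom
  have hφ0 : Spec.map (CommRingCat.ofHom φ0) = l := Spec.map_preimage l
  let φ : B →ₐ[K] LE :=
    { φ0 with
      commutes' := fun r => by
        have h : l ≫ Spec.map (CommRingCat.ofHom (algebraMap K B)) = Spec.map (CommRingCat.ofHom (algebraMap K LE)) := by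
          have hj : j.left ≫ G.hom = Spec.map (CommRingCat.ofHom (algebraMap K B)) := Over.w j
          rw [← hj, ← Category.assoc, hl]
          exact Over.w mu
        rw [← hφ0, ← Spec.map_comp, ← CommRingCat.ofHom_comp] at h
        exact RingHom.congr_fun (congrArg CommRingCat.Hom.hom (Spec.map_injective h)) r }
  have hφ : specKMap φ ≫ j = mu := Over.OverMorphism.ext (by
    show Spec.map (CommRingCat.ofHom φ0) ≫ j.left = _
    rw [hφ0, hl])
  have : Mono j := Over.mono_of_mono_left j
  have hf1 : fstL.comp φ = P0 := specKMap_injective (by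
    rw [← cancel_mono j, specKMap_comp, Category.assoc, hφ, hmu0])
  have hf2 : ρE.comp φ = Q0 := specKMap_injective (by
    rw [← cancel_mono j, specKMap_comp, Category.assoc, hφ, hmuρ])
  let Φ : Bk →ₐ[k] LE := Algebra.TensorProduct.lift (Algebra.ofId k LE) φ (fun _ _ => Commute.all _ _)
  refine ⟨Φ, fun a => ?_, fun a => ?_⟩
  · have : (TrivSqZeroExt.fstHom k L L).comp Φ = IsScalarTower.toAlgHom k Bk L := by
      refine Algebra.TensorProduct.ext (Subsingleton.elim _ _) (AlgHom.ext fun c => ?_)
      show (Φ ((1 : k) ⊗ₜ[K] c)).fst = algebraMap Bk L ((1 : k) ⊗ₜ[K] c)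
      rw [show Φ ((1 : k) ⊗ₜ[K] c) = φ c from (Algebra.TensorProduct.lift_tmul _ _ _ _ _).trans (by rw [map_one]; exact _root_.one_mul _)]
      exact AlgHom.congr_fun hf1 c
    exact AlgHom.congr_fun this a
  · have key : ∀ c : B, ρ (Φ ((1 : k) ⊗ₜ c)).snd = (q ((1 : k) ⊗ₜ c)).snd := fun c => by
      rw [show Φ ((1 : k) ⊗ₜ[K] c) = φ c from (Algebra.TensorProduct.lift_tmul _ _ _ _ _).trans (by rw [map_one]; exact _root_.one_mul _)]
      exact congrArg TrivSqZeroExt.snd (AlgHom.congr_fun hf2 c)
    induction a using TensorProduct.induction_on with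
    | zero => simp
    | add x y hx hy => simp only [map_add, TrivSqZeroExt.snd_add, hx, hy]
    | tmul r c =>
      rw [show r ⊗ₜ[K] c = r • ((1 : k) ⊗ₜ[K] c) from by rw [TensorProduct.smul_tmul', smul_eq_mul, _root_.mul_one],
        map_smul, map_smul, TrivSqZeroExt.snd_smul, TrivSqZeroExt.snd_smul, map_smul, key]

theorem smooth_chart_comp [CharZero K] [LocallyOfFiniteType G.hom] {R : CommRingCat.{u}} (f : Spec R ⟶ G.left)
    [IsOpenImmersion f] : Smooth (f ≫ G.hom) := by
  obtain ⟨φ, hφ⟩ := Spec.map_surjective (f ≫ G.hom)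
  have hft : LocallyOfFiniteType (Spec.map φ) :=
    hφ.symm ▸ @AlgebraicGeometry.locallyOfFiniteType_comp _ _ _ f G.hom inferInstance inferInstance
  rw [HasRingHomProperty.Spec_iff (P := @LocallyOfFiniteType)] at hft
  refine (show Smooth (Spec.map φ) → Smooth (f ≫ G.hom) from fun h => hφ ▸ h) ?_
  rw [HasRingHomProperty.Spec_iff (P := @Smooth)]
  letI : Algebra K R := RingHom.toAlgebra (show K →+* R from φ.hom)
  have : Algebra.FiniteType K R := hft
  let j : specK (K := K) (R : Type u) ⟶ G := Over.homMk f (hφ.symm.trans rfl)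
  have : IsOpenImmersion j.left := ‹IsOpenImmersion f›
  exact RingHom.smooth_algebraMap.2 (smooth_chart G j)

/-- Cartier: group schemes locally of finite type over a field of characteristic zero are smooth. -/
theorem smooth_of_grpObj [CharZero K] [LocallyOfFiniteType G.hom] : Smooth G.hom := by
  have : IsZariskiLocalAtSource (@AlgebraicGeometry.Smooth.{u}) :=
    HasRingHomProperty.instIsZariskiLocalAtSource (P := @Smooth.{u}) (Q := RingHom.Smooth)
  exact IsZariskiLocalAtSource.of_openCover (P := @Smooth.{u}) G.left.affineCover fun i => @smooth_chart_comp _ _ G _ _ _ _ (G.left.affineCover.f i) (G.left.affineCover.map_prop i)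

end Scheme

end Groth.Agent.HopfLib
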