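import Mathlib.RingTheory.HopfAlgebra.Basic
import Mathlib.RingTheory.HopfAlgebra.Convolution
import Mathlib.RingTheory.Ideal.Cotangent
import Mathlib.RingTheory.Kaehler.Basic
import Mathlib.RingTheory.Bialgebra.Hom
import Mathlib.LinearAlgebra.TensorProduct.Tower

/-!
# Derivations and differentials of commutative Hopf algebras
-/

universe u v w

open TensorProduct

namespace Groth.Agent.HopfLib.Kaehler

variable {R : Type u} {A : Type v} [CommRing R] [CommRing A] [HopfAlgebra R A]
  {M : Type w} [AddCommGroup M] [Module R M] [Module A M] [IsScalarTower R A M]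

/-- `a ⊗ m ↦ a • m` -/
noncomputable def act : A ⊗[R] M →ₗ[R] M :=
  ((LinearMap.id (R := R) (M := M)).liftBaseChange A).restrictScalars R

@[simp] theorem act_tmul (a : A) (m : M) : act (a ⊗ₜ[R] m) = a • m := by simp [act]

/-- `a ↦ Σ f(a₁) • L(a₂)` -/
noncomputable def conv (f : A →ₗ[R] A) (L : A →ₗ[R] M) : A →ₗ[R] M :=
  act ∘ₗ TensorProduct.map f L ∘ₗ CoalgebraStruct.comul

theorem conv_apply (f : A →ₗ[R] A) (L : A →ₗ[R] M) (a : A) :
    conv f L a = act (TensorProduct.map f L (CoalgebraStruct.comul (R := R) a)) := rfl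

/-- product in the convolution algebra -/
noncomputable def cmul (f g : A →ₗ[R] A) : A →ₗ[R] A :=
  LinearMap.mul' R A ∘ₗ TensorProduct.map f g ∘ₗ CoalgebraStruct.comul

theorem conv_conv (f g : A →ₗ[R] A) (L : A →ₗ[R] M) : conv f (conv g L) = conv (cmul f g) L := by
  refine LinearMap.ext fun a => ?_
  have h1 : ∀ z : A ⊗[R] A, act (TensorProduct.map f (conv g L) z) =
      act (TensorProduct.map f (act ∘ₗ TensorProduct.map g L)
        ((CoalgebraStruct.comul (R := R) (A := A)).lTensor A z)) := by
    intro z
    induction z using TensorProduct.induction_on with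
    | zero => simp
    | add p q hp hq => simp only [map_add, hp, hq]
    | tmul p q => simp [conv_apply]
  have h2 : ∀ z : A ⊗[R] A, act (TensorProduct.map (cmul f g) L z) =
      act (TensorProduct.map f (act ∘ₗ TensorProduct.map g L)
        (TensorProduct.assoc R A A A ((CoalgebraStruct.comul (R := R) (A := A)).rTensor A z))) := by
    intro z
    induction z using TensorProduct.induction_on with
    | zero => simp
    | add p q hp hq => simp only [map_add, hp, hq]
    | tmul p q =>
      simp only [TensorProduct.map_tmul, LinearMap.rTensor_tmul, cmul, LinearMap.comp_apply, act_tmul]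
      generalize CoalgebraStruct.comul (R := R) p = t
      induction t using TensorProduct.induction_on with
      | zero => simp
      | add u v hu hv => simp only [map_add, add_tmul, add_smul, hu, hv]
      | tmul u v => simp [mul_smul]
  rw [conv_apply, conv_apply, h1, h2, Coalgebra.coassoc_apply]

theorem conv_unit (L : A →ₗ[R] M) : conv (Algebra.linearMap R A ∘ₗ CoalgebraStruct.counit) L = L := by
  refine LinearMap.ext fun a => ?_
  have h : ∀ z : A ⊗[R] A, act (TensorProduct.map (Algebra.linearMap R A ∘ₗ CoalgebraStruct.counit) L z) =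
      L (TensorProduct.lid R A ((CoalgebraStruct.counit (R := R) (A := A)).rTensor A z)) := by
    intro z
    induction z using TensorProduct.induction_on with
    | zero => simp
    | add p q hp hq => simp only [map_add, hp, hq]
    | tmul p q => simp
  rw [conv_apply, h, Coalgebra.rTensor_counit_comul]
  simp

theorem cmul_antipode_left :
    cmul (HopfAlgebraStruct.antipode R (A := A)) LinearMap.id = Algebra.linearMap R A ∘ₗ CoalgebraStruct.counit :=
  HopfAlgebra.mul_antipode_rTensor_comul

theorem cmul_antipode_right :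
    cmul LinearMap.id (HopfAlgebraStruct.antipode R (A := A)) = Algebra.linearMap R A ∘ₗ CoalgebraStruct.counit :=
  HopfAlgebra.mul_antipode_lTensor_comul

theorem cmul_unit_right (f : A →ₗ[R] A) : cmul f (Algebra.linearMap R A ∘ₗ CoalgebraStruct.counit) = f := by
  refine LinearMap.ext fun a => ?_
  have h : ∀ z : A ⊗[R] A, LinearMap.mul' R A (TensorProduct.map f (Algebra.linearMap R A ∘ₗ CoalgebraStruct.counit) z) =
      f (TensorProduct.rid R A ((CoalgebraStruct.counit (R := R) (A := A)).lTensor A z)) := by
    intro z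
    induction z using TensorProduct.induction_on with
    | zero => simp
    | add p q hp hq => simp only [map_add, hp, hq]
    | tmul p q => simp [← Algebra.commutes, ← Algebra.smul_def]
  rw [cmul, LinearMap.comp_apply, LinearMap.comp_apply, h, Coalgebra.lTensor_counit_comul]
  simp

/-- Leibniz rule for convolutions -/
theorem conv_mul (f χ : A →ₐ[R] A) (L : A →ₗ[R] M) (hL : ∀ b c, L (b * c) = χ b • L c + χ c • L b) (a b : A) :
    conv f.toLinearMap L (a * b) =
      cmul f.toLinearMap χ.toLinearMap a • conv f.toLinearMap L b +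
        cmul f.toLinearMap χ.toLinearMap b • conv f.toLinearMap L a := by
  simp only [conv_apply, cmul, LinearMap.comp_apply, Bialgebra.comul_mul]
  generalize CoalgebraStruct.comul (R := R) a = s
  generalize CoalgebraStruct.comul (R := R) b = t
  induction s using TensorProduct.induction_on with
  | zero => simp
  | add p q hp hq =>
    simp only [add_mul, map_add, add_smul, smul_add, hp, hq]
    abel
  | tmul p q =>
    induction t using TensorProduct.induction_on with
    | zero => simp
    | add u v hu hv =>
      simp only [mul_add, map_add, add_smul, smul_add, hu, hv]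
      abel
    | tmul u v =>
      simp [hL, smul_add, smul_smul, mul_comm, mul_assoc, mul_left_comm]

theorem counit_derivation_iff (π : A →ₗ[R] (RingHom.ker (Bialgebra.counitAlgHom R A)).Cotangent)
    (hπI : ∀ x : (RingHom.ker (Bialgebra.counitAlgHom R A)),
      π (x : A) = (RingHom.ker (Bialgebra.counitAlgHom R A)).toCotangent x) (hπ1 : π 1 = 0) (a b : A) :
    π (a * b) = Bialgebra.counitAlgHom R A a • π b + Bialgebra.counitAlgHom R A b • π a := by
  have hmem : ∀ a, a - algebraMap R A (Bialgebra.counitAlgHom R A a) ∈ RingHom.ker (Bialgebra.counitAlgHom R A) := fun a => by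
    rw [RingHom.mem_ker, map_sub, AlgHom.commutes]; simp
  have hsub : ∀ a, π a = π (a - algebraMap R A (Bialgebra.counitAlgHom R A a)) := fun a => by
    rw [map_sub, Algebra.algebraMap_eq_smul_one, map_smul, hπ1, smul_zero, sub_zero]
  rw [hsub (a * b), hsub a, hsub b, hπI ⟨_, hmem _⟩, hπI ⟨_, hmem a⟩, hπI ⟨_, hmem b⟩,
    ← LinearMap.map_smul_of_tower, ← LinearMap.map_smul_of_tower, ← map_add, Ideal.toCotangent_eq, sq]
  show a * b - algebraMap R A (Bialgebra.counitAlgHom R A (a * b)) -
    (Bialgebra.counitAlgHom R A a • (b - algebraMap R A (Bialgebra.counitAlgHom R A b)) +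
      Bialgebra.counitAlgHom R A b • (a - algebraMap R A (Bialgebra.counitAlgHom R A a))) ∈ RingHom.ker (Bialgebra.counitAlgHom R A) * RingHom.ker (Bialgebra.counitAlgHom R A)
  convert Ideal.mul_mem_mul (hmem a) (hmem b) using 1
  rw [map_mul, map_mul, Algebra.smul_def, Algebra.smul_def]
  ring

variable (π : A →ₗ[R] (RingHom.ker (Bialgebra.counitAlgHom R A)).Cotangent)
  (hπI : ∀ x : (RingHom.ker (Bialgebra.counitAlgHom R A)),
    π (x : A) = (RingHom.ker (Bialgebra.counitAlgHom R A)).toCotangent x) (hπ1 : π 1 = 0)

include hπI hπ1 in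
/-- The convolution `id * (l ∘ π)` is a derivation. -/
theorem conv_leibniz (l : (RingHom.ker (Bialgebra.counitAlgHom R A)).Cotangent →ₗ[R] M) (a b : A) :
    conv LinearMap.id (l ∘ₗ π) (a * b) =
      a • conv LinearMap.id (l ∘ₗ π) b + b • conv LinearMap.id (l ∘ₗ π) a := by
  have h := conv_mul (AlgHom.id R A) ((Algebra.ofId R A).comp (Bialgebra.counitAlgHom R A)) (l ∘ₗ π) (fun b c => by
    simp [counit_derivation_iff π hπI hπ1 b c, algebraMap_smul]) a b
  have e : cmul (AlgHom.id R A).toLinearMap ((Algebra.ofId R A).comp (Bialgebra.counitAlgHom R A)).toLinearMap =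
      LinearMap.id := cmul_unit_right LinearMap.id
  rw [e] at h
  exact h

include hπI hπ1 in
/-- Every derivation is `id * (l ∘ π)` for exactly one `l`. -/
theorem exists_unique_l (D : Derivation R A M) :
    ∃! l : (RingHom.ker (Bialgebra.counitAlgHom R A)).Cotangent →ₗ[R] M,
      conv LinearMap.id (l ∘ₗ π) = D.toLinearMap := by
  let q := conv (HopfAlgebra.antipodeAlgHom R A).toLinearMap D.toLinearMap
  have hq : ∀ a b, q (a * b) = algebraMap R A (CoalgebraStruct.counit (R := R) a) • q b +
      algebraMap R A (CoalgebraStruct.counit (R := R) b) • q a := fun a b => by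
    have h := conv_mul (HopfAlgebra.antipodeAlgHom R A) (AlgHom.id R A) D.toLinearMap (fun b c => D.leibniz b c) a b
    have e : cmul (HopfAlgebra.antipodeAlgHom R A).toLinearMap (AlgHom.id R A).toLinearMap =
        Algebra.linearMap R A ∘ₗ CoalgebraStruct.counit := cmul_antipode_left
    rw [e] at h
    exact h
  let I := RingHom.ker (Bialgebra.counitAlgHom R A)
  have hq2 : ∀ x : A, x ∈ I ^ 2 → q x = 0 := fun x hx => by
    rw [sq] at hx
    induction hx using Submodule.mul_induction_on' with
    | mem_mul_mem u hu v hv =>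
      rw [hq, show CoalgebraStruct.counit (R := R) u = 0 from hu, show CoalgebraStruct.counit (R := R) v = 0 from hv]
      simp
    | add u _ v _ hu hv => rw [map_add, hu, hv, add_zero]
  let l : I.Cotangent →ₗ[R] M := Submodule.liftQ ((I • ⊤ : Submodule A I).restrictScalars R)
    (q ∘ₗ (I.subtype.restrictScalars R)) (fun x hx => by
      refine hq2 _ ?_
      exact (I.toCotangent_eq_zero x).1 ((Submodule.Quotient.mk_eq_zero _).2 hx))
    |>.comp (Submodule.Quotient.restrictScalarsEquiv R (I • ⊤ : Submodule A I)).symm.toLinearMap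
  have hl : l ∘ₗ π = q := by
    refine LinearMap.ext fun a => ?_
    have hmem : a - algebraMap R A (CoalgebraStruct.counit (R := R) a) ∈ I := by
      rw [RingHom.mem_ker, map_sub, AlgHom.commutes]; simp
    have hq1 : q 1 = 0 := by
      simp [q, conv_apply, Algebra.TensorProduct.one_def]
    rw [LinearMap.comp_apply, show π a = π (a - algebraMap R A (CoalgebraStruct.counit (R := R) a)) by
      rw [map_sub, Algebra.algebraMap_eq_smul_one, map_smul, hπ1, smul_zero, sub_zero], hπI ⟨_, hmem⟩]
    show q (a - algebraMap R A (CoalgebraStruct.counit (R := R) a)) = q a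
    rw [map_sub, Algebra.algebraMap_eq_smul_one, map_smul, hq1, smul_zero, sub_zero]
  refine ⟨l, ?_, fun l' hl' => ?_⟩
  · show conv LinearMap.id (l ∘ₗ π) = D.toLinearMap
    rw [hl, conv_conv]
    exact (congrArg (conv · D.toLinearMap) cmul_antipode_right).trans (conv_unit _)
  · have h1 : ∀ L : A →ₗ[R] M, conv (HopfAlgebraStruct.antipode R (A := A)) (conv LinearMap.id L) = L := fun L => by
      rw [conv_conv, cmul_antipode_left, conv_unit]
    have h2 : l' ∘ₗ π = l ∘ₗ π := by
      rw [← h1 (l' ∘ₗ π), hl', hl]
      rfl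
    refine LinearMap.ext fun x => ?_
    obtain ⟨y, rfl⟩ := I.toCotangent_surjective x
    rw [← hπI]
    exact LinearMap.congr_fun h2 (y : A)

include hπI hπ1 in
/-- `A ⊗ I/I²` is the module of differentials. -/
theorem exists_unique_f (D : Derivation R A M) :
    ∃! f : A ⊗[R] (RingHom.ker (Bialgebra.counitAlgHom R A)).Cotangent →ₗ[A] M,
      ∀ a : A, f (((π.lTensor A) ∘ₗ (CoalgebraStruct.comul (R := R) (A := A))) a) = D a := by
  obtain ⟨l, hl, huniq⟩ := exists_unique_l π hπI hπ1 D
  have key : ∀ (f : A ⊗[R] (RingHom.ker (Bialgebra.counitAlgHom R A)).Cotangent →ₗ[A] M) a,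
      f ((π.lTensor A) (CoalgebraStruct.comul (R := R) a)) =
        conv LinearMap.id ((LinearMap.liftBaseChangeEquiv A).symm f ∘ₗ π) a := by
    intro f a
    rw [conv_apply]
    generalize CoalgebraStruct.comul (R := R) a = t
    induction t using TensorProduct.induction_on with
    | zero => simp
    | add p q hp hq => simp only [map_add, hp, hq]
    | tmul p q => simp [← map_smul, TensorProduct.smul_tmul']
  refine ⟨LinearMap.liftBaseChangeEquiv A l, fun a => ?_, fun f hf => ?_⟩
  · show LinearMap.liftBaseChangeEquiv A l ((π.lTensor A) (CoalgebraStruct.comul (R := R) a)) = D a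
    rw [key, LinearEquiv.symm_apply_apply]
    exact LinearMap.congr_fun hl a
  · apply (LinearMap.liftBaseChangeEquiv A).symm.injective
    rw [LinearEquiv.symm_apply_apply]
    refine huniq _ (LinearMap.ext fun a => ?_)
    rw [← key]
    exact hf a

omit π in
/-- The projection to `I/I²`. -/
theorem exists_proj : ∃ π : A →ₗ[R] (RingHom.ker (Bialgebra.counitAlgHom R A)).Cotangent,
    (∀ x : (RingHom.ker (Bialgebra.counitAlgHom R A)),
      π (x : A) = (RingHom.ker (Bialgebra.counitAlgHom R A)).toCotangent x) ∧ π 1 = 0 := by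
  set I := RingHom.ker (Bialgebra.counitAlgHom R A)
  refine ⟨(I.toCotangent.restrictScalars R) ∘ₗ LinearMap.codRestrict (I.restrictScalars R)
    (LinearMap.id - Algebra.linearMap R A ∘ₗ (Bialgebra.counitAlgHom R A).toLinearMap) (fun a => by
      rw [Submodule.restrictScalars_mem, RingHom.mem_ker]; simp), fun x => ?_, ?_⟩
  · refine congrArg I.toCotangent (Subtype.ext ?_)
    show (x : A) - algebraMap R A (Bialgebra.counitAlgHom R A x) = x
    rw [show Bialgebra.counitAlgHom R A (x : A) = 0 from x.2, map_zero, sub_zero]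
  · refine (congrArg I.toCotangent (Subtype.ext ?_)).trans (map_zero _)
    show (1 : A) - algebraMap R A (Bialgebra.counitAlgHom R A 1) = 0
    rw [map_one, map_one, sub_self]

/-- `Ω_{A/R} ≅ A ⊗ I/I²`. -/
theorem exists_kaehler_equiv :
    Nonempty (Ω[A⁄R] ≃ₗ[A] A ⊗[R] (RingHom.ker (Bialgebra.counitAlgHom R A)).Cotangent) := by
  obtain ⟨π, hπI, hπ1⟩ := exists_proj (R := R) (A := A)
  let d : Derivation R A (A ⊗[R] (RingHom.ker (Bialgebra.counitAlgHom R A)).Cotangent) :=
    Derivation.mk' ((π.lTensor A) ∘ₗ CoalgebraStruct.comul) fun a b => by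
      have h := conv_leibniz π hπI hπ1
        ((TensorProduct.mk R A (RingHom.ker (Bialgebra.counitAlgHom R A)).Cotangent) 1) a b
      have e : conv LinearMap.id (((TensorProduct.mk R A
          (RingHom.ker (Bialgebra.counitAlgHom R A)).Cotangent) 1) ∘ₗ π) =
          (π.lTensor A) ∘ₗ CoalgebraStruct.comul := by
        refine LinearMap.ext fun a => ?_
        rw [conv_apply, LinearMap.comp_apply]
        generalize CoalgebraStruct.comul (R := R) a = t
        induction t using TensorProduct.induction_on with
        | zero => simp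
        | add p q hp hq => simp only [map_add, hp, hq]
        | tmul p q => simp [TensorProduct.smul_tmul']
      rw [e] at h
      exact h
  obtain ⟨f, hf, -⟩ := exists_unique_f π hπI hπ1 (KaehlerDifferential.D R A)
  obtain ⟨g, -, hg⟩ := exists_unique_f π hπI hπ1 d
  refine ⟨LinearEquiv.ofLinear d.liftKaehlerDifferential f ?_ ?_⟩
  · rw [hg LinearMap.id (fun a => rfl)]
    refine hg _ fun a => ?_
    rw [LinearMap.comp_apply, hf, Derivation.liftKaehlerDifferential_comp_D]
  · apply Derivation.liftKaehlerDifferential_unique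
    refine Derivation.ext fun a => ?_
    show f (d.liftKaehlerDifferential (KaehlerDifferential.D R A a)) = KaehlerDifferential.D R A a
    rw [Derivation.liftKaehlerDifferential_comp_D]
    exact hf a

end Groth.Agent.HopfLib.Kaehler
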