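import Groth.Prelude.Def_SGA3
import Groth.Agent.HopfLib.FaithfullyFlat
import Groth.Agent.HopfLib.FgSubHopf
import Mathlib.RingTheory.HopfAlgebra.Basic
import Mathlib.RingTheory.Bialgebra.Hom
import Mathlib.RingTheory.FiniteType

/-!
# Hopf structures on Hopf subalgebras; faithful flatness over arbitrary Hopf subalgebras
-/

noncomputable section

open TensorProduct

namespace Groth.Agent.HopfLib

universe u v

variable {k : Type u} [Field k] {A : Type v} [CommRing A] [HopfAlgebra k A]
  {B : Subalgebra k A} (hB : IsSubHopf k A B)

lemma map_val_injective : Function.Injective (Algebra.TensorProduct.map B.val B.val) := by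
  have h : Function.Injective (TensorProduct.map B.val.toLinearMap B.val.toLinearMap) := by
    rw [← LinearMap.lTensor_comp_rTensor, LinearMap.coe_comp]
    exact (Module.Flat.lTensor_preserves_injective_linearMap _ Subtype.val_injective).comp
      (Module.Flat.rTensor_preserves_injective_linearMap _ Subtype.val_injective)
  exact h

/-- the comultiplication of a Hopf subalgebra -/
def subComul : B →ₐ[k] B ⊗[k] B :=
  (AlgEquiv.ofInjective _ (map_val_injective (B := B))).symm.toAlgHom.comp
    (((Bialgebra.comulAlgHom k A).comp B.val).codRestrict _ fun b => by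
      obtain ⟨t, ht⟩ := hB.1 b.1 b.2
      exact ⟨t, ht⟩)

lemma map_subComul (b : B) :
    Algebra.TensorProduct.map B.val B.val (subComul hB b) = CoalgebraStruct.comul (R := k) (b : A) :=
  congrArg Subtype.val ((AlgEquiv.ofInjective _ (map_val_injective (B := B))).apply_symm_apply _)

/-- the bialgebra structure on a Hopf subalgebra -/
abbrev subBialgebra : Bialgebra k B :=
  Bialgebra.ofAlgHom (subComul hB) ((Bialgebra.counitAlgHom k A).comp B.val)
    (by
      refine AlgHom.ext fun b => ?_
      have hinj : Function.Injective
          (Algebra.TensorProduct.map B.val (Algebra.TensorProduct.map B.val B.val)) := by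
        have h : Function.Injective (TensorProduct.map B.val.toLinearMap
            (Algebra.TensorProduct.map B.val B.val).toLinearMap) := by
          rw [← LinearMap.lTensor_comp_rTensor, LinearMap.coe_comp]
          exact (Module.Flat.lTensor_preserves_injective_linearMap _ (map_val_injective (B := B))).comp
            (Module.Flat.rTensor_preserves_injective_linearMap _ Subtype.val_injective)
        exact h
      apply hinj
      simp only [AlgHom.comp_apply]
      have h1 : ∀ z : B ⊗[k] B,
          Algebra.TensorProduct.map B.val (Algebra.TensorProduct.map B.val B.val)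
            ((Algebra.TensorProduct.assoc k k k B B B).toAlgHom
              (Algebra.TensorProduct.map (subComul hB) (AlgHom.id k B) z)) =
          TensorProduct.assoc k A A A ((CoalgebraStruct.comul (R := k) (A := A)).rTensor A
            (Algebra.TensorProduct.map B.val B.val z)) := by
        intro z
        induction z using TensorProduct.induction_on with
        | zero => simp
        | add p q hp hq => simp only [map_add, hp, hq]
        | tmul p q =>
          simp only [Algebra.TensorProduct.map_tmul, AlgHom.id_apply, LinearMap.rTensor_tmul]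
          rw [show B.val p = (p : A) from rfl, ← map_subComul hB p]
          generalize subComul hB p = t
          induction t using TensorProduct.induction_on with
          | zero => simp
          | add u v hu hv => simp only [map_add, add_tmul, hu, hv]
          | tmul u v => simp
      have h2 : ∀ z : B ⊗[k] B,
          Algebra.TensorProduct.map B.val (Algebra.TensorProduct.map B.val B.val)
            (Algebra.TensorProduct.map (AlgHom.id k B) (subComul hB) z) =
          (CoalgebraStruct.comul (R := k) (A := A)).lTensor A (Algebra.TensorProduct.map B.val B.val z) := by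
        intro z
        induction z using TensorProduct.induction_on with
        | zero => simp
        | add p q hp hq => simp only [map_add, hp, hq]
        | tmul p q => simp [map_subComul hB q]
      rw [h1, h2, map_subComul hB b, Coalgebra.coassoc_apply])
    (by
      refine AlgHom.ext fun b => ?_
      have hinj : Function.Injective (Algebra.TensorProduct.map (AlgHom.id k k) B.val) :=
        Module.Flat.lTensor_preserves_injective_linearMap B.val.toLinearMap Subtype.val_injective
      apply hinj
      simp only [AlgHom.comp_apply]
      have h1 : ∀ z : B ⊗[k] B, Algebra.TensorProduct.map (AlgHom.id k k) B.val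
          (Algebra.TensorProduct.map ((Bialgebra.counitAlgHom k A).comp B.val) (AlgHom.id k B) z) =
          (CoalgebraStruct.counit (R := k) (A := A)).rTensor A (Algebra.TensorProduct.map B.val B.val z) := by
        intro z
        induction z using TensorProduct.induction_on with
        | zero => simp
        | add p q hp hq => simp only [map_add, hp, hq]
        | tmul p q => simp
      rw [h1, map_subComul hB b, Coalgebra.rTensor_counit_comul]
      simp)
    (by
      refine AlgHom.ext fun b => ?_
      have hinj : Function.Injective (Algebra.TensorProduct.map B.val (AlgHom.id k k)) :=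
        Module.Flat.rTensor_preserves_injective_linearMap B.val.toLinearMap Subtype.val_injective
      apply hinj
      simp only [AlgHom.comp_apply]
      have h1 : ∀ z : B ⊗[k] B, Algebra.TensorProduct.map B.val (AlgHom.id k k)
          (Algebra.TensorProduct.map (AlgHom.id k B) ((Bialgebra.counitAlgHom k A).comp B.val) z) =
          (CoalgebraStruct.counit (R := k) (A := A)).lTensor A (Algebra.TensorProduct.map B.val B.val z) := by
        intro z
        induction z using TensorProduct.induction_on with
        | zero => simp
        | add p q hp hq => simp only [map_add, hp, hq]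
        | tmul p q => simp
      rw [h1, map_subComul hB b, Coalgebra.lTensor_counit_comul]
      simp)

/-- the Hopf structure on a Hopf subalgebra -/
abbrev subHopf : HopfAlgebra k B :=
  letI := subBialgebra hB
  HopfAlgebra.ofAlgHom
    (((HopfAlgebra.antipodeAlgHom k A).comp B.val).codRestrict B fun b => hB.2 b.1 b.2)
    (by
      refine AlgHom.ext fun b => Subtype.ext ?_
      show ((Algebra.TensorProduct.lift (((HopfAlgebra.antipodeAlgHom k A).comp B.val).codRestrict B
            fun b => hB.2 b.1 b.2) (AlgHom.id k B) (fun _ _ => Commute.all _ _) (subComul hB b) : B) : A) =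
        ((algebraMap k B (CoalgebraStruct.counit (R := k) (b : A)) : B) : A)
      have h1 : ∀ z : B ⊗[k] B,
          ((Algebra.TensorProduct.lift (((HopfAlgebra.antipodeAlgHom k A).comp B.val).codRestrict B
            fun b => hB.2 b.1 b.2) (AlgHom.id k B) (fun _ _ => Commute.all _ _) z : B) : A) =
          LinearMap.mul' k A ((HopfAlgebraStruct.antipode k (A := A)).rTensor A
            (Algebra.TensorProduct.map B.val B.val z)) := by
        intro z
        induction z using TensorProduct.induction_on with
        | zero => simp
        | add p q hp hq => simp only [map_add, Subalgebra.coe_add, hp, hq]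
        | tmul p q =>
          simp
          try rfl
      rw [h1, map_subComul hB b, HopfAlgebra.mul_antipode_rTensor_comul_apply]
      rfl)
    (by
      refine AlgHom.ext fun b => Subtype.ext ?_
      show ((Algebra.TensorProduct.lift (AlgHom.id k B) (((HopfAlgebra.antipodeAlgHom k A).comp B.val).codRestrict B
            fun b => hB.2 b.1 b.2) (fun _ _ => Commute.all _ _) (subComul hB b) : B) : A) =
        ((algebraMap k B (CoalgebraStruct.counit (R := k) (b : A)) : B) : A)
      have h1 : ∀ z : B ⊗[k] B,
          ((Algebra.TensorProduct.lift (AlgHom.id k B) (((HopfAlgebra.antipodeAlgHom k A).comp B.val).codRestrict B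
            fun b => hB.2 b.1 b.2) (fun _ _ => Commute.all _ _) z : B) : A) =
          LinearMap.mul' k A ((HopfAlgebraStruct.antipode k (A := A)).lTensor A
            (Algebra.TensorProduct.map B.val B.val z)) := by
        intro z
        induction z using TensorProduct.induction_on with
        | zero => simp
        | add p q hp hq => simp only [map_add, Subalgebra.coe_add, hp, hq]
        | tmul p q =>
          simp
          try rfl
      rw [h1, map_subComul hB b, HopfAlgebra.mul_antipode_lTensor_comul_apply]
      rfl)

lemma isBialgMap_val :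
    letI := subHopf hB
    FF.IsBialgMap k B A := by
  letI := subHopf hB
  exact ⟨fun b => (map_subComul hB b).symm, fun b => rfl⟩

/-- A finite set in a Hopf algebra lies in a finitely generated Hopf subalgebra inside any Hopf
subalgebra containing it. -/
theorem exists_fg_hopfSubalgebra_le (hB : IsSubHopf k A B) (s : Finset A) (hs : (s : Set A) ⊆ B) :
    ∃ B' : Subalgebra k A, B' ≤ B ∧ (s : Set A) ⊆ B' ∧ B'.FG ∧ IsSubHopf k A B' := by
  classical
  letI := subHopf hB
  obtain ⟨B₀, hB₀, hfg, hH⟩ := exists_fg_isSubHopf (k := k) (A := B) (Subtype.val ⁻¹' (s : Set A))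
    (s.finite_toSet.preimage Subtype.val_injective.injOn)
  refine ⟨B₀.map B.val, ?_, fun x hx => ⟨⟨x, hs hx⟩, hB₀ (show (⟨x, hs hx⟩ : B).1 ∈ (s : Set A) from hx), rfl⟩,
    Subalgebra.FG.map _ hfg, ?_, ?_⟩
  · rintro _ ⟨b, -, rfl⟩; exact b.2
  · rintro _ ⟨b, hb, rfl⟩
    obtain ⟨t, ht⟩ := hH.1 b hb
    refine ⟨TensorProduct.map
      ((B.val.comp B₀.val).codRestrict (B₀.map B.val)
        fun y => Subalgebra.mem_map.2 ⟨y.1, y.2, rfl⟩).toLinearMap
      ((B.val.comp B₀.val).codRestrict (B₀.map B.val)
        fun y => Subalgebra.mem_map.2 ⟨y.1, y.2, rfl⟩).toLinearMap t, ?_⟩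
    show _ = CoalgebraStruct.comul (R := k) (b : A)
    rw [← map_subComul hB b, show subComul hB b = _ from ht.symm]
    clear ht
    induction t using TensorProduct.induction_on with
    | zero => simp
    | add u v hu hv => simp only [map_add, hu, hv]
    | tmul u v => rfl
  · rintro _ ⟨b, hb, rfl⟩
    exact ⟨_, hH.2 b hb, rfl⟩

/-- A commutative Hopf algebra over a field is faithfully flat over every Hopf subalgebra. -/
theorem faithfullyFlat_isSubHopf {B : Subalgebra k A} (hB : IsSubHopf k A B) :
    Module.FaithfullyFlat B A := by
  classical
  have key : ∀ s : Finset A, (s : Set A) ⊆ B → ∃ B' : Subalgebra k A, B' ≤ B ∧ (s : Set A) ⊆ B' ∧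
      Module.FaithfullyFlat B' A := by
    intro s hs
    obtain ⟨B', hle, hs', hfg, hB'⟩ := exists_fg_hopfSubalgebra_le hB s hs
    refine ⟨B', hle, hs', ?_⟩
    letI := subHopf hB'
    haveI : Algebra.FiniteType k B' := (Subalgebra.fg_iff_finiteType B').1 hfg
    haveI : IsNoetherianRing B' := Algebra.FiniteType.isNoetherianRing k B'
    exact FF.faithfullyFlat_of_isBialgMap (isBialgMap_val hB') Subtype.val_injective
  haveI : Module.Flat B A := by
    refine Module.Flat.of_forall_isTrivialRelation fun {l f x} hrel => ?_
    obtain ⟨B', hle, hs, hff⟩ := key (Finset.univ.image fun i => (f i : A))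
      (by intro y hy; obtain ⟨i, -, rfl⟩ := Finset.mem_image.1 hy; exact (f i).2)
    have hmem : ∀ i, (f i : A) ∈ B' := fun i => hs (Finset.mem_image.2 ⟨i, Finset.mem_univ i, rfl⟩)
    obtain ⟨N, c, y, hy, hc⟩ := Module.Flat.isTrivialRelation_of_sum_smul_eq_zero (R := B') (M := A)
      (f := fun i => ⟨f i, hmem i⟩) (x := x) hrel
    exact ⟨N, fun i j => ⟨c i j, hle (c i j).2⟩, y, hy,
      fun j => Subtype.ext (by simpa using congrArg Subtype.val (hc j))⟩
  refine ⟨fun m hm htop => ?_⟩
  have h1 : (1 : A) ∈ m • (⊤ : Submodule B A) := by rw [htop]; trivial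
  obtain ⟨T, hTm, hT⟩ : ∃ T : Finset B, (∀ t ∈ T, t ∈ m) ∧ (1 : A) ∈ Ideal.span (Subtype.val '' (T : Set B)) := by
    refine Submodule.smul_induction_on h1 (fun b hb a _ => ⟨{b}, by simpa using hb, ?_⟩)
      fun u v ⟨T, hT, hu⟩ ⟨T', hT', hv⟩ => ⟨T ∪ T', fun t ht => (Finset.mem_union.1 ht).elim (hT t) (hT' t), ?_⟩
    · rw [Subalgebra.smul_def, smul_eq_mul]
      exact Ideal.mul_mem_right _ _ (Ideal.subset_span ⟨b, by simp, rfl⟩)
    · exact add_mem (Ideal.span_mono (Set.image_mono (by simp)) hu) (Ideal.span_mono (Set.image_mono (by simp)) hv)
  obtain ⟨B', hle, hs, hff⟩ := key (T.image Subtype.val)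
    (by intro y hy; obtain ⟨b, -, rfl⟩ := Finset.mem_image.1 hy; exact b.2)
  let m' : Ideal B' := m.comap (Subalgebra.inclusion hle).toRingHom
  have hm' : m' ≠ ⊤ := fun h => hm.ne_top (m.eq_top_iff_one.2 (by
    have : (1 : B') ∈ m' := h ▸ Submodule.mem_top
    simpa [m'] using this))
  obtain ⟨M, hM, hmM⟩ := Ideal.exists_le_maximal m' hm'
  refine hff.submodule_ne_top hM (eq_top_iff.2 fun a _ => ?_)
  have hle' : Ideal.span (Subtype.val '' (T : Set B)) ≤
      ({ carrier := (M • (⊤ : Submodule B' A) : Submodule B' A)
         add_mem' := fun ha hb => add_mem ha hb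
         zero_mem' := zero_mem _
         smul_mem' := fun c x hx => by
          refine Submodule.smul_induction_on hx (fun r hr y _ => ?_) fun u v hu hv => by
            rw [smul_add]; exact add_mem hu hv
          rw [smul_comm]
          exact Submodule.smul_mem_smul hr trivial } : Ideal A) := by
    rw [Ideal.span_le]
    rintro _ ⟨b, hb, rfl⟩
    have hb' : (b : A) ∈ B' := hs (Finset.mem_image.2 ⟨b, hb, rfl⟩)
    show (b : A) ∈ M • (⊤ : Submodule B' A)
    rw [show (b : A) = (⟨b, hb'⟩ : B') • (1 : A) by simp [Subalgebra.smul_def]]
    exact Submodule.smul_mem_smul (hmM (show Subalgebra.inclusion hle ⟨b, hb'⟩ ∈ m from hTm b hb)) trivial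
  have := hle' (Ideal.mul_mem_left _ a hT)
  rwa [mul_one] at this

/-- A commutative Hopf algebra over a field is faithfully flat over every sub-Hopf-algebra. -/
theorem faithfullyFlat_hopfSubalgebra {k : Type u} [Field k] {A : Type u} [CommRing A] [HopfAlgebra k A]
    {B : Subalgebra k A} (hB : SGA3.IsHopfSubalgebra k A B) : Module.FaithfullyFlat B A :=
  faithfullyFlat_isSubHopf hB

end Groth.Agent.HopfLib
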