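import Mathlib.LinearAlgebra.TensorProduct.Basis
import Mathlib.LinearAlgebra.TensorProduct.Tower
import Mathlib.LinearAlgebra.Basis.VectorSpace
import Mathlib.LinearAlgebra.FiniteDimensional.Defs
import Mathlib.RingTheory.Finiteness.Finsupp

/-!
# Slices of tensors over a field

For `t : V ⊗ A` and `g : A →ₗ k`, the slice `sliceR g t : V` is `(id ⊗ g) t`; similarly `sliceL`.
-/

open TensorProduct

universe u v w

namespace Groth.Agent.HopfLib

section CommRing

variable {k : Type u} [CommRing k] {V : Type v} [AddCommGroup V] [Module k V]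
  {A : Type w} [AddCommGroup A] [Module k A]

/-- `(id ⊗ g) t`. -/
noncomputable def sliceR (g : A →ₗ[k] k) : V ⊗[k] A →ₗ[k] V :=
  (TensorProduct.rid k V).toLinearMap ∘ₗ g.lTensor V

/-- `(f ⊗ id) t`. -/
noncomputable def sliceL (f : V →ₗ[k] k) : V ⊗[k] A →ₗ[k] A :=
  (TensorProduct.lid k A).toLinearMap ∘ₗ f.rTensor A

@[simp] theorem sliceR_tmul (g : A →ₗ[k] k) (v : V) (a : A) : sliceR g (v ⊗ₜ[k] a) = g a • v := by
  simp [sliceR]

@[simp] theorem sliceL_tmul (f : V →ₗ[k] k) (v : V) (a : A) : sliceL f (v ⊗ₜ[k] a) = f v • a := by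
  simp [sliceL]

theorem sliceR_rTensor {W : Type*} [AddCommGroup W] [Module k W] (φ : V →ₗ[k] W)
    (g : A →ₗ[k] k) (t : V ⊗[k] A) : sliceR g (φ.rTensor A t) = φ (sliceR g t) := by
  induction t using TensorProduct.induction_on with
  | zero => simp
  | tmul v a => simp
  | add x y hx hy => simp [map_add, hx, hy]

theorem sliceL_lTensor {W : Type*} [AddCommGroup W] [Module k W] (φ : A →ₗ[k] W)
    (f : V →ₗ[k] k) (t : V ⊗[k] A) : sliceL f (φ.lTensor V t) = φ (sliceL f t) := by
  induction t using TensorProduct.induction_on with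
  | zero => simp
  | tmul v a => simp
  | add x y hx hy => simp [map_add, hx, hy]

theorem sliceR_mem_of_mem_range {W : Submodule k V} {t : V ⊗[k] A}
    (ht : t ∈ LinearMap.range (W.subtype.rTensor A)) (g : A →ₗ[k] k) : sliceR g t ∈ W := by
  obtain ⟨s, rfl⟩ := ht
  rw [sliceR_rTensor]
  exact Submodule.coe_mem _

/-- All right slices of a tensor lie in a finitely generated submodule. -/
theorem exists_fg_forall_sliceR_mem (t : V ⊗[k] A) :
    ∃ W : Submodule k V, W.FG ∧ ∀ g : A →ₗ[k] k, sliceR g t ∈ W := by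
  induction t using TensorProduct.induction_on with
  | zero => exact ⟨⊥, Submodule.fg_bot, fun g => by simp⟩
  | tmul v a =>
    exact ⟨Submodule.span k {v}, Submodule.fg_span (Set.finite_singleton v), fun g => by
      rw [sliceR_tmul]; exact Submodule.smul_mem _ _ (Submodule.subset_span rfl)⟩
  | add x y hx hy =>
    obtain ⟨W₁, h₁, h₁'⟩ := hx
    obtain ⟨W₂, h₂, h₂'⟩ := hy
    exact ⟨W₁ ⊔ W₂, h₁.sup h₂, fun g => by rw [map_add]; exact Submodule.add_mem_sup (h₁' g) (h₂' g)⟩

/-- All left slices of a tensor lie in a finitely generated submodule. -/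
theorem exists_fg_forall_sliceL_mem (t : V ⊗[k] A) :
    ∃ W : Submodule k A, W.FG ∧ ∀ f : V →ₗ[k] k, sliceL f t ∈ W := by
  induction t using TensorProduct.induction_on with
  | zero => exact ⟨⊥, Submodule.fg_bot, fun g => by simp⟩
  | tmul v a =>
    exact ⟨Submodule.span k {a}, Submodule.fg_span (Set.finite_singleton a), fun g => by
      rw [sliceL_tmul]; exact Submodule.smul_mem _ _ (Submodule.subset_span rfl)⟩
  | add x y hx hy =>
    obtain ⟨W₁, h₁, h₁'⟩ := hx
    obtain ⟨W₂, h₂, h₂'⟩ := hy
    exact ⟨W₁ ⊔ W₂, h₁.sup h₂, fun g => by rw [map_add]; exact Submodule.add_mem_sup (h₁' g) (h₂' g)⟩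

/-- Expansion along a basis of the right factor. -/
theorem sliceR_coord {ι : Type*} [DecidableEq ι] (b : Module.Basis ι k A) (t : V ⊗[k] A) (i : ι) :
    TensorProduct.equivFinsuppOfBasisRight b t i = sliceR (b.coord i) t := by
  induction t using TensorProduct.induction_on with
  | zero => simp
  | tmul v a => simp [TensorProduct.equivFinsuppOfBasisRight_apply_tmul_apply]
  | add x y hx hy => simp [map_add, hx, hy]

theorem sliceL_coord {ι : Type*} [DecidableEq ι] (b : Module.Basis ι k V) (t : V ⊗[k] A) (i : ι) :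
    TensorProduct.equivFinsuppOfBasisLeft b t i = sliceL (b.coord i) t := by
  induction t using TensorProduct.induction_on with
  | zero => simp
  | tmul v a => simp [TensorProduct.equivFinsuppOfBasisLeft_apply_tmul_apply]
  | add x y hx hy => simp [map_add, hx, hy]

/-- Right slices separate tensors when the right factor is free. -/
theorem eq_of_forall_sliceR_eq [Module.Free k A] {s t : V ⊗[k] A}
    (h : ∀ g : A →ₗ[k] k, sliceR g s = sliceR g t) : s = t := by
  classical
  let b := Module.Free.chooseBasis k A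
  refine (TensorProduct.equivFinsuppOfBasisRight b).injective (Finsupp.ext fun i => ?_)
  rw [sliceR_coord, sliceR_coord, h]

/-- Left slices separate tensors when the left factor is free. -/
theorem eq_of_forall_sliceL_eq [Module.Free k V] {s t : V ⊗[k] A}
    (h : ∀ f : V →ₗ[k] k, sliceL f s = sliceL f t) : s = t := by
  classical
  let b := Module.Free.chooseBasis k V
  refine (TensorProduct.equivFinsuppOfBasisLeft b).injective (Finsupp.ext fun i => ?_)
  rw [sliceL_coord, sliceL_coord, h]

end CommRing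

section Field

variable {k : Type u} [Field k] {V : Type v} [AddCommGroup V] [Module k V]
  {A : Type w} [AddCommGroup A] [Module k A]

/-- A linear projection onto a subspace. -/
theorem exists_projection (W : Submodule k V) :
    ∃ P : V →ₗ[k] V, (∀ v, P v ∈ W) ∧ ∀ w ∈ W, P w = w := by
  obtain ⟨π, hπ⟩ := W.subtype.exists_leftInverse_of_injective W.ker_subtype
  refine ⟨W.subtype ∘ₗ π, fun v => (π v).2, fun w hw => ?_⟩
  have := LinearMap.congr_fun hπ ⟨w, hw⟩
  simp only [LinearMap.comp_apply, Submodule.subtype_apply, LinearMap.id_apply] at this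
  simp [this]

theorem mem_range_rTensor_subtype_iff {W : Submodule k V} {t : V ⊗[k] A} :
    t ∈ LinearMap.range (W.subtype.rTensor A) ↔ ∀ g : A →ₗ[k] k, sliceR g t ∈ W := by
  refine ⟨fun ht g => sliceR_mem_of_mem_range ht g, fun h => ?_⟩
  obtain ⟨P, hP, hP'⟩ := exists_projection W
  have : P.rTensor A t = t := eq_of_forall_sliceR_eq fun g => by
    rw [sliceR_rTensor, hP' _ (h g)]
  rw [← this, show P = W.subtype ∘ₗ P.codRestrict W hP from LinearMap.ext fun v => rfl,
    LinearMap.rTensor_comp]
  exact ⟨_, rfl⟩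

theorem mem_range_lTensor_subtype_iff {W : Submodule k A} {t : V ⊗[k] A} :
    t ∈ LinearMap.range (W.subtype.lTensor V) ↔ ∀ f : V →ₗ[k] k, sliceL f t ∈ W := by
  constructor
  · rintro ⟨s, rfl⟩ f
    rw [sliceL_lTensor]
    exact Submodule.coe_mem _
  · intro h
    obtain ⟨P, hP, hP'⟩ := exists_projection W
    have : P.lTensor V t = t := eq_of_forall_sliceL_eq fun f => by
      rw [sliceL_lTensor, hP' _ (h f)]
    rw [← this, show P = W.subtype ∘ₗ P.codRestrict W hP from LinearMap.ext fun v => rfl,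
      LinearMap.lTensor_comp]
    exact ⟨_, rfl⟩

theorem mem_range_map_subtype_iff {W : Submodule k V} {U : Submodule k A} {t : V ⊗[k] A} :
    t ∈ LinearMap.range (TensorProduct.map W.subtype U.subtype) ↔
      (∀ g : A →ₗ[k] k, sliceR g t ∈ W) ∧ ∀ f : V →ₗ[k] k, sliceL f t ∈ U := by
  constructor
  · rintro ⟨s, rfl⟩
    refine ⟨fun g => sliceR_mem_of_mem_range ⟨U.subtype.lTensor W s, ?_⟩ g, ?_⟩
    · rw [← LinearMap.comp_apply, LinearMap.rTensor_comp_lTensor]
    · refine (mem_range_lTensor_subtype_iff).1 ⟨W.subtype.rTensor U s, ?_⟩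
      rw [← LinearMap.comp_apply, LinearMap.lTensor_comp_rTensor]
  · rintro ⟨hW, hU⟩
    obtain ⟨P, hP, hP'⟩ := exists_projection W
    obtain ⟨Q, hQ, hQ'⟩ := exists_projection U
    have h1 : P.rTensor A t = t := eq_of_forall_sliceR_eq fun g => by
      rw [sliceR_rTensor, hP' _ (hW g)]
    have h2 : Q.lTensor V t = t := eq_of_forall_sliceL_eq fun f => by
      rw [sliceL_lTensor, hQ' _ (hU f)]
    have h3 : TensorProduct.map P Q t = t := by
      rw [← LinearMap.rTensor_comp_lTensor, LinearMap.comp_apply, h2, h1]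
    rw [← h3, show P = W.subtype ∘ₗ P.codRestrict W hP from LinearMap.ext fun v => rfl,
      show Q = U.subtype ∘ₗ Q.codRestrict U hQ from LinearMap.ext fun v => rfl,
      TensorProduct.map_comp]
    exact ⟨_, rfl⟩

end Field

end Groth.Agent.HopfLib
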