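import Groth.Agent.HopfLib.UnipotentPow
import Mathlib.Algebra.MvPolynomial.PDeriv
import Mathlib.RingTheory.AlgebraicIndependent.Defs
import Mathlib.RingTheory.FiniteType

/-!
# Commutative unipotent groups in characteristic zero
-/

open TensorProduct HopfRep WithConv Polynomial

universe u v w

namespace Groth.Agent.HopfLib

set_option linter.unusedSectionVars false
set_option maxHeartbeats 400000

variable {k : Type u} [Field k] [CharZero k] {A : Type v} [CommRing A] [Bialgebra k A]
  {B : Type w} [CommRing B] [Algebra k B]

theorem logMap_comp {C : Type*} [CommRing C] [Algebra k C] (hU : IsUnipotent k A) (g : A →ₐ[k] B)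
    (h : B →ₐ[k] C) (a : A) : logMap hU (h.comp g) a = h (logMap hU g a) := by
  have : powPoly hU (h.comp g) a = (powPoly hU g a).map h.toRingHom := by
    refine poly_ext_eval_nat k fun n => ?_
    rw [powPoly_eval, eval_natCast_map, powPoly_eval, ← ofConv_toConv g, ← comp_convPow, ofConv_toConv]
    rfl
  rw [logMap_apply, logMap_apply, this, coeff_map]
  rfl

theorem coeff_one_mul'_map (P Q : A →ₐ[k] B[X]) (l r : A →ₗ[k] B)
    (hP0 : ∀ a, (P a).coeff 0 = algebraMap k B (CoalgebraStruct.counit a))
    (hQ0 : ∀ a, (Q a).coeff 0 = algebraMap k B (CoalgebraStruct.counit a))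
    (hP : ∀ a, (P a).coeff 1 = l a) (hQ : ∀ a, (Q a).coeff 1 = r a) (a : A) :
    ((toConv P * toConv Q).ofConv a).coeff 1 = l a + r a := by
  change (LinearMap.mul' k B[X] (TensorProduct.map P.toLinearMap Q.toLinearMap
    (CoalgebraStruct.comul (R := k) a))).coeff 1 = _
  have h1 : l a = LinearMap.mul' k B (TensorProduct.map l (Algebra.linearMap k B ∘ₗ CoalgebraStruct.counit)
      (CoalgebraStruct.comul (R := k) a)) := by
    have ha := congrArg (TensorProduct.rid k A) (Coalgebra.sum_tmul_counit_eq (Coalgebra.Repr.arbitrary k a))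
    simp only [map_sum, TensorProduct.rid_tmul, one_smul] at ha
    conv_lhs => rw [← ha]
    conv_rhs => rw [← (Coalgebra.Repr.arbitrary k a).eq]
    simp only [map_sum, map_smul]
    simp [Algebra.smul_def, mul_comm]
  have h2 : r a = LinearMap.mul' k B (TensorProduct.map (Algebra.linearMap k B ∘ₗ CoalgebraStruct.counit) r
      (CoalgebraStruct.comul (R := k) a)) := by
    conv_lhs => rw [← Coalgebra.sum_counit_smul (Coalgebra.Repr.arbitrary k a)]
    conv_rhs => rw [← (Coalgebra.Repr.arbitrary k a).eq]
    simp only [map_sum, map_smul]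
    simp [Algebra.smul_def]
  rw [h1, h2]
  generalize CoalgebraStruct.comul (R := k) a = t
  induction t using TensorProduct.induction_on with
  | zero => simp
  | add p q hp hq => simp only [map_add, coeff_add, hp, hq]; abel
  | tmul b c => simp [mul_coeff_one, hP0, hQ0, hP, hQ, add_comm]

theorem logMap_mul_of_commute (hU : IsUnipotent k A) (g h : A →ₐ[k] B) (hc : Commute (toConv g) (toConv h))
    (a : A) : logMap hU (toConv g * toConv h).ofConv a = logMap hU g a + logMap hU h a := by
  have E : toConv (powPoly hU (toConv g * toConv h).ofConv) = toConv (powPoly hU g) * toConv (powPoly hU h) := by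
    apply ofConv_injective
    refine AlgHom.ext fun b => poly_ext_eval_nat k fun n => ?_
    have hl : ((toConv (powPoly hU g) * toConv (powPoly hU h)).ofConv b).eval (n : B) =
        ((evalK (n : k)).comp (toConv (powPoly hU g) * toConv (powPoly hU h)).ofConv) b := by
      rw [AlgHom.comp_apply, evalK_apply, map_natCast]
    rw [hl, AlgHom.comp_convMul_distrib]
    simp only [ofConv_toConv]
    rw [evalK_nat_powPoly, evalK_nat_powPoly, powPoly_eval, toConv_ofConv, hc.mul_pow]
  rw [logMap_apply, show powPoly hU (toConv g * toConv h).ofConv =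
    (toConv (powPoly hU g) * toConv (powPoly hU h)).ofConv from congrArg WithConv.ofConv E]
  exact coeff_one_mul'_map _ _ _ _ (powPoly_coeff_zero hU g) (powPoly_coeff_zero hU h)
    (fun _ => rfl) (fun _ => rfl) a

theorem comulAlgHom_eq_mul :
    toConv (Bialgebra.comulAlgHom k A) = toConv (Algebra.TensorProduct.includeLeft : A →ₐ[k] A ⊗[k] A) *
      toConv (Algebra.TensorProduct.includeRight : A →ₐ[k] A ⊗[k] A) := by
  apply ofConv_injective
  refine AlgHom.ext fun a => ?_
  change CoalgebraStruct.comul (R := k) a = LinearMap.mul' k (A ⊗[k] A) (TensorProduct.map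
    (Algebra.TensorProduct.includeLeft : A →ₐ[k] A ⊗[k] A).toLinearMap
    (Algebra.TensorProduct.includeRight : A →ₐ[k] A ⊗[k] A).toLinearMap (CoalgebraStruct.comul (R := k) a))
  generalize CoalgebraStruct.comul (R := k) a = t
  induction t using TensorProduct.induction_on with
  | zero => simp
  | add p q hp hq => simp only [map_add, ← hp, ← hq]
  | tmul b c => simp

theorem comul_logMap [Coalgebra.IsCocomm k A] (hU : IsUnipotent k A) (a : A) :
    CoalgebraStruct.comul (R := k) (logMap hU (AlgHom.id k A) a) =
      logMap hU (AlgHom.id k A) a ⊗ₜ[k] (1 : A) + (1 : A) ⊗ₜ[k] logMap hU (AlgHom.id k A) a := by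
  have h := logMap_comp hU (AlgHom.id k A) (Bialgebra.comulAlgHom k A) a
  rw [AlgHom.comp_id, ← ofConv_toConv (Bialgebra.comulAlgHom k A), comulAlgHom_eq_mul,
    logMap_mul_of_commute hU _ _ (Commute.all _ _)] at h
  rw [← comulAlgHom_eq_mul, ofConv_toConv, Bialgebra.comulAlgHom_apply] at h
  have hL := logMap_comp hU (AlgHom.id k A) (Algebra.TensorProduct.includeLeft : A →ₐ[k] A ⊗[k] A) a
  have hR := logMap_comp hU (AlgHom.id k A) (Algebra.TensorProduct.includeRight : A →ₐ[k] A ⊗[k] A) a
  rw [AlgHom.comp_id, Algebra.TensorProduct.includeLeft_apply] at hL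
  rw [AlgHom.comp_id, Algebra.TensorProduct.includeRight_apply] at hR
  rw [← h, hL, hR]

theorem counit_of_primitive {p : A}
    (hp : CoalgebraStruct.comul (R := k) p = p ⊗ₜ[k] (1 : A) + (1 : A) ⊗ₜ[k] p) :
    CoalgebraStruct.counit (R := k) p = 0 := by
  have := congrArg ((TensorProduct.rid k k).toLinearMap ∘ₗ
    TensorProduct.map (CoalgebraStruct.counit (R := k)) (CoalgebraStruct.counit (R := k))) hp
  conv_lhs at this => rw [← (Coalgebra.Repr.arbitrary k p).eq]
  simp [map_sum] at this
  have h2 := congrArg (CoalgebraStruct.counit (R := k))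
    (Coalgebra.sum_counit_smul (Coalgebra.Repr.arbitrary k p))
  simp [map_sum] at h2
  simp only [mul_comm] at this h2
  rw [h2] at this
  exact left_eq_add.1 this

theorem powPoly_primitive (hU : IsUnipotent k A) {p : A}
    (hp : CoalgebraStruct.comul (R := k) p = p ⊗ₜ[k] (1 : A) + (1 : A) ⊗ₜ[k] p) :
    powPoly hU (AlgHom.id k A) p = Polynomial.C p * Polynomial.X := by
  refine poly_ext_eval_nat k fun n => ?_
  rw [powPoly_eval, eval_mul, eval_C, eval_X]
  induction n with
  | zero =>
    rw [pow_zero, AlgHom.convOne_apply, counit_of_primitive hp, map_zero, Nat.cast_zero, mul_zero]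
  | succ n ih =>
    rw [pow_succ]
    change LinearMap.mul' k A (TensorProduct.map (toConv (AlgHom.id k A) ^ n).ofConv.toLinearMap
      (AlgHom.id k A).toLinearMap (CoalgebraStruct.comul (R := k) p)) = _
    rw [hp]
    simp [ih]
    ring

theorem logMap_primitive (hU : IsUnipotent k A) {p : A}
    (hp : CoalgebraStruct.comul (R := k) p = p ⊗ₜ[k] (1 : A) + (1 : A) ⊗ₜ[k] p) :
    logMap hU (AlgHom.id k A) p = p := by
  rw [logMap_apply, powPoly_primitive hU hp, coeff_C_mul_X]
  simp

theorem adjoin_range_logMap (hU : IsUnipotent k A) :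
    Algebra.adjoin k (Set.range (logMap hU (AlgHom.id k A))) = ⊤ := by
  set S := Algebra.adjoin k (Set.range (logMap hU (AlgHom.id k A)))
  have key : ∀ j a, (powPoly hU (AlgHom.id k A) a).coeff j ∈ S := by
    intro j
    induction j with
    | zero => intro a; rw [powPoly_coeff_zero]; exact S.algebraMap_mem _
    | succ j ih =>
      intro a
      have h : (derivative (powPoly hU (AlgHom.id k A) a)).coeff j ∈ S := by
        rw [derivative_powPoly]
        generalize CoalgebraStruct.comul (R := k) a = t
        induction t using TensorProduct.induction_on with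
        | zero => simp
        | add p q hp hq => simp only [map_add, coeff_add]; exact add_mem hp hq
        | tmul b c =>
          simp only [TensorProduct.map_tmul, LinearMap.mul'_apply, AlgHom.toLinearMap_apply,
            LinearMap.comp_apply, LinearMap.restrictScalars_apply, CAlgHom_apply, coeff_mul_C]
          exact mul_mem (ih b) (Algebra.subset_adjoin ⟨c, rfl⟩)
      rw [coeff_derivative, ← Nat.cast_succ, ← map_natCast (algebraMap k A)] at h
      have h' := mul_mem h (S.algebraMap_mem ((j.succ : ℕ) : k)⁻¹)
      rwa [mul_assoc, ← map_mul, mul_inv_cancel₀ (Nat.cast_ne_zero.2 (Nat.succ_ne_zero j)), map_one, mul_one]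
        at h'
  refine eq_top_iff.2 fun a _ => ?_
  have h := powPoly_eval_one hU (AlgHom.id k A) a
  rw [AlgHom.id_apply] at h
  rw [← h, eval_eq_sum, Polynomial.sum_def]
  exact Subalgebra.sum_mem _ fun j _ => by rw [one_pow, mul_one]; exact key j a

theorem finite_range_logMap [Algebra.FiniteType k A] (hU : IsUnipotent k A) :
    FiniteDimensional k (LinearMap.range (logMap hU (AlgHom.id k A))) := by
  obtain ⟨s, hs⟩ := (Algebra.FiniteType.out : (⊤ : Subalgebra k A).FG)
  have : FiniteDimensional k (Submodule.span k (logMap hU (AlgHom.id k A) '' (s : Set A))) :=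
    FiniteDimensional.span_of_finite k (s.finite_toSet.image _)
  refine Submodule.finiteDimensional_of_le
    (S₂ := Submodule.span k (logMap hU (AlgHom.id k A) '' (s : Set A))) ?_
  rintro _ ⟨a, rfl⟩
  have ha : a ∈ Algebra.adjoin k (s : Set A) := hs ▸ Algebra.mem_top
  induction ha using Algebra.adjoin_induction with
  | mem x hx => exact Submodule.subset_span ⟨x, hx, rfl⟩
  | algebraMap c => simp [logMap_apply, Polynomial.algebraMap_apply, coeff_C]
  | add x y _ _ hx hy => rw [map_add]; exact add_mem hx hy
  | mul x y _ _ hx hy =>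
    rw [logMap_mul]; exact add_mem (Submodule.smul_mem _ _ hy) (Submodule.smul_mem _ _ hx)

theorem counit_aeval {σ : Type*} (x : σ → A) (h : ∀ i, CoalgebraStruct.counit (R := k) (x i) = 0)
    (f : MvPolynomial σ k) :
    CoalgebraStruct.counit (R := k) (MvPolynomial.aeval x f) = MvPolynomial.coeff 0 f := by
  rw [← Bialgebra.counitAlgHom_apply, ← AlgHom.comp_apply, MvPolynomial.comp_aeval]
  simp [Bialgebra.counitAlgHom_apply, h, MvPolynomial.constantCoeff_eq]

theorem algebraicIndependent_of_linearIndependent_primitive [Coalgebra.IsCocomm k A]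
    (hU : IsUnipotent k A) {σ : Type*} [Finite σ]
    (b : Module.Basis σ k (LinearMap.range (logMap hU (AlgHom.id k A)))) :
    AlgebraicIndependent k (fun i => (b i : A)) := by
  classical
  set x : σ → A := fun i => (b i : A)
  have hprim : ∀ i, CoalgebraStruct.comul (R := k) (x i) = x i ⊗ₜ[k] (1 : A) + (1 : A) ⊗ₜ[k] x i := by
    intro i
    obtain ⟨a, ha⟩ := (b i).2
    simp only [x, ← ha, comul_logMap]
  let δ : σ → A →ₗ[k] k := fun j => b.coord j ∘ₗ (logMap hU (AlgHom.id k A)).rangeRestrict
  have hδ : ∀ j i, δ j (x i) = if i = j then 1 else 0 := fun j i => by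
    have : (logMap hU (AlgHom.id k A)).rangeRestrict (x i) = b i :=
      Subtype.ext (logMap_primitive hU (hprim i))
    simp [δ, this, Finsupp.single_apply]
  have hδmul : ∀ j a c, δ j (a * c) =
      CoalgebraStruct.counit (R := k) a * δ j c + CoalgebraStruct.counit (R := k) c * δ j a := fun j a c => by
    have : (logMap hU (AlgHom.id k A)).rangeRestrict (a * c) =
        CoalgebraStruct.counit (R := k) a • (logMap hU (AlgHom.id k A)).rangeRestrict c +
          CoalgebraStruct.counit (R := k) c • (logMap hU (AlgHom.id k A)).rangeRestrict a :=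
      Subtype.ext (logMap_mul hU _ a c)
    simp [δ, this]
  let D : σ → A →ₗ[k] A := fun j => sliceR (δ j) ∘ₗ CoalgebraStruct.comul
  have hDmul : ∀ j a c, D j (a * c) = a * D j c + c * D j a := by
    intro j a c
    have hε : ∀ y : A, sliceR (CoalgebraStruct.counit (R := k) (A := A)) (CoalgebraStruct.comul (R := k) y) = y :=
      fun y => hitR_counit y
    have key : ∀ s t : A ⊗[k] A, sliceR (δ j) (s * t) =
        sliceR (CoalgebraStruct.counit (R := k)) s * sliceR (δ j) t +
          sliceR (CoalgebraStruct.counit (R := k)) t * sliceR (δ j) s := by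
      intro s t
      induction s using TensorProduct.induction_on with
      | zero => simp
      | add p q hp hq => simp only [add_mul, map_add, hp, hq]; ring
      | tmul p q =>
        induction t using TensorProduct.induction_on with
        | zero => simp
        | add p' q' hp hq => simp only [mul_add, map_add, hp, hq]; ring
        | tmul p' q' =>
          simp only [Algebra.TensorProduct.tmul_mul_tmul, sliceR_tmul, hδmul, Algebra.smul_def, map_add, map_mul]
          ring
    simp only [D, LinearMap.comp_apply, Bialgebra.comul_mul, key, hε]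
  have hδ1 : ∀ j, δ j 1 = 0 := fun j => by
    have h := hδmul j 1 1
    rw [mul_one, Bialgebra.counit_one, one_mul] at h
    exact left_eq_add.1 h
  have hD : ∀ j (f : MvPolynomial σ k),
      D j (MvPolynomial.aeval x f) = MvPolynomial.aeval x (MvPolynomial.pderiv j f) := by
    intro j f
    induction f using MvPolynomial.induction_on with
    | C c =>
      rw [MvPolynomial.pderiv_C, map_zero, MvPolynomial.aeval_C, Algebra.algebraMap_eq_smul_one, map_smul]
      simp [D, Bialgebra.comul_one, Algebra.TensorProduct.one_def, hδ1]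
    | add p q hp hq => simp only [map_add, hp, hq]
    | mul_X p i hp =>
      rw [map_mul, MvPolynomial.aeval_X, hDmul, hp, MvPolynomial.pderiv_mul]
      have : D j (x i) = if i = j then 1 else 0 := by
        simp only [D, LinearMap.comp_apply, hprim i, map_add, sliceR_tmul, hδ1, hδ, zero_smul, zero_add]
        split <;> simp
      rw [this, MvPolynomial.pderiv_X]
      rcases eq_or_ne i j with rfl | hij
      · simp; ring
      · simp [hij, mul_comm]
  rw [algebraicIndependent_iff_injective_aeval, injective_iff_map_eq_zero]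
  intro f hf
  have key : ∀ (n : ℕ) (m : σ →₀ ℕ), (m.sum fun _ e => e) = n → ∀ f : MvPolynomial σ k,
      MvPolynomial.aeval x f = 0 → MvPolynomial.coeff m f = 0 := by
    intro n
    induction n with
    | zero =>
      intro m hm f hf
      have : m = 0 := by
        ext i
        by_contra hi
        exact hi (Nat.eq_zero_of_le_zero (hm ▸ Finset.single_le_sum (f := fun i => m i)
          (fun _ _ => Nat.zero_le _) (Finsupp.mem_support_iff.2 hi)))
      rw [this, ← counit_aeval x (fun i => counit_of_primitive (hprim i)) f, hf, map_zero]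
    | succ n ih =>
      intro m hm f hf
      obtain ⟨i, hi⟩ : ∃ i, m i ≠ 0 := by
        by_contra h
        push Not at h
        rw [show m = 0 from Finsupp.ext h, Finsupp.sum_zero_index] at hm
        omega
      have hle : Finsupp.single i 1 ≤ m := Finsupp.single_le_iff.2 (Nat.one_le_iff_ne_zero.2 hi)
      have hs : ((m - Finsupp.single i 1).sum fun _ e => e) = n := by
        have h2 := Finsupp.sum_add_index' (h := fun _ e => e) (f := m - Finsupp.single i 1)
          (g := Finsupp.single i 1) (fun _ => rfl) (fun _ _ _ => rfl)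
        rw [tsub_add_cancel_of_le hle, hm, Finsupp.sum_single_index rfl] at h2
        omega
      have h := ih _ hs (MvPolynomial.pderiv i f) (by rw [← hD, hf, map_zero])
      rw [MvPolynomial.coeff_pderiv, tsub_add_cancel_of_le hle] at h
      exact (mul_eq_zero.1 h).resolve_right (Nat.cast_add_one_ne_zero _)
  exact MvPolynomial.ext _ _ fun m => by rw [key _ m rfl f hf, MvPolynomial.coeff_zero]

end Groth.Agent.HopfLib
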