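import Groth.Agent.HopfLib.ReductiveExtra
import Groth.Prelude.Def_W4c1tameactTame

/-!
# Invariants of equivariant modules
-/

open TensorProduct HopfRep

universe u v w z

namespace Groth.Agent.HopfLib

set_option linter.unusedSectionVars false
set_option maxHeartbeats 400000

variable {k : Type u} [Field k] {A : Type v} [CommRing A] [HopfAlgebra k A]
  {R : Type w} [CommRing R] [Algebra k R] [Comod k A R] [GLin.IsCoactAlg k A R]

theorem hit_mul_of_mem_invariants (g : A →ₗ[k] k) {c : R} (hc : c ∈ GLin.invariants k A R) (b : R) :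
    hit g (c * b) = c * hit g b := by
  rw [hit_apply, hit_apply, GLin.IsCoactAlg.coact_mul, (GLin.mem_invariants_iff k A R c).1 hc]
  generalize Comod.coact (k := k) (A := A) b = t
  induction t using TensorProduct.induction_on with
  | zero => simp
  | add p q hp hq => simp only [mul_add, map_add, hp, hq]
  | tmul x y => simp

theorem reynolds_mem_invariants {α : A →ₗ[k] k} (hα : IsIntegral α) (h1 : α 1 = 1) (b : R) :
    reynolds α b ∈ GLin.invariants k A R :=
  reynolds_mem_fixedPts hα h1 b

section Module

variable {M : Type z} [AddCommGroup M] [Module k M] [Module R M] [IsScalarTower k R M]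
  [Comod k A M] [TameAct.IsHopfMod k A R M]

theorem hit_smul_of_mem_fixedPts (g : A →ₗ[k] k) (b : R) {y : M} (hy : y ∈ fixedPts k A M) :
    hit g (b • y) = hit g b • y := by
  rw [hit_apply, hit_apply, TameAct.IsHopfMod.coact_smul (k := k) (A := A) b y,
    show Comod.coact (k := k) (A := A) y = y ⊗ₜ (1 : A) from hy]
  generalize Comod.coact (k := k) (A := A) b = t
  induction t using TensorProduct.induction_on with
  | zero => simp
  | add p q hp hq => simp only [map_add, LinearMap.add_apply, add_smul, hp, hq]
  | tmul x a => simp [smul_assoc]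

/-- Invariants of a finite equivariant module are finite over the invariants. -/
theorem exists_finset_fixedPts_generators [IsNoetherianRing R] [Module.Finite R M]
    (hG : IsLinearlyReductive k A) :
    ∃ s : Finset M, (↑s : Set M) ⊆ (fixedPts k A M : Set M) ∧
      ∀ m ∈ fixedPts k A M, ∃ c : M → R,
        (∀ y ∈ s, c y ∈ GLin.invariants k A R) ∧ m = ∑ y ∈ s, c y • y := by
  classical
  obtain ⟨α, hα, h1⟩ := exists_integral hG
  obtain ⟨s, hs, hspan⟩ := (Submodule.fg_span_iff_fg_span_finset_subset (fixedPts k A M : Set M)).1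
    (IsNoetherian.noetherian (Submodule.span R (fixedPts k A M : Set M)))
  refine ⟨s, hs, fun m hm => ?_⟩
  obtain ⟨c, -, hc⟩ := Submodule.mem_span_finset.1
    (hspan ▸ Submodule.subset_span hm : m ∈ Submodule.span R (↑s : Set M))
  refine ⟨fun y => reynolds α (c y), fun y _ => reynolds_mem_invariants hα h1 _, ?_⟩
  conv_lhs => rw [← hit_eq_self_of_mem_fixedPts h1 hm, ← hc, map_sum]
  exact Finset.sum_congr rfl fun y hy => hit_smul_of_mem_fixedPts α (c y) (hs hy)

end Module

end Groth.Agent.HopfLib
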