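import Groth.Agent.HopfLib.Comod
import Mathlib.RingTheory.Bialgebra.Basic

/-!
# Homotopies on the Hochschild complex of a comodule
-/

open TensorProduct HopfRep

universe u v w

namespace Groth.Agent.HopfLib

set_option linter.unusedSectionVars false
set_option linter.unusedSimpArgs false
set_option maxHeartbeats 400000

variable {k : Type u} [CommRing k] {A : Type v} [Ring A] [Bialgebra k A]

theorem tail_natural {M N : Type v} [AddCommGroup M] [Module k M] [AddCommGroup N] [Module k N]
    (f : M →ₗ[k] N) (x : M ⊗[k] A) :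
    Hoch.tail k A N (f.rTensor A x) = (f.rTensor A).rTensor A (Hoch.tail k A M x) := by
  induction x using TensorProduct.induction_on with
  | zero => simp
  | add p q hp hq => simp only [map_add, hp, hq]
  | tmul m a =>
    simp only [LinearMap.rTensor_tmul, Hoch.tail_tmul]
    generalize CoalgebraStruct.comul (R := k) a - a ⊗ₜ 1 - 1 ⊗ₜ a = t
    induction t using TensorProduct.induction_on with
    | zero => simp
    | add p q hp hq => simp only [TensorProduct.tmul_add, map_add, hp, hq]
    | tmul b c => simp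

section Complex

variable {V W : Type v} [AddCommGroup V] [Module k V] [Comod k A V] [AddCommGroup W] [Module k W]
  [Comod k A W]

theorem d_zero_natural {f : V →ₗ[k] W} (hf : Hoch.IsComodHom A f) (v : V) :
    Hoch.d k A W 0 (f v) = f.rTensor A (Hoch.d k A V 0 v) := by
  rw [Hoch.d_zero_apply, Hoch.d_zero_apply, IsComodHom.coact_apply hf, map_sub]
  rfl

theorem d_one_natural {f : V →ₗ[k] W} (hf : Hoch.IsComodHom A f) (x : V ⊗[k] A) :
    Hoch.d k A W 1 (f.rTensor A x) = (f.rTensor A).rTensor A (Hoch.d k A V 1 x) := by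
  have h1 : (Hoch.d k A W 0).rTensor A (f.rTensor A x) =
      (f.rTensor A).rTensor A ((Hoch.d k A V 0).rTensor A x) := by
    rw [← LinearMap.rTensor_comp_apply, ← LinearMap.rTensor_comp_apply]
    congr 2
    exact LinearMap.ext fun v => d_zero_natural hf v
  change ((Hoch.d k A W 0).rTensor A + ((-1 : k) ^ (0 + 1)) • Hoch.tail k A W) (f.rTensor A x) =
    (f.rTensor A).rTensor A (((Hoch.d k A V 0).rTensor A + ((-1 : k) ^ (0 + 1)) • Hoch.tail k A V) x)
  simp only [LinearMap.add_apply, LinearMap.smul_apply, map_add, map_smul, tail_natural, h1]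

theorem d_one_d_zero (v : V) : Hoch.d k A V 1 (Hoch.d k A V 0 v) = 0 := by
  change ((Hoch.d k A V 0).rTensor A + ((-1 : k) ^ (0 + 1)) • Hoch.tail k A V) _ = 0
  have key : ∀ t : V ⊗[k] A,
      ((Hoch.d k A V 0).rTensor A + ((-1 : k) ^ (0 + 1)) • Hoch.tail k A V) t =
      (Comod.coact (k := k) (A := A)).rTensor A t
        - (TensorProduct.assoc k V A A).symm ((CoalgebraStruct.comul (R := k) (A := A)).lTensor V t)
        + t ⊗ₜ (1 : A) := by
    intro t
    induction t using TensorProduct.induction_on with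
    | zero => simp
    | add p q hp hq =>
      rw [map_add, hp, hq]
      simp only [map_add, TensorProduct.add_tmul]
      abel
    | tmul x a =>
      rw [LinearMap.add_apply, LinearMap.rTensor_tmul,
        show Hoch.d k A V 0 x = Comod.coact (k := k) (A := A) x - x ⊗ₜ (1 : A) from rfl]
      simp only [LinearMap.add_apply, LinearMap.smul_apply, LinearMap.rTensor_tmul, Hoch.d_zero_apply,
        Hoch.tail_tmul, LinearMap.lTensor_tmul, TensorProduct.sub_tmul, TensorProduct.tmul_sub, map_sub,
        TensorProduct.assoc_symm_tmul, zero_add, pow_one, neg_smul, one_smul]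
      abel
  rw [key, Hoch.d_zero_apply]
  simp only [map_sub, TensorProduct.sub_tmul, LinearMap.rTensor_tmul, LinearMap.lTensor_tmul,
    Bialgebra.comul_one, Algebra.TensorProduct.one_def, TensorProduct.assoc_symm_tmul]
  rw [← coassoc_apply, LinearEquiv.symm_apply_apply]
  abel

/-- A normalised left invariant form contracts the complex in positive degrees. -/
theorem cocycles_le_coboundaries_of_leftIntegral (α : A →ₗ[k] k)
    (hl : ∀ a, sliceR α (CoalgebraStruct.comul (R := k) a) = α a • (1 : A)) (h1 : α 1 = 1) (n : ℕ) :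
    Hoch.cocycles k A V (n + 1) ≤ Hoch.coboundaries k A V (n + 1) := by
  intro x hx
  let M := (Hoch.cochain k A V n : Type v)
  have key : ∀ y : M ⊗[k] A, sliceR α (Hoch.d k A V (n + 1) y) =
      Hoch.d k A V n (sliceR α y) - ((-1 : k) ^ (n + 1)) • y := by
    intro y
    induction y using TensorProduct.induction_on with
    | zero => simp
    | add p q hp hq => rw [map_add, map_add, hp, hq]; simp only [map_add, smul_add]; abel
    | tmul m a =>
      have h2 : ∀ t : A ⊗[k] A,
          sliceR α ((TensorProduct.assoc k M A A).symm (m ⊗ₜ t)) = m ⊗ₜ sliceR α t := by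
        intro t
        induction t using TensorProduct.induction_on with
        | zero => simp
        | add p q hp hq => simp only [TensorProduct.tmul_add, map_add, hp, hq]
        | tmul b c => simp [TensorProduct.smul_tmul']
      change sliceR α (((Hoch.d k A V n).rTensor A +
        ((-1 : k) ^ (n + 1)) • Hoch.tail k A (Hoch.cochain k A V n)) (m ⊗ₜ a)) = _
      simp only [LinearMap.add_apply, LinearMap.smul_apply, LinearMap.rTensor_tmul, map_add, map_smul,
        sliceR_tmul, Hoch.tail_tmul]
      rw [h2, map_sub, map_sub, sliceR_tmul, sliceR_tmul, hl, h1]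
      simp only [one_smul, sub_sub_cancel_left, TensorProduct.tmul_sub]
      simp [sub_eq_add_neg, TensorProduct.tmul_neg, smul_neg]
  have h : Hoch.d k A V (n + 1) x = 0 := hx
  have h3 := key x
  rw [h, map_zero] at h3
  have h4 : Hoch.d k A V n (sliceR α x) = ((-1 : k) ^ (n + 1)) • x := sub_eq_zero.1 h3.symm
  refine ⟨((-1 : k) ^ (n + 1)) • sliceR α x, ?_⟩
  rw [map_smul, h4, smul_smul, ← mul_pow]
  simp

end Complex

/-! ### Induced comodules -/

section Ind

variable {P : Type w} [AddCommGroup P] [Module k P]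

theorem counit_rTensor_coactAux (x : P ⊗[k] A) :
    (Hoch.Ind.counit k A P ∘ₗ (Hoch.Ind.equiv k A P).toLinearMap).rTensor A
      (Hoch.Ind.coactAux k A P x) = x := by
  induction x using TensorProduct.induction_on with
  | zero => simp
  | add p q hp hq => simp only [map_add, hp, hq]
  | tmul p a =>
    rw [Hoch.Ind.coactAux_tmul]
    calc _ = p ⊗ₜ[k] (TensorProduct.lid k A ((Coalgebra.counit (R := k) (A := A)).rTensor A
          (Coalgebra.comul (R := k) a))) := by
          generalize Coalgebra.comul (R := k) a = t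
          induction t using TensorProduct.induction_on with
          | zero => simp
          | add p q hp hq => simp only [TensorProduct.tmul_add, map_add, hp, hq]
          | tmul b c => simp [TensorProduct.smul_tmul]
      _ = p ⊗ₜ a := by rw [Coalgebra.rTensor_counit_comul]; simp

theorem range_tmul_one_eq_fixedPts_ind :
    Function.Injective ((Hoch.Ind.equiv k A P).toLinearMap ∘ₗ (TensorProduct.mk k P A).flip (1 : A)) ∧
    LinearMap.range ((Hoch.Ind.equiv k A P).toLinearMap ∘ₗ (TensorProduct.mk k P A).flip (1 : A)) =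
      fixedPts k A (Hoch.Ind k A P) := by
  refine ⟨fun p q h => ?_, le_antisymm ?_ fun x hx => ?_⟩
  · have := congrArg (Hoch.Ind.counit k A P) h
    simpa using this
  · rintro _ ⟨p, rfl⟩
    change Hoch.Ind.coactAux k A P (p ⊗ₜ (1 : A)) = (p ⊗ₜ (1 : A)) ⊗ₜ (1 : A)
    simp [Algebra.TensorProduct.one_def]
  · refine ⟨Hoch.Ind.counit k A P x, ?_⟩
    have h : Hoch.Ind.coactAux k A P ((Hoch.Ind.equiv k A P).symm x) =
        (Hoch.Ind.equiv k A P).symm x ⊗ₜ (1 : A) := hx
    have h2 := counit_rTensor_coactAux ((Hoch.Ind.equiv k A P).symm x)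
    rw [h] at h2
    simpa using congrArg (Hoch.Ind.equiv k A P) h2

end Ind

section IndComplex

variable (k A) (P : Type v) [AddCommGroup P] [Module k P]

/-- The contraction of the complex of an induced comodule. -/
noncomputable def indHtpy : (n : ℕ) →
    ((Hoch.cochain k A (Hoch.Ind k A P) (n + 1) : Type v) →ₗ[k] (Hoch.cochain k A (Hoch.Ind k A P) n : Type v))
  | 0 => (Hoch.Ind.equiv k A P).toLinearMap ∘ₗ (Hoch.Ind.counit k A P).rTensor A
  | n + 1 => (indHtpy n).rTensor A

theorem indHtpy_spec (n : ℕ) :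
    indHtpy k A P (n + 1) ∘ₗ Hoch.d k A (Hoch.Ind k A P) (n + 1) +
      Hoch.d k A (Hoch.Ind k A P) n ∘ₗ indHtpy k A P n = LinearMap.id := by
  induction n with
  | zero =>
    let e := Hoch.Ind.equiv k A P
    let d0 : Hoch.Ind k A P →ₗ[k] Hoch.Ind k A P ⊗[k] A := Hoch.d k A (Hoch.Ind k A P) 0
    let h0 : Hoch.Ind k A P ⊗[k] A →ₗ[k] Hoch.Ind k A P :=
      e.toLinearMap ∘ₗ (Hoch.Ind.counit k A P).rTensor A
    change h0.rTensor A ∘ₗ (d0.rTensor A + ((-1 : k) ^ (0 + 1)) • Hoch.tail k A (Hoch.Ind k A P)) +
      d0 ∘ₗ h0 = LinearMap.id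
    have hd : ∀ z : P ⊗[k] A, d0 (e z) =
        e.toLinearMap.rTensor A (Hoch.Ind.coactAux k A P z) - e z ⊗ₜ (1 : A) := by
      intro z
      change Hoch.Ind.coactAux k A P z - z ⊗ₜ (1 : A) = _
      congr 1
      exact (LinearMap.rTensor_id_apply A (P ⊗[k] A) _).symm
    have hh : ∀ z : P ⊗[k] A, h0 (d0 (e z)) =
        e z - e (Hoch.Ind.counit k A P (e z) ⊗ₜ (1 : A)) := by
      intro z
      rw [hd, map_sub]
      congr 1
      change e ((Hoch.Ind.counit k A P).rTensor A (e.toLinearMap.rTensor A (Hoch.Ind.coactAux k A P z))) = e z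
      rw [← LinearMap.rTensor_comp_apply, counit_rTensor_coactAux]
    refine LinearMap.ext fun x => ?_
    induction x using TensorProduct.induction_on with
    | zero => simp
    | add p q hp hq => simp only [map_add, LinearMap.id_coe, id_eq] at hp hq ⊢; rw [hp, hq]
    | tmul z b =>
      obtain ⟨z, rfl⟩ := e.surjective z
      set p := Hoch.Ind.counit k A P (e z) with hp
      have hz : h0 (e z ⊗ₜ b) = e (p ⊗ₜ b) := rfl
      simp only [LinearMap.add_apply, LinearMap.comp_apply, LinearMap.smul_apply, map_add, map_smul,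
        LinearMap.rTensor_tmul, Hoch.tail_tmul, LinearMap.id_coe, id_eq, hh, hz,
        zero_add, pow_one, neg_smul, one_smul, TensorProduct.sub_tmul]
      simp only [hd, Hoch.Ind.coactAux_tmul, TensorProduct.sub_tmul, map_neg]
      rw [TensorProduct.tmul_sub, TensorProduct.tmul_sub, map_sub, map_sub, map_sub, map_sub,
        TensorProduct.assoc_symm_tmul, TensorProduct.assoc_symm_tmul, LinearMap.rTensor_tmul,
        LinearMap.rTensor_tmul]
      have h5 : ∀ t : A ⊗[k] A,
          h0.rTensor A ((TensorProduct.assoc k (Hoch.Ind k A P) A A).symm (e z ⊗ₜ t)) =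
            e.toLinearMap.rTensor A ((TensorProduct.assoc k P A A).symm (p ⊗ₜ t)) := by
        intro t
        induction t using TensorProduct.induction_on with
        | zero => simp
        | add p q hp hq => simp only [TensorProduct.tmul_add, map_add, hp, hq]
        | tmul c d => simp [h0, p]
      rw [show Coalgebra.comul (R := k) b = CoalgebraStruct.comul (R := k) b from rfl, h5]
      have h6 : ∀ c : A, h0 (e z ⊗ₜ c) = e (p ⊗ₜ c) := fun c => rfl
      rw [h6, h6]
      abel
  | succ n ih =>
    have e1 : indHtpy k A P (n + 2) ∘ₗ (Hoch.d k A (Hoch.Ind k A P) (n + 1)).rTensor A +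
        (Hoch.d k A (Hoch.Ind k A P) n).rTensor A ∘ₗ indHtpy k A P (n + 1) = LinearMap.id := by
      change (indHtpy k A P (n + 1)).rTensor A ∘ₗ _ + _ ∘ₗ (indHtpy k A P n).rTensor A = _
      rw [← LinearMap.rTensor_comp, ← LinearMap.rTensor_comp, ← LinearMap.rTensor_add, ih,
        LinearMap.rTensor_id]
    change indHtpy k A P (n + 2) ∘ₗ ((Hoch.d k A (Hoch.Ind k A P) (n + 1)).rTensor A +
        ((-1 : k) ^ (n + 2)) • Hoch.tail k A _) +
      ((Hoch.d k A (Hoch.Ind k A P) n).rTensor A + ((-1 : k) ^ (n + 1)) • Hoch.tail k A _) ∘ₗ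
        indHtpy k A P (n + 1) = _
    have e2 : indHtpy k A P (n + 2) ∘ₗ Hoch.tail k A (Hoch.cochain k A (Hoch.Ind k A P) (n + 1)) =
        Hoch.tail k A (Hoch.cochain k A (Hoch.Ind k A P) n) ∘ₗ indHtpy k A P (n + 1) :=
      LinearMap.ext fun x => (tail_natural (indHtpy k A P n) x).symm
    rw [LinearMap.comp_add, LinearMap.add_comp, LinearMap.comp_smul, LinearMap.smul_comp, e2,
      pow_succ _ (n + 1)]
    rw [← e1]
    simp only [mul_neg, mul_one, neg_smul]
    abel

theorem cocycles_ind_le_coboundaries (n : ℕ) :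
    Hoch.cocycles k A (Hoch.Ind k A P) (n + 1) ≤ Hoch.coboundaries k A (Hoch.Ind k A P) (n + 1) := by
  intro x hx
  refine ⟨indHtpy k A P n x, ?_⟩
  have h := LinearMap.congr_fun (indHtpy_spec k A P n) x
  have hx' : Hoch.d k A (Hoch.Ind k A P) (n + 1) x = 0 := hx
  simpa [hx'] using h

end IndComplex

end Groth.Agent.HopfLib
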