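import Groth.Agent.HopfLib.ComodIsotypic

/-!
# Change of coalgebra, subcoalgebras and cosemisimplicity
-/

open TensorProduct HopfRep WithConv
open scoped Groth.Agent.HopfLib

universe u v v' w w' x

namespace Groth.Agent.HopfLib

set_option linter.unusedSectionVars false
set_option maxHeartbeats 400000

variable {k : Type u} [Field k] {C : Type v} [AddCommGroup C] [Module k C] [Coalgebra k C]
  {D : Type v'} [AddCommGroup D] [Module k D] [Coalgebra k D]
  {V : Type w} [AddCommGroup V] [Module k V]
  {W : Type w'} [AddCommGroup W] [Module k W]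

theorem formMul_comp (i : C →ₗc[k] D) (g h : D →ₗ[k] k) (x : C) :
    formMul g h (i x) = formMul (g ∘ₗ i.toLinearMap) (h ∘ₗ i.toLinearMap) x := by
  simp only [formMul, LinearMap.comp_apply]
  rw [← CoalgHomClass.map_comp_comul_apply i x]
  generalize CoalgebraStruct.comul (R := k) x = t
  induction t using TensorProduct.induction_on with
  | zero => simp
  | add p q hp hq => simp only [map_add, hp, hq]
  | tmul a b => simp

/-- The comodule along a morphism of coalgebras. -/
@[reducible] noncomputable def comodMap (i : C →ₗc[k] D) (c : Comod k C V) : Comod k D V :=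
  comodOfHit (i.toLinearMap.lTensor V ∘ₗ c.coact)
    (fun v => by
      have h1 : sliceR (CoalgebraStruct.counit (R := k) (A := D))
          (i.toLinearMap.lTensor V (c.coact v)) =
          sliceR (CoalgebraStruct.counit (R := k) (A := C)) (c.coact v) := by
        generalize c.coact v = t
        induction t using TensorProduct.induction_on with
        | zero => simp
        | add p q hp hq => simp only [map_add, hp, hq]
        | tmul a b => simp [CoalgHomClass.counit_comp_apply]
      rw [LinearMap.comp_apply, h1]
      exact hit_counit v)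
    (fun g h v => by
      have h1 : ∀ (g : D →ₗ[k] k) (t : V ⊗[k] C), sliceR g (i.toLinearMap.lTensor V t) =
          sliceR (g ∘ₗ i.toLinearMap) t := by
        intro g t
        induction t using TensorProduct.induction_on with
        | zero => simp
        | add p q hp hq => simp only [map_add, hp, hq]
        | tmul a b => simp
      simp only [LinearMap.comp_apply, h1]
      rw [show formMul g h ∘ₗ i.toLinearMap = formMul (g ∘ₗ i.toLinearMap) (h ∘ₗ i.toLinearMap) from
        LinearMap.ext fun x => formMul_comp i g h x]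
      exact hit_hit _ _ v)

theorem sliceR_lTensor_comp (i : C →ₗ[k] D) (g : D →ₗ[k] k) (t : V ⊗[k] C) :
    sliceR g (i.lTensor V t) = sliceR (g ∘ₗ i) t := by
  induction t using TensorProduct.induction_on with
  | zero => simp
  | add p q hp hq => simp only [map_add, hp, hq]
  | tmul a b => simp

theorem hit_comodMap (i : C →ₗc[k] D) [c : Comod k C V] (g : D →ₗ[k] k) (v : V) :
    @hit k _ D _ _ _ V _ _ (comodMap i c) g v = hit (g ∘ₗ i.toLinearMap) v :=
  sliceR_lTensor_comp i.toLinearMap g (Comod.coact v)

/-- For an injective morphism of coalgebras, compatible structures have the same subcomodules. -/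
theorem isSubcomod_iff_of_injective [Comod k C V] [Comod k D V] (i : C →ₗ[k] D)
    (hi : Function.Injective i) (hcd : i.lTensor V ∘ₗ Comod.coact (k := k) (A := C) =
      Comod.coact (k := k) (A := D) (V := V)) {S : Submodule k V} :
    IsSubcomod (k := k) (A := C) S ↔ IsSubcomod (k := k) (A := D) S := by
  obtain ⟨π, hπ⟩ := i.exists_leftInverse_of_injective (LinearMap.ker_eq_bot.2 hi)
  have key : ∀ (g : D →ₗ[k] k) (v : V), hit g v = hit (g ∘ₗ i) v := fun g v => by
    rw [hit_apply, ← hcd]; exact sliceR_lTensor_comp i g _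
  simp only [isSubcomod_iff_hit]
  refine ⟨fun h g v hv => key g v ▸ h _ v hv, fun h g v hv => ?_⟩
  have := h (g ∘ₗ π) v hv
  rwa [key, LinearMap.comp_assoc, hπ, LinearMap.comp_id] at this

variable [Comod k C V] [Comod k C W]

theorem coeffSpace_le_of_surjective {f : V →ₗ[k] W} (hf : Hoch.IsComodHom C f)
    (hs : Function.Surjective f) : coeffSpace k C W ≤ coeffSpace k C V := by
  refine iSup_le fun φ => ?_
  rintro _ ⟨w, rfl⟩
  obtain ⟨v, rfl⟩ := hs w
  have h1 : cf (A := C) (φ ∘ₗ f) v = cf (A := C) φ (f v) := by
    simp only [cf_apply, IsComodHom.coact_apply hf]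
    generalize Comod.coact (k := k) (A := C) v = t
    induction t using TensorProduct.induction_on with
    | zero => simp
    | add p q hp hq => simp only [map_add, hp, hq]
    | tmul a b => simp
  rw [← h1]
  exact cf_mem_coeffSpace _ _

theorem cf_counit_comp {φ : V →ₗ[k] C} (hφ : Hoch.IsComodHom C φ) (v : V) :
    cf (A := C) (CoalgebraStruct.counit (R := k) ∘ₗ φ) v = φ v := by
  have h := Coalgebra.rTensor_counit_comul (R := k) (φ v)
  have h2 : CoalgebraStruct.comul (R := k) (φ v) = φ.rTensor C (Comod.coact (k := k) (A := C) v) :=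
    IsComodHom.coact_apply hφ v
  rw [h2] at h
  rw [cf_apply]
  calc _ = TensorProduct.lid k C ((CoalgebraStruct.counit (R := k) (A := C)).rTensor C
        (φ.rTensor C (Comod.coact (k := k) (A := C) v))) := by
        generalize Comod.coact (k := k) (A := C) v = t
        induction t using TensorProduct.induction_on with
        | zero => simp
        | add p q hp hq => simp only [map_add, hp, hq]
        | tmul a b => simp
    _ = φ v := by rw [h]; simp

/-- The image of a comodule map into the coalgebra lies in the coefficient space. -/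
theorem range_le_coeffSpace {φ : V →ₗ[k] C} (hφ : Hoch.IsComodHom C φ) :
    LinearMap.range φ ≤ coeffSpace k C V := by
  rintro _ ⟨v, rfl⟩
  rw [← cf_counit_comp hφ v]
  exact cf_mem_coeffSpace _ _

/-- Comodules with coefficient spaces in different simple subcoalgebras admit no nonzero maps. -/
theorem eq_zero_of_coeffSpace_le_simple {D₁ D₂ : Submodule k C} (hne : D₁ ≠ D₂)
    (h₁ : IsSimpleSubcoalg k D₁) (h₂ : IsSimpleSubcoalg k D₂) (hV : coeffSpace k C V ≤ D₁)
    (hW : coeffSpace k C W ≤ D₂) {φ : V →ₗ[k] W} (hφ : Hoch.IsComodHom C φ) : φ = 0 := by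
  by_contra h0
  have hR := isSubcomod_range hφ
  let cR := ComodSub.Comod.restr ‹Comod k C W› (LinearMap.range φ) hR
  have hRi := ComodSub.isComodHom_subtype ‹Comod k C W› (LinearMap.range φ) hR
  have hφ' : Hoch.IsComodHom C φ.rangeRestrict := isComodHom_iff_hit.2 fun g v =>
    Subtype.ext (by
      rw [hit_restr hR]
      exact IsComodHom.hit_apply hφ g v)
  have hle1 : coeffSpace k C (LinearMap.range φ) ≤ D₁ :=
    (coeffSpace_le_of_surjective hφ' φ.surjective_rangeRestrict).trans hV
  have hle2 : coeffSpace k C (LinearMap.range φ) ≤ D₂ :=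
    (coeffSpace_le_of_injective hRi (LinearMap.range φ).injective_subtype).trans hW
  have : Nontrivial (LinearMap.range φ) := Submodule.nontrivial_iff_ne_bot.2
    (fun h => h0 (LinearMap.range_eq_bot.1 h))
  have hne0 : coeffSpace k C (LinearMap.range φ) ≠ ⊥ := coeffSpace_ne_bot
  exact hne (((h₁.2.2 _ hle1 isSubcoalg_coeffSpace).resolve_left hne0).symm.trans
    ((h₂.2.2 _ hle2 isSubcoalg_coeffSpace).resolve_left hne0))

/-- If the regular comodule is semisimple, so is every comodule. -/
theorem isSemisimpleComod_of_regular (h : IsSemisimpleComod k C C) : IsSemisimpleComod k C V := by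
  refine isSemisimpleComod_of_forall_finite fun S hS hfin => ?_
  let cS := ComodSub.Comod.restr ‹Comod k C V› S hS
  have := isSemisimpleComod_iff.1 h
  let b := Module.finBasis k S
  let φ : S →ₗ[FormAlg k C] (Fin (Module.finrank k S) → C) :=
    LinearMap.pi fun i => homFA (cf (A := C) (b.coord i)) (isComodHom_cf _)
  refine isSemisimpleComod_iff.2 (IsSemisimpleModule.of_injective φ ((injective_iff_map_eq_zero φ).2 ?_))
  intro s hs
  refine b.forall_coord_eq_zero_iff.1 fun i => ?_
  have h := congr_fun hs i
  simp only [φ, LinearMap.pi_apply, homFA_apply, Pi.zero_apply] at h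
  rw [← counit_cf (A := C) (b.coord i) s, h, map_zero]

theorem isSemisimpleComod_regular_of_iSup_simpleSubcoalg {ι : Type*} (E : ι → Submodule k C)
    (hE : ∀ i, IsSimpleSubcoalg k (E i)) (htop : iSup E = ⊤) : IsSemisimpleComod k C C := by
  refine isSemisimpleComod_iff_iSup_simple.2 (eq_top_iff.2 ?_)
  rw [← htop]
  refine iSup_le fun i => ?_
  obtain ⟨T, hT, -, hco⟩ := (hE i).exists_coeffSpace_eq
  rw [← hco]
  let cT := ComodSub.Comod.restr (Comod.regular k C) T hT.1
  have hTs : IsSimpleComod k C T := isSimpleComod_restr hT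
  refine iSup_le fun f => ?_
  by_cases hf : f = 0
  · rintro _ ⟨x, rfl⟩
    simp [hf, cf_apply, sliceL]
  refine le_iSup_of_le (⟨LinearMap.range (cf (A := C) f), isSubcomod_range (isComodHom_cf f), ?_, ?_⟩ :
    {S : Submodule k C // IsSimpleSub k C S}) le_rfl
  · have := hTs.1
    intro h
    obtain ⟨x, hx⟩ := exists_ne (0 : T)
    exact hx (cf_injective hTs hf (by rw [map_zero]; exact (Submodule.eq_bot_iff _).1 h _ ⟨x, rfl⟩))
  · intro S' hS' hle
    rcases hTs.2 _ (isSubcomod_comap (isComodHom_cf f) hS') with h | h
    · refine Or.inl ((Submodule.eq_bot_iff _).2 fun y hy => ?_)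
      obtain ⟨x, rfl⟩ := hle hy
      rw [(Submodule.eq_bot_iff _).1 h x hy, map_zero]
    · refine Or.inr (le_antisymm hle ?_)
      rintro _ ⟨x, rfl⟩
      exact h.ge (Submodule.mem_top (x := x))

theorem iSup_simpleSubcoalg_eq_top (h : IsSemisimpleComod k C C) :
    (⨆ D : {D : Submodule k C // IsSimpleSubcoalg k D}, D.1) = ⊤ := by
  rw [eq_top_iff, ← isSemisimpleComod_iff_iSup_simple.1 h]
  refine iSup_le fun S => ?_
  let cS := ComodSub.Comod.restr (Comod.regular k C) S.1 S.2.1
  refine le_iSup_of_le ⟨coeffSpace k C S.1, isSimpleSubcoalg_coeffSpace (isSimpleComod_restr S.2)⟩ ?_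
  conv_lhs => rw [← S.1.range_subtype]
  exact range_le_coeffSpace (ComodSub.isComodHom_subtype (Comod.regular k C) S.1 S.2.1)

end Groth.Agent.HopfLib
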