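import Groth.Agent.HopfLib.Tame
import Groth.Agent.LieSLib.Epi
import Mathlib.AlgebraicGeometry.Cover.Open
import Mathlib.AlgebraicGeometry.Pullbacks
import Mathlib.AlgebraicGeometry.PullbackCarrier
import Mathlib.AlgebraicGeometry.Gluing
import Mathlib.RingTheory.Localization.Away.Basic
import Mathlib.RingTheory.Flat.Basic
import Mathlib.RingTheory.Spectrum.Prime.Topology

/-!
# `Spec B → Spec B^G` is a categorical quotient for tame actions
-/

noncomputable section

universe u

open CategoryTheory CategoryTheory.Limits AlgebraicGeometry TensorProduct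

namespace Groth.Agent.HopfLib.TameCatQuot

open HopfRep Groth.Agent.HopfLib

variable {k : Type u} [CommRing k] {A : Type u} [CommRing A] [HopfAlgebra k A] [Module.Flat k A]
  {B : Type u} [CommRing B] [Algebra k B] [Comod k A B] [GLin.IsCoactAlg k A B]

/-- An invariant closed subset is the zero locus of a stable ideal. -/
theorem exists_stable_ideal (I₀ : Ideal B)
    (hW : ∀ P : PrimeSpectrum (B ⊗[k] A), I₀ ≤ P.asIdeal.comap (Algebra.TensorProduct.includeLeftRingHom : B →+* B ⊗[k] A) →
      I₀ ≤ P.asIdeal.comap (GLin.coactAlgHom k A B).toRingHom) :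
    ∃ I : Ideal B, IsSubcomod (k := k) (A := A) (I.restrictScalars k) ∧ I ≤ I₀ ∧
      PrimeSpectrum.zeroLocus (I : Set B) = PrimeSpectrum.zeroLocus (I₀ : Set B) := by
  let φ : B →ₐ[k] (B ⧸ I₀) ⊗[k] A :=
    (Algebra.TensorProduct.map (Ideal.Quotient.mkₐ k I₀) (AlgHom.id k A)).comp (GLin.coactAlgHom k A B)
  have hφ : φ.toLinearMap = ((Ideal.Quotient.mkₐ k I₀).toLinearMap.rTensor A) ∘ₗ
      (Comod.coact (k := k) (A := A)) := rfl
  have hle : RingHom.ker φ ≤ I₀ := by
    intro b hb
    have h1 : φ.toLinearMap b = 0 := hb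
    rw [hφ, LinearMap.comp_apply] at h1
    have h2 := congrArg ((CoalgebraStruct.counit (R := k) (A := A)).lTensor (B ⧸ I₀)) h1
    rw [map_zero, ← LinearMap.comp_apply (LinearMap.lTensor _ _), LinearMap.lTensor_comp_rTensor,
      ← LinearMap.rTensor_comp_lTensor, LinearMap.comp_apply, ← LinearMap.comp_apply (LinearMap.lTensor _ _),
      Comod.counit_comp] at h2
    have h3 := congrArg (TensorProduct.rid k (B ⧸ I₀)) h2
    simp only [LinearMap.flip_apply, TensorProduct.mk_apply, LinearMap.rTensor_tmul, map_zero,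
      TensorProduct.rid_tmul, one_smul] at h3
    exact Ideal.Quotient.eq_zero_iff_mem.1 h3
  refine ⟨RingHom.ker φ, ?_, hle, ?_⟩
  · intro b hb
    have hker : (φ.toLinearMap.rTensor A) (Comod.coact (k := k) (A := A) b) = 0 := by
      have h1 : (Ideal.Quotient.mkₐ k I₀).toLinearMap.rTensor A (Comod.coact (k := k) (A := A) b) = 0 := hb
      have hco := LinearMap.congr_fun (Comod.coassoc (k := k) (A := A) (V := B)) b
      simp only [LinearMap.comp_apply, LinearEquiv.coe_coe] at hco
      rw [hφ, LinearMap.rTensor_comp, LinearMap.comp_apply]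
      apply (TensorProduct.assoc k (B ⧸ I₀) A A).injective
      have hnat : ∀ z : (B ⊗[k] A) ⊗[k] A,
          TensorProduct.assoc k (B ⧸ I₀) A A (((Ideal.Quotient.mkₐ k I₀).toLinearMap.rTensor A).rTensor A z) =
            (Ideal.Quotient.mkₐ k I₀).toLinearMap.rTensor (A ⊗[k] A) (TensorProduct.assoc k B A A z) := by
        intro z
        induction z using TensorProduct.induction_on with
        | zero => simp
        | add p q hp hq => simp only [map_add, hp, hq]
        | tmul t a =>
          induction t using TensorProduct.induction_on with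
          | zero => simp
          | add p q hp hq => simp only [map_add, add_tmul, hp, hq]
          | tmul b c => simp
      rw [hnat, hco, map_zero, ← LinearMap.comp_apply (LinearMap.rTensor _ _),
        LinearMap.rTensor_comp_lTensor, ← LinearMap.lTensor_comp_rTensor, LinearMap.comp_apply, h1, map_zero]
    exact ((Module.Flat.rTensor_exact A (LinearMap.exact_subtype_ker_map φ.toLinearMap)) _).1 hker
  · refine le_antisymm ?_ (PrimeSpectrum.zeroLocus_anti_mono hle)
    show PrimeSpectrum.zeroLocus (RingHom.ker φ.toRingHom : Set B) ⊆ _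
    rw [← PrimeSpectrum.closure_range_comap]
    refine closure_minimal ?_ (PrimeSpectrum.isClosed_zeroLocus _)
    rintro _ ⟨P, rfl⟩
    let P' : PrimeSpectrum (B ⊗[k] A) :=
      P.comap (Algebra.TensorProduct.map (Ideal.Quotient.mkₐ k I₀) (AlgHom.id k A)).toRingHom
    refine hW P' fun b hb => ?_
    show Algebra.TensorProduct.map (Ideal.Quotient.mkₐ k I₀) (AlgHom.id k A) (b ⊗ₜ[k] (1 : A)) ∈ P.asIdeal
    rw [Algebra.TensorProduct.map_tmul, Ideal.Quotient.mkₐ_eq_mk, Ideal.Quotient.eq_zero_iff_mem.2 hb,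
      zero_tmul]
    exact P.asIdeal.zero_mem

local notation "C" => GLin.invariants k A B

variable (htame : ∃ α : A →ₗ[k] B, Hoch.IsComodHom A α ∧ α 1 = 1)

include htame in
/-- Over every prime of the invariants there is a point that lies in every invariant closed subset
meeting the fibre. -/
theorem exists_central_point (p : Ideal C) [p.IsPrime] :
    ∃ x : PrimeSpectrum B, ∀ I : Ideal B, IsSubcomod (k := k) (A := A) (I.restrictScalars k) →
      I.comap (algebraMap C B) ≤ p → I ≤ x.asIdeal := by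
  classical
  obtain ⟨α, hα, h1⟩ := htame
  let F : Set (Ideal B) :=
    {I | IsSubcomod (k := k) (A := A) (I.restrictScalars k) ∧ I.comap (algebraMap C B) ≤ p}
  have hbot : (⊥ : Ideal B) ∈ F := by
    refine ⟨fun b hb => ?_, fun c hc => ?_⟩
    · rw [show b = 0 from hb, map_zero]; exact zero_mem _
    · have : (c : B) = 0 := hc
      rw [show c = 0 from Subtype.ext this]; exact p.zero_mem
  have hmono : ∀ {I J : Ideal B}, I ≤ J → ∀ {t},
      t ∈ LinearMap.range ((I.restrictScalars k).subtype.rTensor A) →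
      t ∈ LinearMap.range ((J.restrictScalars k).subtype.rTensor A) := by
    rintro I J hIJ t ⟨s, rfl⟩
    refine ⟨(Submodule.inclusion (show I.restrictScalars k ≤ J.restrictScalars k from hIJ)).rTensor A s, ?_⟩
    rw [← LinearMap.comp_apply, ← LinearMap.rTensor_comp]
    rfl
  have hsup : ∀ I ∈ F, ∀ J ∈ F, I ⊔ J ∈ F := by
    rintro I ⟨hI, hIp⟩ J ⟨hJ, hJp⟩
    refine ⟨fun b hb => ?_, fun c hc => ?_⟩
    · obtain ⟨i, hi, j, hj, rfl⟩ := Submodule.mem_sup.1 (show b ∈ I ⊔ J from hb)
      rw [map_add]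
      exact add_mem (hmono le_sup_left (hI i hi)) (hmono le_sup_right (hJ j hj))
    · obtain ⟨i, hi, j, hj, hij⟩ := Submodule.mem_sup.1 (Ideal.mem_comap.1 hc)
      have h := congrArg (tameRey α) hij
      rw [map_add, show algebraMap C B c = (c : B) from rfl, tameRey_of_mem h1 c.2] at h
      rw [show c = (⟨tameRey α i, tameRey_mem hα i⟩ : C) + ⟨tameRey α j, tameRey_mem hα j⟩ from
        Subtype.ext h.symm]
      exact p.add_mem (hIp (tameRey_mem_ideal α hI hi)) (hJp (tameRey_mem_ideal α hJ hj))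
  have hdir : DirectedOn (· ≤ ·) F := fun I hI J hJ => ⟨I ⊔ J, hsup I hI J hJ, le_sup_left, le_sup_right⟩
  have hmem : ∀ b, b ∈ sSup F → ∃ I ∈ F, b ∈ I := fun b hb =>
    (Submodule.mem_sSup_of_directed ⟨⊥, hbot⟩ hdir).1 hb
  have hstar : sSup F ∈ F := by
    refine ⟨fun b hb => ?_, fun c hc => ?_⟩
    · obtain ⟨I, hI, hbI⟩ := hmem b hb
      exact hmono (le_sSup hI) (hI.1 b hbI)
    · obtain ⟨I, hI, hcI⟩ := hmem _ (Ideal.mem_comap.1 hc)
      exact hI.2 hcI
  obtain ⟨q, hq, hle, -⟩ := exists_prime_over_of_le ⟨α, hα, h1⟩ hstar.1 hstar.2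
  exact ⟨⟨q, hq⟩, fun I hI hIp => (le_sSup (show I ∈ F from ⟨hI, hIp⟩)).trans hle⟩

variable {Z : Scheme.{u}} (ψ : Spec (CommRingCat.of B) ⟶ Z)
  (hψ : Spec.map (CommRingCat.ofHom (GLin.coactAlgHom k A B).toRingHom) ≫ ψ =
      Spec.map (CommRingCat.ofHom
        (Algebra.TensorProduct.includeLeftRingHom : B →+* TensorProduct k B A)) ≫ ψ)

include htame hψ in
/-- Each point of the quotient has a basic neighbourhood whose preimage maps into an affine open. -/
theorem exists_nhd (p : PrimeSpectrum C) :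
    ∃ (g : C) (V : Z.Opens), g ∉ p.asIdeal ∧ IsAffineOpen V ∧
      ∀ P : PrimeSpectrum B, (g : B) ∉ P.asIdeal → ψ P ∈ V := by
  obtain ⟨x, hx⟩ := exists_central_point htame p.asIdeal
  obtain ⟨V, hVaff, hxV, -⟩ := exists_isAffineOpen_mem_and_subset (X := Z) (x := ψ x) (U := ⊤) trivial
  let W : Set (PrimeSpectrum B) := (ψ.base ⁻¹' (V : Set Z))ᶜ
  have hWc : IsClosed W := (V.isOpen.preimage ψ.continuous).isClosed_compl
  have hzW : PrimeSpectrum.zeroLocus (PrimeSpectrum.vanishingIdeal W : Set B) = W := by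
    rw [PrimeSpectrum.zeroLocus_vanishingIdeal_eq_closure, hWc.closure_eq]
  obtain ⟨I, hIsub, -, hI⟩ := exists_stable_ideal (k := k) (A := A) (PrimeSpectrum.vanishingIdeal W)
    (fun P hP => by
      have h1 : P.comap (Algebra.TensorProduct.includeLeftRingHom : B →+* B ⊗[k] A) ∈ W := by
        rw [← hzW, PrimeSpectrum.mem_zeroLocus]
        exact fun b hb => hP hb
      have h2 : P.comap (GLin.coactAlgHom k A B).toRingHom ∈ W := by
        intro hmem
        apply h1
        have e : ψ (P.comap (GLin.coactAlgHom k A B).toRingHom) =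
            ψ (P.comap (Algebra.TensorProduct.includeLeftRingHom : B →+* B ⊗[k] A)) :=
          congrArg (fun F : Spec (CommRingCat.of (B ⊗[k] A)) ⟶ Z => F P) hψ
        exact (congrArg (· ∈ (V : Set Z)) e).mp hmem
      rw [← hzW, PrimeSpectrum.mem_zeroLocus] at h2
      exact fun b hb => h2 hb)
  rw [hzW] at hI
  have hnot : ¬ I.comap (algebraMap C B) ≤ p.asIdeal := by
    intro hle
    have : x ∈ W := by
      rw [← hI, PrimeSpectrum.mem_zeroLocus]
      exact fun b hb => hx I hIsub hle hb
    exact this hxV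
  obtain ⟨g, hgI, hgp⟩ := Set.not_subset.1 hnot
  refine ⟨g, V, hgp, hVaff, fun P hP => ?_⟩
  by_contra h
  have hPW : P ∈ W := h
  rw [← hI, PrimeSpectrum.mem_zeroLocus] at hPW
  exact hP (hPW hgI)

/-- the inclusion `C_g → B_g` -/
abbrev awayInc (g : C) : Localization.Away g →+* Localization.Away (algebraMap C B g) :=
  Localization.awayMap (algebraMap C B) g

include hψ in
/-- the factorisation on a basic open -/
theorem exists_desc (g : C) (V : Z.Opens) (hV : IsAffineOpen V)
    (hgV : ∀ P : PrimeSpectrum B, (g : B) ∉ P.asIdeal → ψ P ∈ V) :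
    ∃ χ : Spec (CommRingCat.of (Localization.Away g)) ⟶ Z,
      Spec.map (CommRingCat.ofHom (awayInc g)) ≫ χ =
        Spec.map (CommRingCat.ofHom (algebraMap B (Localization.Away (algebraMap C B g)))) ≫ ψ := by
  classical
  let ιB := Spec.map (CommRingCat.ofHom (algebraMap B (Localization.Away (algebraMap C B g))))
  have hrange : Set.range (ιB ≫ ψ) ⊆ Set.range hV.fromSpec := by
    rw [hV.range_fromSpec]
    rintro _ ⟨Q, rfl⟩
    exact hgV _ fun h => Q.isPrime.ne_top (Q.asIdeal.eq_top_of_isUnit_mem h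
      (IsLocalization.Away.algebraMap_isUnit (algebraMap C B g)))
  let l := IsOpenImmersion.lift hV.fromSpec (ιB ≫ ψ) hrange
  obtain ⟨φ, hφ⟩ : ∃ φ : Γ(Z, V) ⟶ CommRingCat.of (Localization.Away (algebraMap C B g)), Spec.map φ = l :=
    ⟨Spec.preimage l, Spec.map_preimage l⟩
  have hl : Spec.map φ ≫ hV.fromSpec = ιB ≫ ψ := by rw [hφ]; exact IsOpenImmersion.lift_fac _ _ _
  -- invariance
  let G : B ⊗[k] A := algebraMap C B g ⊗ₜ[k] 1
  have hG : GLin.coactAlgHom k A B (algebraMap C B g) = G := g.2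
  let ρg : Localization.Away (algebraMap C B g) →+* Localization.Away G :=
    IsLocalization.Away.lift (algebraMap C B g)
      (g := (algebraMap (B ⊗[k] A) (Localization.Away G)).comp (GLin.coactAlgHom k A B).toRingHom)
      (by
        rw [RingHom.comp_apply, show (GLin.coactAlgHom k A B).toRingHom (algebraMap C B g) = G from hG]
        exact IsLocalization.Away.algebraMap_isUnit G)
  let πg : Localization.Away (algebraMap C B g) →+* Localization.Away G :=
    IsLocalization.Away.lift (algebraMap C B g)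
      (g := (algebraMap (B ⊗[k] A) (Localization.Away G)).comp
        (Algebra.TensorProduct.includeLeftRingHom : B →+* B ⊗[k] A))
      (IsLocalization.Away.algebraMap_isUnit G)
  have hρ : ρg.comp (algebraMap B _) =
      (algebraMap (B ⊗[k] A) (Localization.Away G)).comp (GLin.coactAlgHom k A B).toRingHom :=
    IsLocalization.Away.lift_comp _ _
  have hπ : πg.comp (algebraMap B _) = (algebraMap (B ⊗[k] A) (Localization.Away G)).comp
      (Algebra.TensorProduct.includeLeftRingHom : B →+* B ⊗[k] A) :=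
    IsLocalization.Away.lift_comp _ _
  have hinv : φ ≫ CommRingCat.ofHom ρg = φ ≫ CommRingCat.ofHom πg := by
    apply Spec.map_injective
    rw [← cancel_mono hV.fromSpec, Spec.map_comp, Spec.map_comp, Category.assoc, Category.assoc, hl]
    simp only [ιB, ← Category.assoc, ← Spec.map_comp, ← CommRingCat.ofHom_comp, hρ, hπ]
    simp only [CommRingCat.ofHom_comp, Spec.map_comp, Category.assoc, hψ]
  have hinj : Function.Injective (awayInc g) := by
    refine (injective_iff_map_eq_zero _).2 fun z hz => ?_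
    obtain ⟨⟨a, s⟩, hs⟩ := IsLocalization.surj (Submonoid.powers g) z
    have h0 := congrArg (awayInc g) hs
    rw [map_mul, hz, zero_mul] at h0
    simp only [awayInc, Localization.awayMap, IsLocalization.Away.map, IsLocalization.map_eq] at h0
    obtain ⟨⟨_, n, rfl⟩, hn⟩ := (IsLocalization.map_eq_zero_iff (Submonoid.powers (algebraMap C B g))
      (Localization.Away (algebraMap C B g)) _).1 h0.symm
    have hn' : g ^ n * a = 0 := Subtype.ext hn
    have hsu : IsUnit (algebraMap C (Localization.Away g) s) := IsLocalization.map_units _ s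
    refine hsu.mul_left_eq_zero.1 (hs.trans ?_)
    exact (IsLocalization.map_eq_zero_iff (Submonoid.powers g) _ _).2 ⟨⟨_, n, rfl⟩, hn'⟩
  have hmem : ∀ x, φ.hom x ∈ (awayInc g).range := by
    intro x
    obtain ⟨⟨b, ⟨_, n, rfl⟩⟩, hb⟩ := IsLocalization.surj (Submonoid.powers (algebraMap C B g)) (φ.hom x)
    have hx : ρg (φ.hom x) = πg (φ.hom x) := congrArg (fun f => f.hom x) hinv
    have h1 := congrArg ρg hb
    have h2 := congrArg πg hb
    simp only [map_mul, hx] at h1 h2
    have hρ' : ∀ y, ρg (algebraMap B _ y) =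
        algebraMap (B ⊗[k] A) (Localization.Away G) ((GLin.coactAlgHom k A B).toRingHom y) :=
      fun y => RingHom.congr_fun hρ y
    have hπ' : ∀ y, πg (algebraMap B _ y) = algebraMap (B ⊗[k] A) (Localization.Away G)
        ((Algebra.TensorProduct.includeLeftRingHom : B →+* B ⊗[k] A) y) :=
      fun y => RingHom.congr_fun hπ y
    simp only [hρ'] at h1
    simp only [hπ'] at h2
    have hpow : (GLin.coactAlgHom k A B).toRingHom (algebraMap C B g ^ n) =
        (Algebra.TensorProduct.includeLeftRingHom : B →+* B ⊗[k] A) (algebraMap C B g ^ n) :=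
      (g ^ n).2
    simp only [RingHom.comp_apply, hpow] at h1 h2
    obtain ⟨⟨_, m, rfl⟩, hm⟩ := IsLocalization.exists_of_eq (M := Submonoid.powers G) (h1.symm.trans h2)
    have hc : algebraMap C B g ^ m * b ∈ C := by
      rw [GLin.mem_invariants_iff, GLin.IsCoactAlg.coact_mul]
      have hpm : Comod.coact (k := k) (A := A) (algebraMap C B g ^ m) = G ^ m := by
        rw [show Comod.coact (k := k) (A := A) (algebraMap C B g ^ m) =
          GLin.coactAlgHom k A B (algebraMap C B g ^ m) from rfl, map_pow, hG]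
      rw [hpm]
      refine hm.trans ?_
      simp [G, Algebra.TensorProduct.tmul_pow]
    refine ⟨IsLocalization.mk' (Localization.Away g) (⟨_, hc⟩ : C) (⟨g ^ (m + n), m + n, rfl⟩ : Submonoid.powers g), ?_⟩
    rw [awayInc, Localization.awayMap, IsLocalization.Away.map, IsLocalization.map_mk',
      IsLocalization.mk'_eq_iff_eq_mul]
    simp only [map_pow, pow_add, map_mul]
    change _ = φ.hom x * (_ * _)
    have hval : algebraMap C B (⟨algebraMap C B g ^ m * b, hc⟩ : C) = algebraMap C B g ^ m * b := rfl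
    rw [hval, map_mul, ← hb, map_pow, map_pow]
    ring
  let e := RingEquiv.ofBijective (awayInc g).rangeRestrict
    ⟨fun a b h => hinj (congrArg Subtype.val h), (awayInc g).rangeRestrict_surjective⟩
  let φ' : Γ(Z, V) →+* Localization.Away g := e.symm.toRingHom.comp (φ.hom.codRestrict _ hmem)
  refine ⟨Spec.map (CommRingCat.ofHom φ') ≫ hV.fromSpec, ?_⟩
  rw [← Category.assoc, ← Spec.map_comp, ← CommRingCat.ofHom_comp]
  have hcomp : (awayInc g).comp φ' = φ.hom := RingHom.ext fun x =>
    congrArg Subtype.val (e.apply_symm_apply ⟨φ.hom x, hmem x⟩)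
  rw [hcomp, CommRingCat.ofHom_hom]
  exact hl

omit [Module.Flat k A] in
theorem compat_of_key {C₀ B₀ : Type u} [CommRing C₀] [CommRing B₀] [Algebra C₀ B₀]
    (hinj : Function.Injective (algebraMap C₀ B₀))
    (hsurj : Function.Surjective (PrimeSpectrum.comap (algebraMap C₀ B₀)))
    {Z : Scheme.{u}} (ψ : Spec (CommRingCat.of B₀) ⟶ Z)
    (Ci Cj : Type u) [CommRing Ci] [CommRing Cj] [Algebra C₀ Ci] [Algebra C₀ Cj]
    [Module.Flat C₀ Ci] [Module.Flat C₀ Cj]
    (χi : Spec (CommRingCat.of Ci) ⟶ Z) (χj : Spec (CommRingCat.of Cj) ⟶ Z)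
    (hi : ∀ (T : Scheme.{u}) (u : T ⟶ Spec (CommRingCat.of B₀)) (v : T ⟶ Spec (CommRingCat.of Ci)),
      v ≫ Spec.map (CommRingCat.ofHom (algebraMap C₀ Ci)) =
        u ≫ Spec.map (CommRingCat.ofHom (algebraMap C₀ B₀)) → v ≫ χi = u ≫ ψ)
    (hj : ∀ (T : Scheme.{u}) (u : T ⟶ Spec (CommRingCat.of B₀)) (v : T ⟶ Spec (CommRingCat.of Cj)),
      v ≫ Spec.map (CommRingCat.ofHom (algebraMap C₀ Cj)) =
        u ≫ Spec.map (CommRingCat.ofHom (algebraMap C₀ B₀)) → v ≫ χj = u ≫ ψ) :
    pullback.fst (Spec.map (CommRingCat.ofHom (algebraMap C₀ Ci)))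
      (Spec.map (CommRingCat.ofHom (algebraMap C₀ Cj))) ≫ χi = pullback.snd _ _ ≫ χj := by
  rw [← cancel_epi (pullbackSpecIso C₀ Ci Cj).inv, pullbackSpecIso_inv_fst_assoc,
    pullbackSpecIso_inv_snd_assoc]
  let D := Ci ⊗[C₀] Cj
  have : Surjective (Spec.map (CommRingCat.ofHom (algebraMap C₀ B₀))) := ⟨hsurj⟩
  have h1 : Surjective (pullback.fst (Spec.map (CommRingCat.ofHom (algebraMap C₀ D)))
      (Spec.map (CommRingCat.ofHom (algebraMap C₀ B₀)))) :=
    inferInstance
  have hsurjD : Surjective (Spec.map (CommRingCat.ofHom (algebraMap D (D ⊗[C₀] B₀)))) := by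
    rw [show (algebraMap D (D ⊗[C₀] B₀)) = Algebra.TensorProduct.includeLeftRingHom from rfl,
      ← pullbackSpecIso_inv_fst C₀ D B₀]
    infer_instance
  refine LieSLib.hom_eq_of_injective (algebraMap D (D ⊗[C₀] B₀))
    (Algebra.TensorProduct.includeLeft_injective (S := C₀) hinj) hsurjD.1 ?_
  simp only [← Category.assoc, ← Spec.map_comp, ← CommRingCat.ofHom_comp]
  let u : Spec (CommRingCat.of (D ⊗[C₀] B₀)) ⟶ Spec (CommRingCat.of B₀) :=
    Spec.map (CommRingCat.ofHom (Algebra.TensorProduct.includeRight : B₀ →ₐ[C₀] D ⊗[C₀] B₀).toRingHom)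
  rw [hi _ u _ ?_, hj _ u _ ?_]
  · simp only [u, ← Spec.map_comp, ← CommRingCat.ofHom_comp]
    congr 2
    refine RingHom.ext fun c => ?_
    change algebraMap D (D ⊗[C₀] B₀) _ =
      (Algebra.TensorProduct.includeRight : B₀ →ₐ[C₀] D ⊗[C₀] B₀) (algebraMap C₀ B₀ c)
    rw [AlgHom.commutes, IsScalarTower.algebraMap_apply C₀ D (D ⊗[C₀] B₀)]
    congr 1
    exact (Algebra.TensorProduct.includeRight : Cj →ₐ[C₀] D).commutes c
  · simp only [u, ← Spec.map_comp, ← CommRingCat.ofHom_comp]
    congr 2
    refine RingHom.ext fun c => ?_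
    change algebraMap D (D ⊗[C₀] B₀) _ =
      (Algebra.TensorProduct.includeRight : B₀ →ₐ[C₀] D ⊗[C₀] B₀) (algebraMap C₀ B₀ c)
    rw [AlgHom.commutes, IsScalarTower.algebraMap_apply C₀ D (D ⊗[C₀] B₀)]
    congr 1

include htame hψ in
theorem existsUnique_desc :
    ∃! χ : Spec (CommRingCat.of C) ⟶ Z, Spec.map (CommRingCat.ofHom (algebraMap C B)) ≫ χ = ψ := by
  classical
  have hinjC : Function.Injective (algebraMap C B) := Subtype.val_injective
  have hsurj : Function.Surjective (PrimeSpectrum.comap (algebraMap C B)) := fun p => by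
    obtain ⟨q, hq, hqp⟩ := (Ideal.comap_map_eq_self_iff_of_isPrime p.asIdeal).1
      (comap_map_invariants htame p.asIdeal)
    exact ⟨⟨q, hq⟩, PrimeSpectrum.ext hqp⟩
  have : Surjective (Spec.map (CommRingCat.ofHom (algebraMap C B))) := ⟨hsurj⟩
  choose g V hg hV hgV using exists_nhd (k := k) (A := A) htame ψ hψ
  choose χ hχ using fun p => exists_desc ψ hψ (g p) (V p) (hV p) (hgV p)
  have hspan : Ideal.span (Set.range g) = ⊤ := by
    by_contra h
    obtain ⟨M, hM, hle⟩ := Ideal.exists_le_maximal _ h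
    exact hg ⟨M, hM.isPrime⟩ (hle (Ideal.subset_span ⟨_, rfl⟩))
  let 𝒰 := (Scheme.affineOpenCoverOfSpanRangeEqTop (R := CommRingCat.of C) g hspan).openCover
  -- a test object over the pieces
  have key : ∀ (p : PrimeSpectrum C) (T : Scheme.{u}) (u : T ⟶ Spec (CommRingCat.of B))
      (v : T ⟶ Spec (CommRingCat.of (Localization.Away (g p)))),
      v ≫ Spec.map (CommRingCat.ofHom (algebraMap C (Localization.Away (g p)))) =
        u ≫ Spec.map (CommRingCat.ofHom (algebraMap C B)) → v ≫ χ p = u ≫ ψ := by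
    intro p T u v huv
    let ιB := Spec.map (CommRingCat.ofHom (algebraMap B (Localization.Away (algebraMap C B (g p)))))
    have : IsOpenImmersion ιB := IsOpenImmersion.of_isLocalization (algebraMap C B (g p))
    have hr : Set.range u ⊆ Set.range ιB := by
      rintro _ ⟨t, rfl⟩
      show u t ∈ Set.range (PrimeSpectrum.comap (algebraMap B (Localization.Away (algebraMap C B (g p)))))
      rw [PrimeSpectrum.localization_away_comap_range (Localization.Away (algebraMap C B (g p))) (algebraMap C B (g p))]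
      have h1 : PrimeSpectrum.comap (algebraMap C B) (u t) =
          PrimeSpectrum.comap (algebraMap C (Localization.Away (g p))) (v t) :=
        (congrArg (fun F : T ⟶ Spec (CommRingCat.of C) => F t) huv).symm
      have h2 : g p ∉ (PrimeSpectrum.comap (algebraMap C (Localization.Away (g p))) (v t)).asIdeal :=
        fun h => (v t).isPrime.ne_top ((v t).asIdeal.eq_top_of_isUnit_mem h
          (IsLocalization.Away.algebraMap_isUnit (g p)))
      rw [← h1] at h2
      exact h2
    let u' := IsOpenImmersion.lift ιB u hr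
    have hu' : u' ≫ ιB = u := IsOpenImmersion.lift_fac _ _ _
    have : IsOpenImmersion (Spec.map (CommRingCat.ofHom (algebraMap C (Localization.Away (g p))))) :=
      IsOpenImmersion.of_isLocalization (g p)
    have hsq : Spec.map (CommRingCat.ofHom (awayInc (g p))) ≫
        Spec.map (CommRingCat.ofHom (algebraMap C (Localization.Away (g p)))) =
        ιB ≫ Spec.map (CommRingCat.ofHom (algebraMap C B)) := by
      simp only [ιB, ← Spec.map_comp, ← CommRingCat.ofHom_comp]
      congr 2
      refine RingHom.ext fun a => ?_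
      rw [RingHom.comp_apply, RingHom.comp_apply]
      exact IsLocalization.map_eq _ a
    have hv : v = u' ≫ Spec.map (CommRingCat.ofHom (awayInc (g p))) := by
      rw [← cancel_mono (Spec.map (CommRingCat.ofHom (algebraMap C (Localization.Away (g p))))),
        Category.assoc, hsq, ← Category.assoc, hu', huv]
    rw [hv, Category.assoc, hχ, ← Category.assoc, hu']
  -- uniqueness
  have huniq : ∀ a b : Spec (CommRingCat.of C) ⟶ Z,
      Spec.map (CommRingCat.ofHom (algebraMap C B)) ≫ a = Spec.map (CommRingCat.ofHom (algebraMap C B)) ≫ b →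
      a = b := fun a b h => LieSLib.hom_eq_of_injective (algebraMap C B) hinjC hsurj h
  have hcompat : ∀ i j, pullback.fst (𝒰.f i) (𝒰.f j) ≫ χ i = pullback.snd (𝒰.f i) (𝒰.f j) ≫ χ j := by
    intro i j
    change pullback.fst (Spec.map (CommRingCat.ofHom (algebraMap C (Localization.Away (g i)))))
      (Spec.map (CommRingCat.ofHom (algebraMap C (Localization.Away (g j))))) ≫ χ i = pullback.snd _ _ ≫ χ j
    exact compat_of_key hinjC hsurj ψ _ _ (χ i) (χ j) (key i) (key j)
  let χ₀ := 𝒰.glueMorphisms χ hcompat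
  refine ⟨χ₀, ?_, fun a ha => huniq _ _ (ha.trans ?_)⟩
  all_goals
    let q := Spec.map (CommRingCat.ofHom (algebraMap C B))
    have hfac : q ≫ χ₀ = ψ := by
      refine Scheme.Cover.hom_ext (𝒰.pullback₁ q) _ _ fun i => ?_
      show pullback.fst q (𝒰.f i) ≫ q ≫ χ₀ = pullback.fst q (𝒰.f i) ≫ ψ
      rw [← Category.assoc, pullback.condition, Category.assoc]
      erw [Scheme.Cover.ι_glueMorphisms 𝒰 χ hcompat i]
      exact key i _ _ _ pullback.condition.symm
  · exact hfac
  · exact hfac.symm

end Groth.Agent.HopfLib.TameCatQuot
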