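import Groth.Agent.HopfLib.GITPoints
import Mathlib.RingTheory.MvPolynomial.Homogeneous

/-!
# Linear actions on polynomial rings
-/

open TensorProduct HopfRep MvPolynomial

universe u v w

namespace Groth.Agent.HopfLib

set_option linter.unusedSectionVars false
set_option maxHeartbeats 400000

variable {k : Type u} [CommRing k] {A : Type v} [CommRing A] [Bialgebra k A]
  {ι : Type w} [Fintype ι] [Comod k A (MvPolynomial ι k)] [GLin.IsCoactAlg k A (MvPolynomial ι k)]

/-- Tensors with first factor homogeneous of degree `d`. -/
noncomputable def homTensor (k : Type u) [CommRing k] (A : Type v) [CommRing A] [Algebra k A] (ι : Type w)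
    (d : ℕ) : Submodule k (MvPolynomial ι k ⊗[k] A) :=
  LinearMap.range ((homogeneousSubmodule ι k d).subtype.rTensor A)

theorem mul_mem_homTensor {a b : ℕ} {s t : MvPolynomial ι k ⊗[k] A} (hs : s ∈ homTensor k A ι a)
    (ht : t ∈ homTensor k A ι b) : s * t ∈ homTensor k A ι (a + b) := by
  obtain ⟨s, rfl⟩ := hs
  obtain ⟨t, rfl⟩ := ht
  induction s using TensorProduct.induction_on with
  | zero => simp
  | add p q hp hq => rw [map_add, add_mul]; exact add_mem hp hq
  | tmul x u =>
    induction t using TensorProduct.induction_on with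
    | zero => simp
    | add p q hp hq => rw [map_add, mul_add]; exact add_mem hp hq
    | tmul y v =>
      refine ⟨(⟨(x : MvPolynomial ι k) * y, MvPolynomial.IsHomogeneous.mul x.2 y.2⟩ :
        homogeneousSubmodule ι k (a + b)) ⊗ₜ (u * v), ?_⟩
      simp

theorem coact_mem_homTensor (hlin : GLin.IsLinear k A ι) {d : ℕ} {F : MvPolynomial ι k}
    (hF : F.IsHomogeneous d) : Comod.coact (k := k) (A := A) F ∈ homTensor k A ι d := by
  classical
  have hone : Comod.coact (k := k) (A := A) (1 : MvPolynomial ι k) ∈ homTensor k A ι 0 :=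
    ⟨(⟨1, isHomogeneous_one ι k⟩ : homogeneousSubmodule ι k 0) ⊗ₜ 1, by
      simp [GLin.IsCoactAlg.coact_one (k := k) (A := A) (R := MvPolynomial ι k),
        Algebra.TensorProduct.one_def]⟩
  have hX : ∀ i, Comod.coact (k := k) (A := A) (X i : MvPolynomial ι k) ∈ homTensor k A ι 1 := by
    intro i
    obtain ⟨m, hm⟩ := hlin i
    rw [hm]
    exact Submodule.sum_mem _ fun j _ =>
      ⟨(⟨X j, isHomogeneous_X k j⟩ : homogeneousSubmodule ι k 1) ⊗ₜ m j, by simp⟩
  have hmon : ∀ (s : ι →₀ ℕ) (c : k), Comod.coact (k := k) (A := A) (monomial s c) ∈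
      homTensor k A ι s.degree := by
    intro s c
    induction s using Finsupp.induction₂ with
    | zero =>
      rw [map_zero, show monomial (0 : ι →₀ ℕ) c = c • (1 : MvPolynomial ι k) by
        rw [← C_apply, Algebra.smul_def, mul_one]; rfl, map_smul]
      exact Submodule.smul_mem _ _ hone
    | add_single a n s _ _ ih =>
      have hp : ∀ m : ℕ, Comod.coact (k := k) (A := A) ((X a : MvPolynomial ι k) ^ m) ∈
          homTensor k A ι m := by
        intro m
        induction m with
        | zero => simpa using hone
        | succ m ihm =>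
          rw [pow_succ, GLin.IsCoactAlg.coact_mul]
          exact mul_mem_homTensor ihm (hX a)
      rw [monomial_add_single, GLin.IsCoactAlg.coact_mul, map_add, Finsupp.degree_single]
      exact mul_mem_homTensor ih (hp n)
  rw [F.as_sum, map_sum]
  refine Submodule.sum_mem _ fun s hs => ?_
  have := hmon s (coeff s F)
  have hd : Finsupp.degree s = d := by
    rw [Finsupp.degree_eq_weight_one]
    exact hF (mem_support_iff.1 hs)
  rwa [hd] at this

theorem rTensor_homogeneousComponent_coact (hlin : GLin.IsLinear k A ι) (d : ℕ) (F : MvPolynomial ι k) :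
    (homogeneousComponent d).rTensor A (Comod.coact (k := k) (A := A) F) =
      Comod.coact (k := k) (A := A) (homogeneousComponent d F) := by
  classical
  conv_lhs => rw [← sum_homogeneousComponent F]
  conv_rhs => rw [← sum_homogeneousComponent F]
  simp only [map_sum]
  refine Finset.sum_congr rfl fun e _ => ?_
  have hh := homogeneousComponent_isHomogeneous (R := k) e F
  generalize homogeneousComponent e F = G at hh ⊢
  obtain ⟨t, ht⟩ := coact_mem_homTensor hlin hh
  rw [homogeneousComponent_of_mem (show G ∈ homogeneousSubmodule ι k e from hh), ← ht]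
  by_cases hde : d = e
  · subst hde
    rw [if_pos rfl, ← ht, ← LinearMap.comp_apply, ← LinearMap.rTensor_comp]
    congr 1
    congr 1
    refine LinearMap.ext fun x => ?_
    rw [LinearMap.comp_apply, Submodule.subtype_apply, homogeneousComponent_of_mem x.2, if_pos rfl]
  · rw [if_neg hde, map_zero, ← LinearMap.comp_apply, ← LinearMap.rTensor_comp]
    have : (homogeneousComponent d).comp (homogeneousSubmodule ι k e).subtype = 0 :=
      LinearMap.ext fun x => by
        rw [LinearMap.comp_apply, Submodule.subtype_apply, homogeneousComponent_of_mem x.2, if_neg hde]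
        rfl
    rw [this, LinearMap.rTensor_zero, LinearMap.zero_apply]

theorem homogeneousComponent_mem_invariants (hlin : GLin.IsLinear k A ι) (d : ℕ)
    {F : MvPolynomial ι k} (hF : F ∈ GLin.invariants k A (MvPolynomial ι k)) :
    homogeneousComponent d F ∈ GLin.invariants k A (MvPolynomial ι k) := by
  rw [GLin.mem_invariants_iff, ← rTensor_homogeneousComponent_coact hlin,
    (GLin.mem_invariants_iff k A _ F).1 hF, LinearMap.rTensor_tmul]

theorem eval_zero_of_isHomogeneous {d : ℕ} (hd : 0 < d) {F : MvPolynomial ι k}
    (hF : F.IsHomogeneous d) : eval (fun _ => (0 : k)) F = 0 := by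
  have h := hF.coeff_eq_zero (d := 0) (by simpa using hd.ne)
  rw [show eval (fun _ => (0 : k)) F = constantCoeff F by
    exact congrArg (fun φ => φ F) (eval_zero (R := k) (σ := ι))]
  exact h

end Groth.Agent.HopfLib
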