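import Groth.Agent.HopfLib.StabilizerIdeal
import Groth.Agent.HopfLib.LinearAction
import Groth.Agent.HopfLib.ModuleInvariants
import Groth.Agent.HopfLib.ComodSubcoalg
import Mathlib.LinearAlgebra.Dual.Lemmas
import Mathlib.RingTheory.MvPolynomial.Basic

/-!
# Linearly reductive groups generated by pseudo-reflections: the polynomial ring is free over the invariants
-/

open TensorProduct HopfRep MvPolynomial

universe u v w

namespace Groth.Agent.HopfLib

set_option linter.unusedSectionVars false
set_option maxHeartbeats 800000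

theorem homogeneousComponent_mul_of_isHomogeneous {σ R : Type*} [CommSemiring R] {s : MvPolynomial σ R}
    {e : ℕ} (hs : s.IsHomogeneous e) (x : MvPolynomial σ R) (D : ℕ) :
    homogeneousComponent D (s * x) = if e ≤ D then s * homogeneousComponent (D - e) x else 0 := by
  classical
  conv_lhs => rw [← sum_homogeneousComponent x, Finset.mul_sum, map_sum]
  have hterm : ∀ j, homogeneousComponent D (s * homogeneousComponent j x) =
      if D = e + j then s * homogeneousComponent j x else 0 := fun j =>
    homogeneousComponent_of_mem (hs.mul (homogeneousComponent_isHomogeneous j x))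
  simp only [hterm]
  split_ifs with h
  · rw [Finset.sum_eq_single (D - e)]
    · rw [if_pos (by omega)]
    · exact fun j _ hj => if_neg (by omega)
    · intro hmem
      rw [homogeneousComponent_eq_zero _ _ (by simp at hmem; omega), mul_zero, ite_self]
  · exact Finset.sum_eq_zero fun j _ => if_neg (by omega)

theorem isHomogeneous_of_mul {σ R : Type*} [CommRing R] [IsDomain R] {a y : MvPolynomial σ R} {e D : ℕ}
    (ha : a.IsHomogeneous e) (ha0 : a ≠ 0) (he : e ≤ D) (h : (a * y).IsHomogeneous D) :
    y.IsHomogeneous (D - e) := by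
  have h1 := homogeneousComponent_mul_of_isHomogeneous ha y D
  rw [homogeneousComponent_of_mem h, if_pos rfl, if_pos he] at h1
  rw [mul_left_cancel₀ ha0 h1]
  exact homogeneousComponent_isHomogeneous _ _

section Cf

variable {k : Type u} [Field k] {A : Type v} [AddCommGroup A] [Module k A] [Coalgebra k A]
  {V : Type w} [AddCommGroup V] [Module k V] [Comod k A V]

theorem apply_cf (g : A →ₗ[k] k) (f : V →ₗ[k] k) (v : V) : g (cf (A := A) f v) = f (hit g v) := by
  rw [cf_apply, hit_apply]
  generalize Comod.coact (k := k) (A := A) v = t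
  induction t using TensorProduct.induction_on with
  | zero => simp
  | add p q hp hq => simp only [map_add, hp, hq]
  | tmul a b => simp [mul_comm]

end Cf

variable {k : Type u} [Field k] {A : Type u} [CommRing A] [HopfAlgebra k A]
  {ι : Type u} [Fintype ι] [Comod k A (MvPolynomial ι k)] [GLin.IsCoactAlg k A (MvPolynomial ι k)]

local notation "P" => MvPolynomial ι k
local notation "T" => GLin.invariants k A (MvPolynomial ι k)

theorem isHomogeneous_hit (hlin : GLin.IsLinear k A ι) (g : A →ₗ[k] k) {d : ℕ} {F : P}
    (hF : F.IsHomogeneous d) : (hit g F).IsHomogeneous d :=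
  sliceR_mem_of_mem_range (W := homogeneousSubmodule ι k d) (coact_mem_homTensor hlin hF) g

/-- A pseudo-reflection subgroup moves every polynomial by multiples of one linear form. -/
theorem exists_reflection_form (hlin : GLin.IsLinear k A ι) (I : Ideal A)
    (hI : GLin.IsPseudoRefl k A ι I) (hred : ∀ [I.IsHopfIdeal k], IsLinearlyReductive k (A ⧸ I)) :
    ∃ a : P, a.IsHomogeneous 1 ∧ a ≠ 0 ∧ ∀ g : A →ₗ[k] k, (∀ x ∈ I, g x = 0) →
      ∀ f : P, ∃ y, hit g f - g 1 • f = a * y := by
  classical
  have := hI.1
  let c : Comod k A P := inferInstance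
  let π : A →ₗc[k] A ⧸ I := (Bialgebra.Quotient.mkBialgHom (R := k) I).toCoalgHom
  let cI : Comod k (A ⧸ I) P := comodMap π c
  let L : Submodule k P := GLin.linForms k ι
  let W : Submodule k P := L ⊓ GLin.quotInvariants k A P I
  have hLfin : Module.Finite k L := by
    refine Module.Finite.iff_fg.2 ?_
    show (homogeneousSubmodule ι k 1).FG
    rw [homogeneousSubmodule_one_eq_span_X]
    exact Submodule.fg_span (Set.finite_range _)
  have hLsub : @IsSubcomod k (A ⧸ I) _ _ _ _ P _ _ cI L := by
    refine (isSubcomod_iff_hit (c := cI)).2 fun g v hv => ?_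
    rw [hit_comodMap]
    exact isHomogeneous_hit hlin _ hv
  have hfix : ∀ (g : A ⧸ I →ₗ[k] k), ∀ v ∈ W, hit g v = g 1 • v := fun g v hv => by
    show sliceR g (π.toLinearMap.lTensor P (c.coact v)) = _
    rw [show π.toLinearMap.lTensor P (c.coact v) = v ⊗ₜ[k] (1 : A ⧸ I) from hv.2, sliceR_tmul]
  let cL : Comod k (A ⧸ I) L := ComodSub.Comod.restr cI L hLsub
  have hit_L : ∀ (g : A ⧸ I →ₗ[k] k) (v : L), ((hit g v : L) : P) = hit g (v : P) := fun g v =>
    hit_restr (c := cI) hLsub g v
  obtain ⟨W', hW', hc⟩ := hred L hLfin (W.comap L.subtype) (isSubcomod_iff_hit.2 fun g v hv => by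
    rw [Submodule.mem_comap, Submodule.subtype_apply, hit_L]
    rw [show hit g ((v : L) : P) = g 1 • ((v : L) : P) from hfix g _ hv]
    exact W.smul_mem _ hv)
  have hdim : Module.finrank k W' = 1 := by
    have h1 := Submodule.finrank_add_eq_of_isCompl hc
    have h2 : Module.finrank k (W.comap L.subtype) = Module.finrank k W :=
      LinearEquiv.finrank_eq (Submodule.comapSubtypeEquivOfLe inf_le_left)
    have h3 := hI.2
    change Module.finrank k W + 1 = Module.finrank k L at h3
    omega
  have hfree : Module.Free k W' := @Module.Free.of_divisionRing k W' _ W'.addCommGroup W'.module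
  obtain ⟨a, ha0, ha⟩ := (finrank_eq_one_iff' (K := k) (V := W')).1 (by convert hdim)
  refine ⟨((a : L) : P), (a : L).2, fun h => ha0 (Subtype.ext (Subtype.ext h)), ?_⟩
  set α : P := ((a : L) : P) with hα
  have hdiff : ∀ (g : A ⧸ I →ₗ[k] k) (l : L), hit g (l : P) - g 1 • (l : P) ∈ k ∙ α := by
    intro g l
    obtain ⟨x, hx, y, hy, rfl⟩ := Submodule.mem_sup.1 (hc.sup_eq_top.ge (Submodule.mem_top (x := l)))
    obtain ⟨r, hr⟩ := ha ⟨y, hy⟩
    obtain ⟨r', hr'⟩ := ha ⟨hit g (a : L), IsSubcomod.hit_mem hW' g a.2⟩
    have hy' : (y : P) = r • α := by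
      rw [hα]; exact congrArg (fun z : W' => ((z : L) : P)) hr.symm
    have ha' : hit g α = r' • α := by
      rw [hα, ← hit_L]; exact congrArg (fun z : W' => ((z : L) : P)) hr'.symm
    rw [Submodule.coe_add, map_add, show hit g (x : P) = g 1 • (x : P) from hfix g _ hx, hy', map_smul, ha', smul_add, add_sub_add_left_eq_sub]
    exact sub_mem (Submodule.smul_mem _ _ (Submodule.smul_mem _ _ (Submodule.mem_span_singleton_self α)))
      (Submodule.smul_mem _ _ (Submodule.smul_mem _ _ (Submodule.mem_span_singleton_self α)))
  let Q : Ideal (P ⊗[k] (A ⧸ I)) := Ideal.span {α ⊗ₜ[k] (1 : A ⧸ I)}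
  let φ₁ : P →ₐ[k] P ⊗[k] (A ⧸ I) :=
    (Algebra.TensorProduct.map (AlgHom.id k P) (Ideal.Quotient.mkₐ k I)).comp (GLin.coactAlgHom k A P)
  let φ₂ : P →ₐ[k] P ⊗[k] (A ⧸ I) := Algebra.TensorProduct.includeLeft
  have hφ₁ : ∀ f, φ₁ f = Comod.coact (k := k) (A := A ⧸ I) f := fun f => by
    show (Algebra.TensorProduct.map (AlgHom.id k P) (Ideal.Quotient.mkₐ k I)) (c.coact f) =
      π.toLinearMap.lTensor P (c.coact f)
    generalize c.coact f = t
    induction t using TensorProduct.induction_on with
    | zero => simp
    | add p q hp hq => simp only [map_add, hp, hq]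
    | tmul p q => rfl
  have hX : ∀ i : ι, φ₁ (X i) - φ₂ (X i) ∈ Q := fun i => by
    have h : φ₁ (X i) - φ₂ (X i) ∈ LinearMap.range ((k ∙ α).subtype.rTensor (A ⧸ I)) := by
      refine mem_range_rTensor_subtype_iff.2 fun g => ?_
      rw [map_sub, hφ₁, ← hit_apply, show φ₂ (X i) = (X i : P) ⊗ₜ[k] (1 : A ⧸ I) from rfl, sliceR_tmul]
      exact hdiff g ⟨X i, isHomogeneous_X k i⟩
    obtain ⟨t, ht⟩ := h
    rw [← ht]
    clear ht
    induction t using TensorProduct.induction_on with
    | zero => simp
    | add p q hp hq => rw [map_add]; exact add_mem hp hq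
    | tmul p q =>
      obtain ⟨r, hr⟩ := Submodule.mem_span_singleton.1 p.2
      rw [LinearMap.rTensor_tmul, Submodule.subtype_apply, ← hr,
        show (r • α) ⊗ₜ[k] q = (r • (1 : P)) ⊗ₜ[k] q * α ⊗ₜ[k] (1 : A ⧸ I) by
          rw [Algebra.TensorProduct.tmul_mul_tmul, mul_one, smul_one_mul]]
      exact Q.mul_mem_left _ (Ideal.mem_span_singleton_self _)
  have hall : ∀ f, φ₁ f - φ₂ f ∈ Q := fun f => by
    have : (Ideal.Quotient.mkₐ k Q).comp φ₁ = (Ideal.Quotient.mkₐ k Q).comp φ₂ :=
      MvPolynomial.algHom_ext fun i => Ideal.Quotient.eq.2 (hX i)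
    exact Ideal.Quotient.eq.1 (AlgHom.congr_fun this f)
  intro g hg f
  let gbar : A ⧸ I →ₗ[k] k :=
    (I.restrictScalars k).liftQ g (fun x hx => hg x hx) ∘ₗ (Submodule.Quotient.restrictScalarsEquiv k I).symm.toLinearMap
  have hgbar : gbar ∘ₗ π.toLinearMap = g := LinearMap.ext fun x => rfl
  obtain ⟨t, ht⟩ := Ideal.mem_span_singleton'.1 (hall f)
  refine ⟨sliceR gbar t, ?_⟩
  have h := congrArg (sliceR gbar) ht
  rw [map_sub, hφ₁, ← hit_apply, show φ₂ f = f ⊗ₜ[k] (1 : A ⧸ I) from rfl, sliceR_tmul,
    hit_comodMap, hgbar, show gbar 1 = g 1 from rfl] at h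
  rw [← h]
  clear h ht
  induction t using TensorProduct.induction_on with
  | zero => simp
  | add p q hp hq => simp only [add_mul, map_add, mul_add, hp, hq]
  | tmul p q => simp [mul_comm, Algebra.mul_smul_comm]

/-- The ideal generated by the invariants of positive degree. -/
noncomputable def hilbertIdeal (k : Type u) [Field k] (A : Type u) [CommRing A] [HopfAlgebra k A]
    (ι : Type u) [Fintype ι] [Comod k A (MvPolynomial ι k)] [GLin.IsCoactAlg k A (MvPolynomial ι k)] :
    Ideal (MvPolynomial ι k) :=
  Ideal.span {F | F ∈ GLin.invariants k A (MvPolynomial ι k) ∧ ∃ d, 0 < d ∧ F.IsHomogeneous d}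

theorem hit_mem_hilbertIdeal (g : A →ₗ[k] k) {x : P} (hx : x ∈ hilbertIdeal k A ι) :
    hit g x ∈ hilbertIdeal k A ι := by
  obtain ⟨n, f, G, rfl⟩ := Submodule.mem_span_set'.1 hx
  rw [map_sum]
  refine Submodule.sum_mem _ fun i _ => ?_
  rw [smul_eq_mul, mul_comm, hit_mul_of_mem_invariants g (G i).2.1, mul_comm]
  exact Ideal.mul_mem_left _ _ (Ideal.subset_span (G i).2)

section Gen

variable (hG : IsLinearlyReductive k A)
  (hsub : ∀ (I : Ideal A) [I.IsHopfIdeal k], IsLinearlyReductive k (A ⧸ I))
  (hlin : GLin.IsLinear k A ι) (hgen : GLin.IsGenByPseudoRefl k A ι)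

include hG hsub hlin hgen

theorem mem_hilbertIdeal_of_relation {L : Type*} [DecidableEq L] (F : Finset L) {i₀ : L} (hi₀ : i₀ ∈ F)
    (s : L → T) (hs : s i₀ ∉ Ideal.span (s '' ↑(F.erase i₀))) :
    ∀ (d : ℕ) (x : L → P), (x i₀).IsHomogeneous d → (∑ i ∈ F, (s i : P) * x i) = 0 →
      x i₀ ∈ hilbertIdeal k A ι := by
  classical
  obtain ⟨α, hα, h1⟩ := exists_integral hG
  intro d
  induction d with
  | zero =>
    intro x hx hsum
    have hC : x i₀ = C (coeff 0 (x i₀)) := by
      have := homogeneousComponent_zero (x i₀)
      rwa [homogeneousComponent_of_mem (show x i₀ ∈ homogeneousSubmodule ι k 0 from hx), if_pos rfl] at this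
    have h := congrArg (hit (A := A) (V := P) α) hsum
    rw [map_sum, map_zero] at h
    simp only [hit_mul_of_mem_invariants α (s _).2] at h
    have hxR : hit α (x i₀) = x i₀ := hit_eq_self_of_mem_fixedPts h1 (by
      rw [hC, show (C (coeff 0 (x i₀)) : P) = algebraMap k P _ from rfl]
      exact Subalgebra.algebraMap_mem T _)
    let y : L → T := fun i => ⟨hit α (x i), reynolds_mem_invariants hα h1 _⟩
    have h' : ∑ i ∈ F, y i * s i = 0 := Subtype.ext (by simpa [y, mul_comm] using h)
    rw [← Finset.add_sum_erase _ _ hi₀, add_eq_zero_iff_eq_neg] at h'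
    have hmem : y i₀ * s i₀ ∈ Ideal.span (s '' ↑(F.erase i₀)) := by
      rw [h']
      exact neg_mem (Submodule.sum_mem _ fun i hi => Ideal.mul_mem_left _ _ (Ideal.subset_span ⟨i, hi, rfl⟩))
    by_cases hc : coeff 0 (x i₀) = 0
    · rw [hC, hc, map_zero]; exact zero_mem _
    · refine absurd ?_ hs
      have hy : y i₀ = algebraMap k T (coeff 0 (x i₀)) := Subtype.ext (by
        show hit α (x i₀) = _
        rw [hxR]; exact hC)
      rw [hy] at hmem
      exact (Ideal.unit_mul_mem_iff_mem _ ((isUnit_iff_ne_zero.2 hc).map _)).1 hmem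
  | succ d ih =>
    intro x hx hsum
    let S : Submodule k P := (hilbertIdeal k A ι).restrictScalars k
    have hS : IsSubcomod (k := k) (A := A) S := isSubcomod_iff_hit.2 fun g v hv => hit_mem_hilbertIdeal g hv
    let cQ : Comod k A (P ⧸ S) := ComodSub.Comod.quot inferInstance S hS
    have hfix : ∀ I, GLin.IsPseudoRefl k A ι I → S.mkQ (x i₀) ∈ GLin.quotInvariants k A (P ⧸ S) I := by
      intro I hI
      obtain ⟨a, ha1, ha0, ha⟩ := exists_reflection_form hlin I hI (fun {_} => hsub I)
      rw [mem_quotInvariants_iff_fixIdeal_le, fixIdeal, Ideal.span_le]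
      rintro _ ⟨f, rfl⟩
      by_contra hne
      obtain ⟨g, hg0, hgI⟩ := Submodule.exists_le_ker_of_notMem (p := I.restrictScalars k) hne
      have hgI' : ∀ z ∈ I, g z = 0 := fun z hz => hgI hz
      choose y hy using fun i => ha g hgI' (x i)
      have hsy : ∑ i ∈ F, (s i : P) * y i = 0 := by
        refine mul_left_cancel₀ ha0 ?_
        rw [mul_zero, Finset.mul_sum]
        have h := congrArg (hit (A := A) (V := P) g) hsum
        rw [map_sum, map_zero] at h
        simp only [hit_mul_of_mem_invariants g (s _).2] at h
        simp only [mul_left_comm a, ← hy, mul_sub, Finset.sum_sub_distrib, h, mul_smul_comm,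
          ← Finset.smul_sum, hsum, smul_zero, sub_zero]
      have hyh : (y i₀).IsHomogeneous d := by
        refine isHomogeneous_of_mul ha1 ha0 (Nat.le_add_left 1 d) ?_
        rw [← hy]
        exact (homogeneousSubmodule ι k _).sub_mem (isHomogeneous_hit hlin g hx)
          ((homogeneousSubmodule ι k _).smul_mem _ hx)
      have hmem : hit g (x i₀) - g 1 • x i₀ ∈ S := by
        rw [hy]; exact Ideal.mul_mem_left _ _ (ih y hyh hsy)
      refine hg0 ?_
      rw [map_sub, map_smul, apply_cf, smul_eq_mul, mul_comm, ← smul_eq_mul, ← map_smul, ← map_sub,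
        hit_quot (c := inferInstance) hS, ← map_smul S.mkQ, ← map_sub S.mkQ,
        (Submodule.Quotient.mk_eq_zero S).2 hmem |> (fun h => show S.mkQ _ = 0 from h), map_zero]
    have hG' : S.mkQ (x i₀) ∈ fixedPts k A (P ⧸ S) := by
      refine mem_fixedPts_of_mem_quotInvariants_bot ?_
      rw [← show GLin.genIdeal k A ι = ⊥ from hgen]
      exact mem_quotInvariants_genIdeal hfix
    have h2 := hit_eq_self_of_mem_fixedPts h1 hG'
    rw [hit_quot (c := inferInstance) hS] at h2
    have h3 : hit α (x i₀) - x i₀ ∈ S := (Submodule.Quotient.eq S).1 h2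
    have h4 : hit α (x i₀) ∈ hilbertIdeal k A ι := Ideal.subset_span
      ⟨reynolds_mem_invariants hα h1 _, d + 1, Nat.succ_pos d, isHomogeneous_hit hlin α hx⟩
    simpa using sub_mem h4 (show hit α (x i₀) - x i₀ ∈ hilbertIdeal k A ι from h3)

theorem free_invariants : Module.Free T P := by
  classical
  let S : Submodule k P := (hilbertIdeal k A ι).restrictScalars k
  let hom : Set (P ⧸ S) := {z | ∃ (f : P) (d : ℕ), f.IsHomogeneous d ∧ S.mkQ f = z}
  obtain ⟨b, hb, hspan, hli⟩ := exists_linearIndependent k hom
  choose e deg he hmk using fun z : b => hb z.2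
  have htop : Submodule.span k b = ⊤ := by
    rw [hspan, eq_top_iff]
    rintro z -
    obtain ⟨f, rfl⟩ := S.mkQ_surjective z
    rw [← sum_homogeneousComponent f, map_sum]
    exact Submodule.sum_mem _ fun j _ =>
      Submodule.subset_span ⟨_, j, homogeneousComponent_isHomogeneous j f, rfl⟩
  have indep : ∀ (F : Finset b) (D : ℕ) (s : b → T),
      (∀ z ∈ F, deg z ≤ D ∧ (s z : P).IsHomogeneous (D - deg z)) →
      ∀ x : b → P, (∀ z ∈ F, (x z).IsHomogeneous (deg z) ∧
        S.mkQ (x z) - S.mkQ (e z) ∈ Submodule.span k (S.mkQ ∘ e '' {w | w ∉ F})) →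
      (∑ z ∈ F, (s z : P) * x z) = 0 → ∀ z ∈ F, s z = 0 := by
    intro F D
    induction F using Finset.induction_on with
    | empty => simp
    | insert a F haF ih =>
      intro s hs x hx hsum
      have hxS : x a ∉ hilbertIdeal k A ι := by
        intro hmem
        have h := (hx a (Finset.mem_insert_self a F)).2
        rw [show S.mkQ (x a) = 0 from (Submodule.Quotient.mk_eq_zero S).2 hmem, zero_sub,
          Submodule.neg_mem_iff] at h
        refine hli.notMem_span_image (x := a) (s := {w | w ∉ insert a F}) (by simp) ?_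
        simpa [hmk] using h
      by_cases hsa : s a ∈ Ideal.span (s '' ↑F)
      · obtain ⟨r, hr⟩ : ∃ r : b → T, ∑ z ∈ F, r z * s z = s a := by
          obtain ⟨l, hl, hl'⟩ := (Finsupp.mem_span_image_iff_linearCombination T).1 hsa
          refine ⟨l, ?_⟩
          rw [← hl', Finsupp.linearCombination_apply, Finsupp.sum_of_support_subset _
            (show l.support ⊆ F from by exact_mod_cast hl) _ (by simp)]
          rfl
        obtain ⟨haD, hsah⟩ := hs a (Finset.mem_insert_self a F)
        let t : b → T := fun z => if deg a ≤ deg z then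
          ⟨homogeneousComponent (deg z - deg a) (r z : P),
            homogeneousComponent_mem_invariants hlin _ (r z).2⟩ else 0
        have ht : (s a : P) = ∑ z ∈ F, (t z : P) * s z := by
          have hr' : (s a : P) = ∑ z ∈ F, (s z : P) * r z := by
            rw [← hr]; simp [mul_comm]
          have h := congrArg (homogeneousComponent (D - deg a)) hr'
          rw [homogeneousComponent_of_mem hsah, if_pos rfl, map_sum] at h
          rw [h]
          refine Finset.sum_congr rfl fun z hz => ?_
          obtain ⟨hzD, hszh⟩ := hs z (Finset.mem_insert_of_mem hz)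
          rw [homogeneousComponent_mul_of_isHomogeneous hszh]
          by_cases hle : deg a ≤ deg z
          · rw [if_pos (by omega), show D - deg a - (D - deg z) = deg z - deg a by omega, mul_comm]
            simp [t, hle]
          · simp only [t, if_neg hle, ZeroMemClass.coe_zero, zero_mul]
            rw [if_neg (by omega)]
        have key := ih s (fun z hz => hs z (Finset.mem_insert_of_mem hz))
          (fun z => x z + (t z : P) * x a) (fun z hz => ⟨?_, ?_⟩) ?_
        · intro z hz
          rcases Finset.mem_insert.1 hz with rfl | hz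
          · refine Subtype.ext ?_
            rw [ht, Finset.sum_eq_zero (fun w hw => by rw [key w hw]; simp)]
            rfl
          · exact key z hz
        · refine IsHomogeneous.add (hx z (Finset.mem_insert_of_mem hz)).1 ?_
          by_cases hle : deg a ≤ deg z
          · have := (homogeneousComponent_isHomogeneous (R := k) (deg z - deg a) (r z : P)).mul
              (hx a (Finset.mem_insert_self a F)).1
            rw [show deg z - deg a + deg a = deg z by omega] at this
            simpa [t, hle] using this
          · simp only [t, if_neg hle, ZeroMemClass.coe_zero, zero_mul]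
            exact isHomogeneous_zero _ _ _
        · have h2 : S.mkQ ((t z : P) * x a) = coeff 0 (t z : P) • S.mkQ (x a) := by
            rw [← map_smul, ← sub_eq_zero, ← map_sub]
            refine (Submodule.Quotient.mk_eq_zero S).2 ?_
            rw [smul_eq_C_mul, ← sub_mul]
            refine Ideal.mul_mem_right _ _ ?_
            rw [← homogeneousComponent_zero, ← sum_homogeneousComponent (t z : P)]
            simp only [map_sum]
            rw [← Finset.sum_sub_distrib]
            refine Ideal.sum_mem _ fun j _ => ?_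
            rcases Nat.eq_zero_or_pos j with rfl | hj
            · rw [homogeneousComponent_of_mem (homogeneousComponent_isHomogeneous 0 _), if_pos rfl, sub_self]
              exact zero_mem _
            · rw [homogeneousComponent_of_mem (homogeneousComponent_isHomogeneous j _), if_neg hj.ne, sub_zero]
              exact Ideal.subset_span ⟨homogeneousComponent_mem_invariants hlin j (t z).2, j, hj,
                homogeneousComponent_isHomogeneous j _⟩
          have hsub : Submodule.span k (S.mkQ ∘ e '' {w | w ∉ insert a F}) ≤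
              Submodule.span k (S.mkQ ∘ e '' {w | w ∉ F}) :=
            Submodule.span_mono (Set.image_mono fun w hw hwF => hw (Finset.mem_insert_of_mem hwF))
          have hxa : S.mkQ (x a) ∈ Submodule.span k (S.mkQ ∘ e '' {w | w ∉ F}) := by
            rw [← sub_add_cancel (S.mkQ (x a)) (S.mkQ (e a))]
            exact add_mem (hsub (hx a (Finset.mem_insert_self a F)).2)
              (Submodule.subset_span ⟨a, haF, rfl⟩)
          rw [map_add, h2, add_sub_right_comm]
          exact add_mem (hsub (hx z (Finset.mem_insert_of_mem hz)).2) (Submodule.smul_mem _ _ hxa)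
        · rw [← hsum, Finset.sum_insert haF, ht, Finset.sum_mul, ← Finset.sum_add_distrib]
          exact Finset.sum_congr rfl fun z _ => by ring
      · refine absurd (mem_hilbertIdeal_of_relation hG hsub hlin hgen (insert a F)
          (Finset.mem_insert_self a F) s ?_ (deg a) x (hx a (Finset.mem_insert_self a F)).1 hsum) hxS
        rwa [Finset.erase_insert haF]
  have hindep : LinearIndependent T e := by
    rw [linearIndependent_iff']
    intro F s hsum z hz
    refine Subtype.ext ?_
    show (s z : P) = 0
    rw [← sum_homogeneousComponent (s z : P)]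
    refine Finset.sum_eq_zero fun m _ => ?_
    let D := m + deg z
    have key := indep (F.filter fun w => deg w ≤ D) D
      (fun w => ⟨homogeneousComponent (D - deg w) (s w : P), homogeneousComponent_mem_invariants hlin _ (s w).2⟩)
      (fun w hw => ⟨(Finset.mem_filter.1 hw).2, homogeneousComponent_isHomogeneous _ _⟩)
      e (fun w _ => ⟨he w, by simp⟩) ?_ z (Finset.mem_filter.2 ⟨hz, Nat.le_add_left _ _⟩)
    · have h := congrArg Subtype.val key
      simpa [D] using h
    · have h := congrArg (homogeneousComponent D) hsum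
      rw [map_sum, map_zero] at h
      rw [← h, Finset.sum_filter]
      refine Finset.sum_congr rfl fun w _ => ?_
      rw [Subalgebra.smul_def, smul_eq_mul, mul_comm (s w : P), homogeneousComponent_mul_of_isHomogeneous (he w)]
      exact if_congr Iff.rfl (mul_comm _ _) rfl
  have hgenT : ∀ (D : ℕ) (f : P), f.IsHomogeneous D → f ∈ Submodule.span T (Set.range e) := by
    intro D
    induction D using Nat.strong_induction_on with
    | _ D ih =>
      intro f hf
      have hb' : S.mkQ f ∈ Submodule.span k (Set.range fun z : b => S.mkQ (e z)) := by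
        simp only [hmk, Subtype.range_coe_subtype]
        rw [show {x | x ∈ b} = b from rfl, htop]; trivial
      obtain ⟨l, hl⟩ := Finsupp.mem_span_range_iff_exists_finsupp.1 hb'
      let v : P := l.sum fun z c => c • e z
      have hv : f - v ∈ hilbertIdeal k A ι :=
        (Submodule.Quotient.eq S).1 (show S.mkQ f = S.mkQ v by rw [← hl, map_finsuppSum]; simp [map_smul])
      have hfd : f = homogeneousComponent D v + homogeneousComponent D (f - v) := by
        rw [← map_add, add_sub_cancel, homogeneousComponent_of_mem (show f ∈ homogeneousSubmodule ι k D from hf), if_pos rfl]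
      rw [hfd]
      refine add_mem ?_ ?_
      · rw [map_finsuppSum]
        refine Submodule.sum_mem _ fun z _ => ?_
        simp only [map_smul]
        rw [homogeneousComponent_of_mem (show e z ∈ homogeneousSubmodule ι k (deg z) from he z)]
        refine Submodule.smul_of_tower_mem _ _ ?_
        split_ifs
        · exact Submodule.subset_span ⟨z, rfl⟩
        · exact zero_mem _
      · obtain ⟨n, c, G, hc⟩ := Submodule.mem_span_set'.1 hv
        rw [← hc, map_sum]
        refine Submodule.sum_mem _ fun i _ => ?_
        obtain ⟨hGT, j, hj, hGj⟩ := (G i).2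
        rw [smul_eq_mul, mul_comm, homogeneousComponent_mul_of_isHomogeneous hGj]
        split_ifs with hjD
        · exact Submodule.smul_mem _ (⟨(G i : P), hGT⟩ : T)
            (ih (D - j) (by omega) _ (homogeneousComponent_isHomogeneous _ _))
        · exact zero_mem _
  refine Module.Free.of_basis (Module.Basis.mk hindep fun f _ => ?_)
  rw [← sum_homogeneousComponent f]
  exact Submodule.sum_mem _ fun j _ => hgenT j _ (homogeneousComponent_isHomogeneous j f)

end Gen

end Groth.Agent.HopfLib
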