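import Groth.Agent.HopfLib.SpPoints
import Groth.Prelude.Def_GLin5
import Mathlib.LinearAlgebra.Matrix.ToLin
import Mathlib.LinearAlgebra.Dimension.Finite
import Mathlib.LinearAlgebra.Matrix.NonsingularInverse
import Mathlib.LinearAlgebra.Matrix.Permutation

/-!
# Points of `GL_m`, and diagonalisation of homomorphisms from diagonalisable groups into `GL_m`
-/

set_option autoImplicit false
universe u

open CategoryTheory MonoidalCategory CartesianMonoidalCategory MonObj GrpObj AlgebraicGeometry
open scoped TensorProduct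
open CoactBr Groth.Agent.HopfLib.SpPoints

noncomputable section

namespace Groth.Agent.HopfLib.GLnDiag

section Points

variable {k : Type u} [CommRing k] {m : ℕ} {L L' : Type u} [CommRing L] [Algebra k L] [CommRing L'] [Algebra k L']

/-- The matrix of an algebra map out of `O(GL_m)`. -/
def matA (f : CoordGrp.GLn m k →ₐ[k] L) : Matrix (Fin m) (Fin m) L := fun i j => f (CoordGrp.GLn.X i j)

/-- The matrix of a point of `GL_m`. -/
def mat (p : sp k L ⟶ sp k (CoordGrp.GLn m k)) : Matrix (Fin m) (Fin m) L := matA (algOf p)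

theorem det_matA (f : CoordGrp.GLn m k →ₐ[k] L) : (matA f).det * f CoordGrp.GLn.Dinv = 1 := by
  have h : (matA f).det = f CoordGrp.GLn.det := by
    show _ = (f.comp (CoordGrp.GLn.mk m k)) (CoordGrp.GLb.det m k)
    rw [CoordGrp.GLb.det, AlgHom.map_det]
    rfl
  rw [h, ← map_mul, CoordGrp.GLn.det_mul_Dinv, map_one]

theorem isUnit_det_mat (p : sp k L ⟶ sp k (CoordGrp.GLn m k)) : IsUnit (mat p).det :=
  IsUnit.of_mul_eq_one _ (det_matA _)

theorem matA_injective : Function.Injective (matA : (CoordGrp.GLn m k →ₐ[k] L) → _) := by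
  intro f g h
  refine CoordGrp.GLn.algHom_ext (fun i j => congrFun (congrFun h i) j) ?_
  exact left_inv_eq_right_inv (by rw [mul_comm, det_matA]) (by rw [h, det_matA])

theorem mat_injective : Function.Injective (mat : (sp k L ⟶ sp k (CoordGrp.GLn m k)) → _) := by
  intro p q h
  rw [← pt_algOf p, ← pt_algOf q, matA_injective h]

theorem mat_pt_comp (φ : L →ₐ[k] L') (p : sp k L ⟶ sp k (CoordGrp.GLn m k)) :
    mat (pt φ ≫ p) = (mat p).map φ := by
  rw [mat, algOf_pt_comp]; rfl

theorem mat_mul (p q : sp k L ⟶ sp k (CoordGrp.GLn m k)) : mat (p * q) = mat p * mat q := by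
  ext i j
  rw [mat, algOf_mul, Matrix.mul_apply]
  show Algebra.TensorProduct.lift (algOf p) (algOf q) (fun _ _ => Commute.all _ _)
    (CoalgebraStruct.comul (R := k) (CoordGrp.GLn.X i j)) = _
  rw [CoordGrp.GLn.comul_X, map_sum]
  simp [mat, matA]

theorem mat_one : mat (1 : sp k L ⟶ sp k (CoordGrp.GLn m k)) = 1 := by
  have h := mat_mul (1 : sp k L ⟶ sp k (CoordGrp.GLn m k)) 1
  rw [_root_.mul_one] at h
  exact ((Matrix.isUnit_iff_isUnit_det _).2 (isUnit_det_mat _)).mul_eq_left.mp h.symm

theorem mat_inv_mul (p : sp k L ⟶ sp k (CoordGrp.GLn m k)) : mat p⁻¹ * mat p = 1 := by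
  rw [← mat_mul, inv_mul_cancel, mat_one]

theorem exists_mat (A : Matrix (Fin m) (Fin m) L) (hA : IsUnit A.det) :
    ∃ p : sp k L ⟶ sp k (CoordGrp.GLn m k), mat p = A := by
  refine ⟨pt (CoordGrp.GLn.pt m k A (↑hA.unit⁻¹ : L) hA.mul_val_inv), ?_⟩
  ext i j
  simp [mat, matA]

/-- The matrix of a homomorphism is comultiplicative. -/
theorem map_comul_mat {A : Type u} [CommRing A] [Bialgebra k A]
    (i : sp k A ⟶ sp k (CoordGrp.GLn m k)) [IsMonHom i] :
    (mat i).map (Bialgebra.comulAlgHom k A) =
      (mat i).map (Algebra.TensorProduct.includeLeft : A →ₐ[k] A ⊗[k] A) *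
        (mat i).map (Algebra.TensorProduct.includeRight : A →ₐ[k] A ⊗[k] A) := by
  rw [← mat_pt_comp, ← mat_pt_comp, ← mat_pt_comp, ← mat_mul, ← MonObj.mul_comp,
    pt_includeLeft_mul_includeRight]

end Points

section Diag

variable {F : Type u} [Field F] {M : Type} [CommGroup M] {m : ℕ}

/-- the constants in a group algebra -/
abbrev C : F →+* MonoidAlgebra F M := algebraMap F (MonoidAlgebra F M)

/-- the diagonal matrix of characters -/
abbrev D (χ : Fin m → M) : Matrix (Fin m) (Fin m) (MonoidAlgebra F M) :=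
  Matrix.diagonal fun i => MonoidAlgebra.single (χ i) 1

/-- coefficient -/
def cf (a : M) : MonoidAlgebra F M →ₗ[F] F where
  toFun x := x.coeff a
  map_add' x y := by simp
  map_smul' c x := by simp

@[simp] theorem cf_apply (a : M) (x : MonoidAlgebra F M) : cf a x = x.coeff a := rfl

theorem isUnit_det_D (χ : Fin m → M) : IsUnit (D (F := F) χ).det := by
  rw [Matrix.det_diagonal]
  exact IsUnit.prod_univ_iff.2 fun i => (Group.isUnit (χ i)).map (MonoidAlgebra.of F M)

/-- A matrix comultiplicative over the group algebra of a commutative group is diagonalisable. -/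
theorem exists_diag (P : Matrix (Fin m) (Fin m) (MonoidAlgebra F M)) (hdet : IsUnit P.det)
    (hΔ : P.map (Bialgebra.comulAlgHom F (MonoidAlgebra F M)) =
      P.map (Algebra.TensorProduct.includeLeft : _ →ₐ[F] MonoidAlgebra F M ⊗[F] MonoidAlgebra F M) *
        P.map (Algebra.TensorProduct.includeRight : _ →ₐ[F] MonoidAlgebra F M ⊗[F] MonoidAlgebra F M)) :
    ∃ (g : Matrix (Fin m) (Fin m) F) (χ : Fin m → M), IsUnit g.det ∧ P * g.map C = g.map C * D χ := by
  classical
  let E : M → Matrix (Fin m) (Fin m) F := fun c i j => cf c (P i j)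
  let Ψ : M → M → MonoidAlgebra F M ⊗[F] MonoidAlgebra F M →ₗ[F] F := fun a b =>
    TensorProduct.lift ((LinearMap.mul F F).compl₁₂ (cf a) (cf b))
  have hE : ∀ a b, E a * E b = if a = b then E a else 0 := by
    intro a b
    ext i j
    have hcomul : ∀ x, Ψ a b (CoalgebraStruct.comul (R := F) x) = if a = b then cf a x else 0 := by
      intro x
      induction x using MonoidAlgebra.induction_linear with
      | zero => simp
      | add x y hx hy => rw [map_add, map_add, hx, hy, map_add]; split_ifs <;> simp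
      | single c r =>
        rw [MonoidAlgebra.comul_single]
        simp [Ψ, Finsupp.single_apply]
        split_ifs <;> simp_all
    have := congrArg (fun Q : Matrix (Fin m) (Fin m) _ => Ψ a b (Q i j)) hΔ
    simp only [Matrix.map_apply, Matrix.mul_apply, Bialgebra.comulAlgHom_apply, hcomul, map_sum,
      Algebra.TensorProduct.includeLeft_apply, Algebra.TensorProduct.includeRight_apply,
      Algebra.TensorProduct.tmul_mul_tmul, _root_.mul_one, _root_.one_mul] at this
    rw [Matrix.mul_apply]
    split_ifs with hab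
    · rw [if_pos hab] at this
      simp only [Ψ, TensorProduct.lift.tmul, LinearMap.compl₁₂_apply, LinearMap.mul_apply'] at this
      exact this.symm
    · rw [if_neg hab] at this
      simp only [Ψ, TensorProduct.lift.tmul, LinearMap.compl₁₂_apply, LinearMap.mul_apply'] at this
      exact this.symm.trans (Matrix.zero_apply (α := F) i j).symm
  let T : Finset M := Finset.univ.biUnion fun p : Fin m × Fin m => (P p.1 p.2).coeff.support
  have hsum : ∑ c ∈ T, E c = 1 := by
    have hsq : (∑ c ∈ T, E c) * (∑ c ∈ T, E c) = ∑ c ∈ T, E c := by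
      rw [Finset.sum_mul_sum]
      refine Finset.sum_congr rfl fun a ha => ?_
      simp [hE, ha]
    have heq : P.map (Bialgebra.counitAlgHom F (MonoidAlgebra F M)) = ∑ c ∈ T, E c := by
      ext i j
      have hε : ∀ x : MonoidAlgebra F M, CoalgebraStruct.counit (R := F) x = ∑ c ∈ x.coeff.support, x.coeff c := by
        intro x
        conv_lhs => rw [← MonoidAlgebra.sum_coeff_single x]
        rw [Finsupp.sum, map_sum]
        simp
      rw [Matrix.map_apply, Bialgebra.counitAlgHom_apply, hε, Matrix.sum_apply]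
      refine Finset.sum_subset (fun c hc => ?_) (fun c _ hc => by simpa using hc)
      exact Finset.mem_biUnion.2 ⟨(i, j), Finset.mem_univ _, hc⟩
    have hu : IsUnit (P.map (Bialgebra.counitAlgHom F (MonoidAlgebra F M))) := by
      rw [Matrix.isUnit_iff_isUnit_det]
      have := hdet.map (Bialgebra.counitAlgHom F (MonoidAlgebra F M))
      rwa [AlgHom.map_det] at this
    rw [heq] at hu
    exact hu.mul_eq_left.mp hsq
  let S : Set (Fin m → F) := {v | ∃ c, (E c).mulVec v = v}
  have hS : Submodule.span F S = ⊤ := by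
    rw [eq_top_iff]
    intro v _
    have : v = ∑ c ∈ T, (E c).mulVec v := by rw [← Matrix.sum_mulVec, hsum, Matrix.one_mulVec]
    rw [this]
    refine Submodule.sum_mem _ fun c _ => Submodule.subset_span ⟨c, ?_⟩
    rw [Matrix.mulVec_mulVec, hE, if_pos rfl]
  obtain ⟨s, hsS, hsspan, hsli⟩ := exists_linearIndependent F S
  let b₀ : Module.Basis s F (Fin m → F) :=
    Module.Basis.mk hsli (by rw [Subtype.range_coe_subtype, Set.setOf_mem_eq, hsspan, hS])
  let b : Module.Basis (Fin m) F (Fin m → F) := b₀.reindex (b₀.indexEquiv (Pi.basisFun F (Fin m)))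
  have hb : ∀ j, ∃ c, (E c).mulVec (b j) = b j := by
    intro j
    rw [show b j = ((b₀.indexEquiv (Pi.basisFun F (Fin m))).symm j : Fin m → F) by simp [b, b₀]]
    exact hsS ((b₀.indexEquiv (Pi.basisFun F (Fin m))).symm j).2
  choose χ hχ using hb
  let g : Matrix (Fin m) (Fin m) F := (Pi.basisFun F (Fin m)).toMatrix b
  have hg : ∀ i j, g i j = b j i := fun i j => by simp [g, Module.Basis.toMatrix_apply]
  refine ⟨g, χ, ?_, ?_⟩
  · haveI := (Pi.basisFun F (Fin m)).invertibleToMatrix b
    exact Matrix.isUnit_det_of_invertible g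
  · ext i j : 1
    refine MonoidAlgebra.ext (Finsupp.ext fun c => ?_)
    rw [Matrix.mul_diagonal, Matrix.mul_apply]
    have h1 : ∀ (x : MonoidAlgebra F M) (r : F), x * C r = r • x := fun x r => by
      rw [Algebra.smul_def, mul_comm]
    simp only [Matrix.map_apply, h1, MonoidAlgebra.coeff_sum, Finsupp.finset_sum_apply]
    rw [mul_comm (C (g i j)), h1]
    simp only [MonoidAlgebra.coeff_smul, MonoidAlgebra.coeff_single, Finsupp.smul_apply, Finsupp.single_apply,
      smul_eq_mul, mul_ite, _root_.mul_one, mul_zero]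
    have h2 : ∑ l, g l j * (P i l).coeff c = ((E c).mulVec (b j)) i := by
      simp [Matrix.mulVec, dotProduct, hg, E, mul_comm]
    rw [h2]
    by_cases hc : χ j = c
    · rw [if_pos hc, ← hc, hχ, hg]
    · rw [if_neg hc]
      nth_rw 1 [← hχ j]
      rw [Matrix.mulVec_mulVec, hE, if_neg (fun h => hc h.symm)]
      simp

/-- A constant invertible matrix intertwining two diagonal matrices permutes their entries. -/
theorem exists_perm {R : Type*} [CommRing R] {K : Type*} [Field K] (f : K →+* R) (G : Matrix (Fin m) (Fin m) K)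
    (hG : IsUnit G.det) (d d' : Fin m → R) (h : G.map f * Matrix.diagonal d = Matrix.diagonal d' * G.map f) :
    ∃ π : Equiv.Perm (Fin m), ∀ j, d' (π j) = d j := by
  obtain ⟨π, -, hπ⟩ := Finset.exists_ne_zero_of_sum_ne_zero ((Matrix.det_apply G).symm.trans_ne hG.ne_zero)
  refine ⟨π, fun j => ?_⟩
  have hne : G (π j) j ≠ 0 := fun h0 => hπ (by
    rw [Finset.prod_eq_zero (f := fun i => G (π i) i) (Finset.mem_univ j) h0, smul_zero])
  have := congrFun (congrFun h (π j)) j
  rw [Matrix.mul_diagonal, Matrix.diagonal_mul, Matrix.map_apply, mul_comm (d' _)] at this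
  exact ((IsUnit.mk0 _ hne).map f).mul_left_cancel this.symm

/-- Diagonalisation at equal characters gives conjugacy over the ground field. -/
theorem map_perm_mul_D (π : Equiv.Perm (Fin m)) (χ : Fin m → M) :
    ((π.permMatrix F).map C) * D (F := F) χ = D (fun i => χ (π i)) * (π.permMatrix F).map C := by
  ext i j : 1
  rw [Matrix.mul_diagonal, Matrix.diagonal_mul, Matrix.map_apply, mul_comm]
  by_cases hij : π i = j
  · subst hij; rfl
  · simp [Equiv.Perm.permMatrix, PEquiv.toMatrix_apply, hij]

end Diag

end Groth.Agent.HopfLib.GLnDiag
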