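import Groth.Agent.HopfLib.GITStable
import Mathlib.RingTheory.ZariskisMainTheorem
import Mathlib.RingTheory.Jacobson.Artinian
import Mathlib.LinearAlgebra.FreeModule.Finite.Matrix
import Mathlib.RingTheory.Spectrum.Prime.Noetherian

/-!
# The stable locus is cut out by invariants
-/

open TensorProduct HopfRep Coalgebra

universe u

namespace Groth.Agent.HopfLib

set_option linter.unusedSectionVars false
set_option maxHeartbeats 400000

section Points

variable {k : Type u} [Field k] [IsAlgClosed k] {B : Type u} [CommRing B] [Algebra k B]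
  [Algebra.FiniteType k B]

/-- An affine algebra with finitely many rational points is finite. -/
theorem moduleFinite_of_finite_points (h : Finite (B →ₐ[k] k)) : Module.Finite k B := by
  classical
  have : IsJacobsonRing B := isJacobsonRing_of_finiteType (A := k)
  have : IsNoetherianRing B := Algebra.FiniteType.isNoetherianRing k B
  have := Fintype.ofFinite (B →ₐ[k] k)
  rw [Module.finite_iff_isArtinianRing, isArtinianRing_iff_isNoetherianRing_krullDimLE_zero]
  refine ⟨inferInstance, Ring.krullDimLE_zero_iff.2 fun P hP => ?_⟩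
  let S := (Finset.univ : Finset (B →ₐ[k] k)).filter fun x => P ≤ RingHom.ker x
  have hle : S.inf (fun x => RingHom.ker x) ≤ P := by
    conv_rhs => rw [← hP.radical, Ideal.radical_eq_jacobson]
    intro a ha
    rw [Ideal.jacobson, Ideal.mem_sInf]
    rintro m ⟨hPm, hm⟩
    obtain ⟨x, hx⟩ := exists_algHom_le_ker (k := k) hm.ne_top
    rw [hm.eq_of_le (RingHom.ker_ne_top x) hx]
    exact Submodule.mem_finsetInf.1 ha x (Finset.mem_filter.2 ⟨Finset.mem_univ x, hPm.trans hx⟩)
  obtain ⟨x, hx, hxP⟩ := (Ideal.IsPrime.inf_le' hP).1 hle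
  rw [le_antisymm (Finset.mem_filter.1 hx).2 hxP]
  exact RingHom.ker_isMaximal_of_surjective _ fun c => ⟨algebraMap k B c, AlgHom.commutes x c⟩

theorem finite_points_of_moduleFinite [Module.Finite k B] : Finite (B →ₐ[k] k) :=
  Finite.algHom k B k

end Points

variable {k : Type u} [Field k] {A : Type u} [CommRing A] [HopfAlgebra k A]
  {R : Type u} [CommRing R] [Algebra k R] [Comod k A R] [GLin.IsCoactAlg k A R]

theorem le_ker_iff_mem_stabPts (x : R →ₐ[k] k) (g : A →ₐ[k] k) :
    GLin.stabIdeal k A x ≤ RingHom.ker g ↔ g ∈ stabPts A x := by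
  refine ⟨fun h => (algHom_eq_of_ker_le fun f hf => ?_).symm, fun h => ?_⟩
  · exact RingHom.mem_ker.2 (h (Ideal.mem_map_of_mem _ hf))
  · rw [GLin.stabIdeal, Ideal.map_le_iff_le_comap]
    intro f hf
    rw [Ideal.mem_comap, RingHom.mem_ker, ← AlgHom.comp_apply, ← actPt_eq, show GLin.actPt k g x = x from h]
    exact hf

variable [IsAlgClosed k] [Algebra.FiniteType k A]

theorem hasFiniteStab_iff (x : R →ₐ[k] k) : GLin.HasFiniteStab k A x ↔ (stabPts A x).Finite := by
  let I := GLin.stabIdeal k A x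
  have hrange : stabPts A x = Set.range fun c : A ⧸ I →ₐ[k] k => c.comp (Ideal.Quotient.mkₐ k I) := by
    refine Set.ext fun g => ⟨fun hg => ⟨Ideal.Quotient.liftₐ I g fun a ha =>
      (le_ker_iff_mem_stabPts x g).2 hg ha, AlgHom.ext fun a => rfl⟩, ?_⟩
    rintro ⟨c, rfl⟩
    refine (le_ker_iff_mem_stabPts x _).1 fun a ha => ?_
    simp [Ideal.Quotient.eq_zero_iff_mem.2 (show a ∈ I from ha)]
  rw [hrange]
  refine ⟨fun h => ?_, fun h => ?_⟩
  · have : Module.Finite k (A ⧸ I) := h
    have := finite_points_of_moduleFinite (k := k) (B := A ⧸ I)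
    exact Set.finite_range _
  · have hinj : Function.Injective fun c : A ⧸ I →ₐ[k] k => c.comp (Ideal.Quotient.mkₐ k I) :=
      fun a b hab => Ideal.Quotient.algHom_ext k hab
    have := h.to_subtype
    exact moduleFinite_of_finite_points (Finite.of_injective _
      (Set.rangeFactorization_injective.2 hinj))

theorem isClosedOrbit_iff [Algebra.FiniteType k R] (x : R →ₐ[k] k) :
    GLin.IsClosedOrbit k A x ↔ IsClosedPtOrbit k A x := by
  refine ⟨isClosedPtOrbit_of_isClosedOrbit, fun hx => ?_⟩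
  have : IsNoetherianRing R := Algebra.FiniteType.isNoetherianRing k R
  have : IsJacobsonRing R := isJacobsonRing_of_finiteType (A := k)
  let φ := (GLin.orbitHom k A x).toRingHom
  have hfp : φ.FinitePresentation := by
    let := φ.toAlgebra
    have : IsScalarTower k R A := IsScalarTower.of_algebraMap_eq fun c =>
      ((GLin.orbitHom k A x).commutes c).symm
    exact RingHom.FinitePresentation.of_finiteType.1
      (RingHom.finiteType_algebraMap.2 (Algebra.FiniteType.of_restrictScalars_finiteType k R A))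
  refine closure_subset_iff_isClosed.1 fun P hP => ?_
  rw [PrimeSpectrum.closure_range_comap, PrimeSpectrum.mem_zeroLocus] at hP
  by_contra hPn
  let π := Ideal.Quotient.mk P.asIdeal
  let s := PrimeSpectrum.comap π ⁻¹' (Set.range (PrimeSpectrum.comap φ))ᶜ
  have hs : Topology.IsConstructible s :=
    (PrimeSpectrum.isConstructible_range_comap hfp).compl.preimage (PrimeSpectrum.continuous_comap π)
      fun U hU _ => IsCompact.isRetrocompact (TopologicalSpace.NoetherianSpace.isCompact _)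
        (hU.preimage (PrimeSpectrum.continuous_comap π))
  let η : PrimeSpectrum (R ⧸ P.asIdeal) := ⟨⊥, Ideal.isPrime_bot⟩
  have hη : η ∈ s := by
    show PrimeSpectrum.comap π η ∈ (Set.range (PrimeSpectrum.comap φ))ᶜ
    rwa [show PrimeSpectrum.comap π η = P from PrimeSpectrum.ext (Ideal.mk_ker), Set.mem_compl_iff]
  have hd : closure s = Set.univ := Set.eq_univ_of_univ_subset fun Q _ =>
    closure_mono (Set.singleton_subset_iff.2 hη)
      ((PrimeSpectrum.le_iff_mem_closure η Q).1 (show η.asIdeal ≤ Q.asIdeal from bot_le))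
  obtain ⟨Q, hQ⟩ := interior_nonempty_of_isConstructible hs (by
    rw [hd, interior_univ]; exact Set.univ_nonempty)
  obtain ⟨z, hz⟩ := exists_algHom_mem_of_isOpen (k := k) isOpen_interior hQ
  obtain ⟨g, hg⟩ := hx (z.comp (Ideal.Quotient.mkₐ k P.asIdeal)) fun f hf => by
    rw [RingHom.mem_ker, AlgHom.comp_apply, show Ideal.Quotient.mkₐ k P.asIdeal f = 0 from
      Ideal.Quotient.eq_zero_iff_mem.2 (hP hf), map_zero]
  exact interior_subset hz ⟨⟨RingHom.ker g, RingHom.ker_isPrime g⟩, PrimeSpectrum.ext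
    (Ideal.ext fun f => by
      show g (φ f) = 0 ↔ z (π f) = 0
      rw [show z (π f) = g (φ f) from AlgHom.congr_fun hg f])⟩

theorem isStablePt_iff [Algebra.FiniteType k R] (x : R →ₐ[k] k) :
    GLin.IsStablePt k A x ↔ IsPtStable k A x := by
  rw [GLin.IsStablePt, IsPtStable, isClosedOrbit_iff, hasFiniteStab_iff]

/-- The points of the group fixing `x` are finite if the identity is isolated among them. -/
theorem finite_stabPts_of_isolated {x : R →ₐ[k] k} {a : A} (ha : counit (R := k) a ≠ 0)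
    (hiso : ∀ c ∈ stabPts A x, c a ≠ 0 → c = Bialgebra.counitAlgHom k A) : (stabPts A x).Finite := by
  classical
  let inv : (A →ₐ[k] k) → (A →ₐ[k] k) := fun c => c.comp (HopfAlgebra.antipodeAlgHom k A)
  let b : (A →ₐ[k] k) → A := fun c => actAlgHom (R := A) (inv c) a
  have hb : ∀ c d, c ∈ stabPts A x → d ∈ stabPts A x → d (b c) ≠ 0 → d = c := by
    intro c d hc hd hne
    rw [← AlgHom.comp_apply, comp_actAlgHom] at hne
    have hmem : GLin.actPt k (inv c) d ∈ stabPts A x := by
      show GLin.actPt k (GLin.actPt k (inv c) d) x = x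
      rw [← actPt_actPt, show GLin.actPt k d x = x from hd]
      conv_rhs => rw [← actPt_antipode c x, show GLin.actPt k c x = x from hc]
    have h := hiso _ hmem hne
    have h' := congrArg (GLin.actPt k (inv (inv c))) h
    rw [actPt_antipode, show inv (inv c) = c from
      AlgHom.ext fun a => congrArg c (antipode_antipode a), actPt_counit_self] at h'
    exact h'
  let J : Ideal A := GLin.stabIdeal k A x ⊔ Ideal.span (b '' stabPts A x)
  have hJ : J = ⊤ := by
    by_contra hne
    obtain ⟨d, hd⟩ := exists_algHom_le_ker (k := k) hne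
    have hdS : d ∈ stabPts A x := (le_ker_iff_mem_stabPts x d).1 (le_sup_left.trans hd)
    refine ha ?_
    have h0 : d (b d) = 0 := hd (Ideal.mem_sup_right (Ideal.subset_span ⟨d, hdS, rfl⟩))
    rw [← AlgHom.comp_apply, comp_actAlgHom,
      orbitHom_self_comp_antipode, Bialgebra.counitAlgHom_apply] at h0
    exact h0
  obtain ⟨u, hu, v, hv, huv⟩ := Submodule.mem_sup.1 (hJ ▸ Submodule.mem_top (x := (1 : A)))
  obtain ⟨T, hTsub, hvT⟩ := Submodule.mem_span_finite_of_mem_span hv
  have : Nonempty (A →ₐ[k] k) := ⟨Bialgebra.counitAlgHom k A⟩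
  have hT' : ∀ t ∈ T, ∃ c, c ∈ stabPts A x ∧ b c = t := fun t ht => hTsub ht
  choose! c hc using hT'
  refine (T.finite_toSet.image c).subset fun d hd => ?_
  by_contra hne
  have hv0 : d v = 0 := by
    refine (Ideal.span_le (I := RingHom.ker d)).2 (fun t ht => RingHom.mem_ker.2 ?_) hvT
    by_contra h0
    exact hne ⟨t, ht, (hb (c t) d (hc t ht).1 hd (by rwa [(hc t ht).2])).symm⟩
  have : d (1 : A) = 0 := by
    rw [← huv, map_add, hv0, add_zero]
    exact (le_ker_iff_mem_stabPts x d).2 hd hu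
  simp at this

/-- Near a point with finite stabiliser all stabilisers are finite. -/
theorem exists_nhd_finite_stabPts [Algebra.FiniteType k R] {z : R →ₐ[k] k} (hz : (stabPts A z).Finite) :
    ∃ f : R, z f ≠ 0 ∧ ∀ w : R →ₐ[k] k, w f ≠ 0 → (stabPts A w).Finite := by
  classical
  let I : Ideal (R ⊗[k] A) := Ideal.span (Set.range fun f : R =>
    Comod.coact (k := k) (A := A) f - f ⊗ₜ[k] (1 : A))
  let π : R ⊗[k] A →ₐ[k] (R ⊗[k] A) ⧸ I := Ideal.Quotient.mkₐ k I
  -- points of the universal stabiliser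
  have hpt : ∀ (w : R →ₐ[k] k) (c : A →ₐ[k] k), c ∈ stabPts A w →
      ∃ p : (R ⊗[k] A) ⧸ I →ₐ[k] k, ∀ r a, p (π (r ⊗ₜ a)) = w r * c a := by
    intro w c hc
    let p₀ : R ⊗[k] A →ₐ[k] k := Algebra.TensorProduct.lift w c fun _ _ => mul_comm _ _
    have h0 : ∀ y ∈ I, p₀ y = 0 := by
      refine (Ideal.span_le (I := RingHom.ker p₀)).2 ?_
      rintro _ ⟨f, rfl⟩
      have h1 : ∀ t : R ⊗[k] A, p₀ t = c (sliceL w.toLinearMap t) := by
        intro t
        induction t using TensorProduct.induction_on with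
        | zero => simp
        | add p q hp hq => simp only [map_add, hp, hq]
        | tmul a b => simpa [p₀] using Algebra.TensorProduct.lift_tmul w c (fun _ _ => mul_comm _ _) a b
      rw [SetLike.mem_coe, RingHom.mem_ker, map_sub, h1, ← cf_apply, ← orbitHom_eq_cf, ← AlgHom.comp_apply,
        ← actPt_eq, show GLin.actPt k c w = w from hc]
      rw [show p₀ (f ⊗ₜ 1) = w f * c 1 from Algebra.TensorProduct.lift_tmul w c (fun _ _ => mul_comm _ _) f 1, map_one, mul_one, sub_self]
    exact ⟨Ideal.Quotient.liftₐ I p₀ h0, fun r a => Algebra.TensorProduct.lift_tmul w c (fun _ _ => mul_comm _ _) r a⟩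
  have hsurj : ∀ (w : R →ₐ[k] k) (p : (R ⊗[k] A) ⧸ I →ₐ[k] k),
      p.comp (π.comp Algebra.TensorProduct.includeLeft) = w →
        p.comp (π.comp Algebra.TensorProduct.includeRight) ∈ stabPts A w := by
    intro w p hp
    let c := p.comp (π.comp Algebra.TensorProduct.includeRight)
    refine AlgHom.ext fun f => ?_
    have h1 : ∀ t : R ⊗[k] A, p (π t) = c (sliceL w.toLinearMap t) := by
      intro t
      induction t using TensorProduct.induction_on with
      | zero => simp
      | add p q hp hq => simp only [map_add, hp, hq]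
      | tmul a b =>
        rw [sliceL_tmul, map_smul, show a ⊗ₜ[k] b = (a ⊗ₜ[k] (1 : A)) * ((1 : R) ⊗ₜ[k] b) by simp,
          map_mul, map_mul, ← hp]
        rfl
    rw [actPt_eq, AlgHom.comp_apply, orbitHom_eq_cf, cf_apply, ← h1]
    have : π (Comod.coact (k := k) (A := A) f) = π (f ⊗ₜ 1) :=
      Ideal.Quotient.mk_eq_mk_iff_sub_mem _ _ |>.2 (Ideal.subset_span ⟨f, rfl⟩)
    rw [this, ← hp]
    rfl
  have : Algebra.FiniteType k (R ⊗[k] A) := Algebra.FiniteType.trans (S := R) ‹_› inferInstance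
  have hCk : Algebra.FiniteType k ((R ⊗[k] A) ⧸ I) :=
    Algebra.FiniteType.of_surjective π (Ideal.Quotient.mkₐ_surjective k I)
  have hCR : Algebra.FiniteType R ((R ⊗[k] A) ⧸ I) :=
    Algebra.FiniteType.of_restrictScalars_finiteType k R _
  have hover : ∀ (w : R →ₐ[k] k) (c : A →ₐ[k] k) (p : (R ⊗[k] A) ⧸ I →ₐ[k] k),
      (∀ r a, p (π (r ⊗ₜ a)) = w r * c a) → ∀ r, p (algebraMap R _ r) = w r := fun w c p hp r => by
    show p (π (r ⊗ₜ 1)) = w r
    rw [hp, map_one, mul_one]
  have hone : ∀ w : R →ₐ[k] k, Bialgebra.counitAlgHom k A ∈ stabPts A w := fun w =>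
    AlgHom.ext fun f => by simp [actPt_eq, counit_orbitHom]
  obtain ⟨p₀, hp₀⟩ := hpt z _ (hone z)
  let q : PrimeSpectrum ((R ⊗[k] A) ⧸ I) := ⟨RingHom.ker p₀, RingHom.ker_isPrime p₀⟩
  have : q.asIdeal.IsPrime := q.isPrime
  -- the fibre through `q` is finite and discrete
  have hQF : Algebra.QuasiFiniteAt R q.asIdeal := by
    refine Algebra.QuasiFiniteAt.of_isOpen_singleton_fiber q ?_
    let m : Ideal ((R ⊗[k] A) ⧸ I) := (RingHom.ker z).map (algebraMap R ((R ⊗[k] A) ⧸ I))
    have hbase : q.comap (algebraMap R _) = ⟨RingHom.ker z, RingHom.ker_isPrime z⟩ :=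
      PrimeSpectrum.ext (Ideal.ext fun r => by
        show p₀ (algebraMap R _ r) = 0 ↔ z r = 0
        rw [hover z _ p₀ hp₀])
    have hzpt : ∀ p : ((R ⊗[k] A) ⧸ I) ⧸ m →ₐ[k] k,
        (p.comp (Ideal.Quotient.mkₐ k m)).comp (π.comp Algebra.TensorProduct.includeLeft) = z := by
      intro p
      refine (algHom_eq_of_ker_le fun r hr => ?_).symm
      rw [RingHom.mem_ker]
      show p (Ideal.Quotient.mk m (algebraMap R _ r)) = 0
      rw [Ideal.Quotient.eq_zero_iff_mem.2 (Ideal.mem_map_of_mem _ hr), map_zero]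
    have hfinB : Finite (((R ⊗[k] A) ⧸ I) ⧸ m →ₐ[k] k) := by
      have := hz.to_subtype
      refine Finite.of_injective (β := stabPts A z)
        (fun p => ⟨_, hsurj z _ (hzpt p)⟩) fun p₁ p₂ h12 => Ideal.Quotient.algHom_ext k ?_
      refine Ideal.Quotient.algHom_ext k (Algebra.TensorProduct.ext ?_ ?_)
      · exact (hzpt p₁).trans (hzpt p₂).symm
      · exact congrArg Subtype.val h12
    have : Algebra.FiniteType k (((R ⊗[k] A) ⧸ I) ⧸ m) :=
      Algebra.FiniteType.of_surjective (Ideal.Quotient.mkₐ k m) (Ideal.Quotient.mkₐ_surjective k m)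
    have := moduleFinite_of_finite_points (k := k) (B := ((R ⊗[k] A) ⧸ I) ⧸ m) hfinB
    have : IsArtinianRing (((R ⊗[k] A) ⧸ I) ⧸ m) := IsArtinianRing.of_finite k _
    have hdisc : DiscreteTopology (PrimeSpectrum.zeroLocus (m : Set ((R ⊗[k] A) ⧸ I))) := by
      rw [← Ideal.mk_ker (I := m), ← range_comap_of_surjective _ _ Ideal.Quotient.mk_surjective]
      exact (PrimeSpectrum.isClosedEmbedding_comap_of_surjective _ _
        Ideal.Quotient.mk_surjective).toIsEmbedding.toHomeomorph.symm.isEmbedding.discreteTopology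
    have hsub : PrimeSpectrum.comap (algebraMap R ((R ⊗[k] A) ⧸ I)) ⁻¹' {q.comap (algebraMap R _)} ⊆
        PrimeSpectrum.zeroLocus (m : Set ((R ⊗[k] A) ⧸ I)) := fun P hP => by
      rw [PrimeSpectrum.mem_zeroLocus, SetLike.coe_subset_coe, Ideal.map_le_iff_le_comap]
      exact ((congrArg PrimeSpectrum.asIdeal (hP.trans hbase)).symm).le
    have := DiscreteTopology.of_subset hdisc hsub
    exact isOpen_discrete _
  obtain ⟨r, hrq, hr⟩ := Algebra.zariskisMainProperty_iff'.1
    (Algebra.ZariskisMainProperty.of_finiteType (R := R) q.asIdeal)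
  let s : R ⊗[k] A →ₐ[k] R := (Algebra.TensorProduct.rid k k R).toAlgHom.comp
    (Algebra.TensorProduct.map (AlgHom.id k R) (Bialgebra.counitAlgHom k A))
  obtain ⟨r₀, rfl⟩ := Ideal.Quotient.mkₐ_surjective k I r
  have hps : ∀ (w : R →ₐ[k] k) (p : (R ⊗[k] A) ⧸ I →ₐ[k] k),
      (∀ r a, p (π (r ⊗ₜ a)) = w r * Bialgebra.counitAlgHom k A a) → ∀ t, p (π t) = w (s t) := by
    intro w p hp t
    induction t using TensorProduct.induction_on with
    | zero => simp
    | add p q hp hq => simp only [map_add, hp, hq]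
    | tmul a b => simp [hp, s, mul_comm]
  refine ⟨s r₀, fun h0 => hrq (RingHom.mem_ker.2 (by rw [hps z p₀ hp₀]; exact h0)), fun w hw => ?_⟩
  obtain ⟨p, hp⟩ := hpt w _ (hone w)
  let q' : PrimeSpectrum ((R ⊗[k] A) ⧸ I) := ⟨RingHom.ker p, RingHom.ker_isPrime p⟩
  have : q'.asIdeal.IsPrime := q'.isPrime
  have hQ' : Algebra.QuasiFiniteAt R q'.asIdeal := Algebra.ZariskisMainProperty.quasiFiniteAt _
    (Algebra.zariskisMainProperty_iff'.2 ⟨π r₀, fun h => hw (by rw [← hps w p hp]; exact RingHom.mem_ker.1 h), hr⟩)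
  have hopen := (Algebra.quasiFiniteAt_iff_isOpen_singleton_fiber q').1 hQ'
  obtain ⟨O, hO, hOq⟩ := isOpen_induced_iff.1 hopen
  obtain ⟨_, ⟨b, rfl⟩, hqb, hbO⟩ := PrimeSpectrum.isTopologicalBasis_basic_opens.exists_subset_of_mem_open
    (show q' ∈ O from by
      have := congrArg (fun S => (⟨q', rfl⟩ : PrimeSpectrum.comap (algebraMap R ((R ⊗[k] A) ⧸ I)) ⁻¹'
        {q'.comap (algebraMap R _)}) ∈ S) hOq
      simpa using this) hO
  obtain ⟨b, rfl⟩ := Ideal.Quotient.mkₐ_surjective k I b
  have hb0 : ∀ (c : A →ₐ[k] k) (pc : (R ⊗[k] A) ⧸ I →ₐ[k] k),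
      (∀ r a, pc (π (r ⊗ₜ a)) = w r * c a) → ∀ t, pc (π t) = c (sliceL w.toLinearMap t) := by
    intro c pc hpc t
    induction t using TensorProduct.induction_on with
    | zero => simp
    | add p q hp hq => simp only [map_add, hp, hq]
    | tmul a b => simp [hpc]
  refine finite_stabPts_of_isolated (a := sliceL w.toLinearMap b)
    (fun h0 => hqb (RingHom.mem_ker.2 (by rw [hb0 _ p hp]; exact h0))) fun c hc hca => ?_
  obtain ⟨pc, hpc⟩ := hpt w c hc
  let qc : PrimeSpectrum ((R ⊗[k] A) ⧸ I) := ⟨RingHom.ker pc, RingHom.ker_isPrime pc⟩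
  have hqc : qc ∈ O := hbO fun h => hca (by rw [← hb0 c pc hpc]; exact h)
  have hmem : qc ∈ PrimeSpectrum.comap (algebraMap R ((R ⊗[k] A) ⧸ I)) ⁻¹' {q'.comap (algebraMap R _)} :=
    PrimeSpectrum.ext (Ideal.ext fun r => by
      show pc (algebraMap R _ r) = 0 ↔ p (algebraMap R _ r) = 0
      rw [hover w c pc hpc, hover w _ p hp])
  have heq : qc = q' := by
    have := (congrArg (fun S => (⟨qc, hmem⟩ : PrimeSpectrum.comap (algebraMap R ((R ⊗[k] A) ⧸ I)) ⁻¹'
      {q'.comap (algebraMap R _)}) ∈ S) hOq).mp hqc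
    exact congrArg Subtype.val this
  have hpp : pc = p := algHom_eq_of_ker_le (congrArg PrimeSpectrum.asIdeal heq).le
  refine AlgHom.ext fun a => ?_
  have h1 := hpc 1 a
  rw [hpp, hp, map_one, one_mul, one_mul] at h1
  exact h1.symm

/-- A stable point is separated by an invariant from the points with infinite stabiliser. -/
theorem exists_invariant_ne_zero_of_isPtStable [Algebra.FiniteType k R] (hG : IsLinearlyReductive k A)
    {x : R →ₐ[k] k} (hx : IsPtStable k A x) :
    ∃ f ∈ GLin.invariants k A R, x f ≠ 0 ∧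
      ∀ y : R →ₐ[k] k, y f ≠ 0 → (stabPts A y).Finite := by
  classical
  have : IsNoetherianRing A := Algebra.FiniteType.isNoetherianRing k A
  let W := {w : R →ₐ[k] k // ¬ (stabPts A w).Finite}
  let I : Ideal R := ⨅ w : W, RingHom.ker (GLin.orbitHom k A w.1)
  have hI : IsSubcomod (k := k) (A := A) (I.restrictScalars k) := by
    rw [show I.restrictScalars k = ⨅ w : W, (RingHom.ker (GLin.orbitHom k A w.1)).restrictScalars k from
      Submodule.restrictScalars_iInf ..]
    exact isSubcomod_iInf fun w => isSubcomod_ker_orbitHom w.1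
  by_contra hcon
  push Not at hcon
  obtain ⟨z, hz, hzx⟩ := exists_point_over (exists_totalIntegral hG R) hI
    (x.comp (GLin.invariants k A R).val) fun f hf => by
      by_contra hne
      obtain ⟨y, hy, hyinf⟩ := hcon f f.2 hne
      exact hy (inOrbitClosure_refl (A := A) y ((Ideal.mem_iInf.1 hf) ⟨y, hyinf⟩))
  have hzfin : (stabPts A z).Finite := (isPtStable_iff_forall_fibre hG x).1 hx z hzx
  obtain ⟨f, hzf, hf⟩ := exists_nhd_finite_stabPts hzfin
  obtain ⟨N, hN⟩ := IsNoetherianRing.isNilpotent_nilradical A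
  refine hzf (eq_zero_of_pow_eq_zero (n := N) ?_)
  rw [← map_pow]
  refine hz (Ideal.mem_iInf.2 fun ⟨w, hw⟩ => ?_)
  rw [RingHom.mem_ker, map_pow]
  have hn : IsNilpotent (GLin.orbitHom k A w f) := by
    by_contra hc
    obtain ⟨g, hg⟩ := exists_algHom_ne_zero (k := k) hc
    have hfin := hf (GLin.actPt k g w) hg
    obtain ⟨g', hg'⟩ := exists_eq_actPt_symm (x := w) ⟨g, rfl⟩
    exact hw (by rw [hg']; exact stabPts_actPt g' hfin)
  have h2 := Ideal.pow_mem_pow (mem_nilradical.2 hn) N
  rw [hN] at h2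
  simpa using h2

/-- The stable locus is cut out by invariants. -/
theorem exists_invariants_cutting_out_stable [Algebra.FiniteType k R] (hG : IsLinearlyReductive k A) :
    ∃ S : Set R, S ⊆ (GLin.invariants k A R : Set R) ∧
      ∀ x : R →ₐ[k] k, IsPtStable k A x ↔ ∃ f ∈ S, x f ≠ 0 := by
  refine ⟨{f | f ∈ GLin.invariants k A R ∧ ∀ y : R →ₐ[k] k, y f ≠ 0 → (stabPts A y).Finite},
    fun f hf => hf.1, fun x => ⟨fun hx => ?_, fun ⟨f, hf, hxf⟩ => ?_⟩⟩
  · obtain ⟨f, h1, h2, h3⟩ := exists_invariant_ne_zero_of_isPtStable hG hx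
    exact ⟨f, ⟨h1, h3⟩, h2⟩
  · refine (isPtStable_iff_forall_fibre hG x).2 fun z hz => hf.2 z ?_
    rwa [show z f = x f from AlgHom.congr_fun hz ⟨f, hf.1⟩]

end Groth.Agent.HopfLib
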