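import Groth.Agent.HopfLib.Comod
import Groth.Prelude.Def_ComodTens
import Groth.Prelude.Def_ComodSub
import Groth.Prelude.Def_SGA3
import Groth.Prelude.Def_Dyn
import Mathlib.RingTheory.HopfAlgebra.GroupLike
import Mathlib.RingTheory.FiniteType
import Mathlib.LinearAlgebra.Matrix.Determinant.Basic
import Mathlib.LinearAlgebra.Basis.VectorSpace
import Mathlib.LinearAlgebra.FiniteDimensional.Basic
import Mathlib.RingTheory.TensorProduct.Free
import Mathlib.LinearAlgebra.Matrix.Adjugate

/-!
# Chevalley's theorem: subgroups as stabilisers of lines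
-/

open TensorProduct HopfRep

universe u

namespace Groth.Agent.HopfLib

set_option linter.unusedSectionVars false
set_option maxHeartbeats 800000

section Pts

variable {k : Type u} [Field k] {A : Type u} [CommRing A] [HopfAlgebra k A]
  {R : Type u} [CommRing R] [Algebra k R]

/-- `a ↦ Σ a₁ ⊗ g(a₂)`. -/
noncomputable def ptShift (g : A →ₐ[k] R) : A →ₐ[k] A ⊗[k] R :=
  (Algebra.TensorProduct.map (AlgHom.id k A) g).comp (Bialgebra.comulAlgHom k A)

theorem ptShift_eq (g : A →ₐ[k] R) (a : A) :
    ptShift g a = LinearMap.lTensor A g.toLinearMap (CoalgebraStruct.comul (R := k) (A := A) a) := by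
  rw [ptShift]
  simp only [AlgHom.comp_apply, Bialgebra.comulAlgHom_apply]
  generalize CoalgebraStruct.comul (R := k) a = t
  induction t using TensorProduct.induction_on with
  | zero => simp
  | add p q hp hq => simp only [map_add, hp, hq]
  | tmul p q => simp

theorem apply_eq_of_ptShift (g : A →ₐ[k] R) {x : A} {c : R} (h : ptShift g x = x ⊗ₜ c) :
    g x = CoalgebraStruct.counit (R := k) x • c := by
  have h1 := congrArg (fun t => TensorProduct.lid k R ((CoalgebraStruct.counit (R := k) (A := A)).rTensor R t)) h
  simp only [LinearMap.rTensor_tmul, TensorProduct.lid_tmul] at h1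
  refine Eq.trans ?_ h1
  rw [ptShift_eq]
  have h2 := congrArg (fun t => g (TensorProduct.lid k A t)) (Coalgebra.rTensor_counit_comul (R := k) x)
  simp only [TensorProduct.lid_tmul, one_smul] at h2
  refine h2.symm.trans ?_
  generalize CoalgebraStruct.comul (R := k) x = t
  induction t using TensorProduct.induction_on with
  | zero => simp
  | add p q hp hq => simp only [map_add, hp, hq]
  | tmul p q => simp

theorem isUnit_of_ptShift (g : A →ₐ[k] R) {x : A} (hx : CoalgebraStruct.counit (R := k) x = 1) {c : R}
    (h : ptShift g x = x ⊗ₜ c) : IsUnit c := by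
  let F : A ⊗[k] R →ₗ[k] R := LinearMap.mul' k R ∘ₗ
    (g.toLinearMap ∘ₗ HopfAlgebraStruct.antipode k (A := A)).rTensor R
  have h1 : F (ptShift g x) = g (LinearMap.mul' k A
      ((HopfAlgebraStruct.antipode k).rTensor A (CoalgebraStruct.comul (R := k) x))) := by
    rw [ptShift_eq]
    generalize CoalgebraStruct.comul (R := k) x = t
    induction t using TensorProduct.induction_on with
    | zero => simp
    | add p q hp hq => simp only [map_add, hp, hq]
    | tmul p q => simp [F]
  rw [h, HopfAlgebra.mul_antipode_rTensor_comul_apply, hx, map_one, map_one] at h1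
  exact IsUnit.of_mul_eq_one_right (g (HopfAlgebraStruct.antipode k x)) (by simpa [F] using h1)

end Pts

variable {k : Type u} [Field k] {A B : Type u} [CommRing A] [HopfAlgebra k A] [Algebra.FiniteType k A]
  [CommRing B] [HopfAlgebra k B]

/-- A finite family of functions whose vanishing under points cuts out `ker π`, built from a finite
subcomodule. -/
theorem exists_matrix_cutting_out (π : A →ₐc[k] B) (hπ : Function.Surjective π) :
    ∃ (d e : ℕ) (a : Fin d ⊕ Fin e → Fin d ⊕ Fin e → A),
      (∀ s t, CoalgebraStruct.counit (R := k) (a s t) = if s = t then 1 else 0) ∧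
      (∀ s t, CoalgebraStruct.comul (R := k) (a s t) = ∑ l, a s l ⊗ₜ[k] a l t) ∧
      (∀ (j : Fin e) (i : Fin d), π (a (Sum.inr j) (Sum.inl i)) = 0) ∧
      ∀ (R : Type u) [CommRing R] [Algebra k R] (g : A →ₐ[k] R),
        (∀ (j : Fin e) (i : Fin d), g (a (Sum.inr j) (Sum.inl i)) = 0) →
          ∀ y ∈ RingHom.ker (π : A →+* B), g y = 0 := by
  classical
  have : IsNoetherianRing A := Algebra.FiniteType.isNoetherianRing k A
  obtain ⟨gens, hgens⟩ := IsNoetherian.noetherian (RingHom.ker (π : A →+* B))
  obtain ⟨W, hW, hgW, hWs⟩ := exists_finite_subcomod (k := k) (A := A) (V := A) (gens : Set A)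
    gens.finite_toSet
  have : Module.Finite k W := hW
  let U : Submodule k W := LinearMap.ker ((π : A →ₐ[k] B).toLinearMap ∘ₗ W.subtype)
  obtain ⟨C, hC⟩ := U.exists_isCompl
  have : Module.Free k U := Module.Free.of_divisionRing k U
  have : Module.Free k C := Module.Free.of_divisionRing k C
  let β : Module.Basis (Fin (Module.finrank k U) ⊕ Fin (Module.finrank k C)) k W :=
    ((Module.finBasis k U).prod (Module.finBasis k C)).map (Submodule.prodEquivOfIsCompl U C hC)
  have hβl : ∀ i, β (Sum.inl i) = (Module.finBasis k U i : W) := fun i => by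
    simp [β, Submodule.coe_prodEquivOfIsCompl']
  have hβr : ∀ j, β (Sum.inr j) = (Module.finBasis k C j : W) := fun j => by
    simp [β, Submodule.coe_prodEquivOfIsCompl']
  obtain ⟨P, hP⟩ := W.subtype.exists_leftInverse_of_injective W.ker_subtype
  let c : Fin (Module.finrank k U) ⊕ Fin (Module.finrank k C) → A →ₗ[k] k := fun s => β.coord s ∘ₗ P
  have hcβ : ∀ s t, c s (β t : A) = if s = t then 1 else 0 := fun s t => by
    have hPt : P (β t : A) = β t := LinearMap.congr_fun hP (β t)
    simp only [c, LinearMap.comp_apply, hPt, Module.Basis.coord_apply, Module.Basis.repr_self,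
      Finsupp.single_apply, eq_comm]
  let a : Fin (Module.finrank k U) ⊕ Fin (Module.finrank k C) →
      Fin (Module.finrank k U) ⊕ Fin (Module.finrank k C) → A := fun s t => cf (A := A) (c s) (β t : A)
  have hexp : ∀ t, CoalgebraStruct.comul (R := k) (β t : A) = ∑ s, (β s : A) ⊗ₜ[k] a s t := by
    intro t
    have key : ∀ y : W ⊗[k] A, W.subtype.rTensor A y =
        ∑ s, (β s : A) ⊗ₜ[k] sliceL (c s) (W.subtype.rTensor A y) := by
      intro y
      induction y using TensorProduct.induction_on with
      | zero => simp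
      | add p q hp hq => simp only [map_add, TensorProduct.tmul_add, Finset.sum_add_distrib, ← hp, ← hq]
      | tmul w q =>
        conv_lhs => rw [LinearMap.rTensor_tmul, ← β.sum_repr w, map_sum, TensorProduct.sum_tmul]
        refine Finset.sum_congr rfl fun s _ => ?_
        have hPw : P (w : A) = w := LinearMap.congr_fun hP w
        rw [LinearMap.rTensor_tmul, sliceL_tmul, map_smul, TensorProduct.smul_tmul]
        simp [c, hPw]
    obtain ⟨y, hy⟩ := hWs (β t : A) (β t).2
    have := key y
    rw [hy] at this
    exact this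
  refine ⟨_, _, a, fun s t => ?_, fun s t => ?_, fun j i => ?_, fun R _ _ g hg => ?_⟩
  · rw [show a s t = cf (A := A) (c s) (β t : A) from rfl, counit_cf, hcβ]
  · have h := IsComodHom.coact_apply (isComodHom_cf (A := A) (c s)) (β t : A)
    rw [show CoalgebraStruct.comul (R := k) (a s t) =
      Comod.coact (k := k) (A := A) (cf (A := A) (c s) (β t : A)) from rfl, h,
      show Comod.coact (k := k) (A := A) (β t : A) = CoalgebraStruct.comul (R := k) (β t : A) from rfl,
      hexp, map_sum]
    rfl
  · have hu : π (β (Sum.inl i) : A) = 0 := by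
      rw [hβl]
      exact LinearMap.mem_ker.1 (Module.finBasis k U i).2
    have h1 := congrArg (TensorProduct.map (π : A →ₐ[k] B).toLinearMap (π : A →ₐ[k] B).toLinearMap) (hexp (Sum.inl i))
    have h2 : TensorProduct.map (π : A →ₐ[k] B).toLinearMap (π : A →ₐ[k] B).toLinearMap
        (CoalgebraStruct.comul (R := k) (β (Sum.inl i) : A)) = 0 := by
      have h3 := LinearMap.congr_fun (CoalgHomClass.map_comp_comul π) (β (Sum.inl i) : A)
      simp only [LinearMap.comp_apply] at h3
      refine h3.trans ?_
      show CoalgebraStruct.comul (R := k) (π (β (Sum.inl i) : A)) = 0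
      rw [hu, map_zero]
    rw [h2, map_sum, Fintype.sum_sum_type] at h1
    simp only [TensorProduct.map_tmul] at h1
    have hl : ∀ i' : Fin (Module.finrank k U), (π : A →ₐ[k] B).toLinearMap (β (Sum.inl i') : A) = 0 := fun i' => by
      rw [hβl]; exact LinearMap.mem_ker.1 (Module.finBasis k U i').2
    simp only [hl, TensorProduct.zero_tmul, Finset.sum_const_zero, zero_add] at h1
    have hli : LinearIndependent k fun j' => (π : A →ₐ[k] B).toLinearMap (β (Sum.inr j') : A) := by
      have := (Module.finBasis k C).linearIndependent.map'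
        (((π : A →ₐ[k] B).toLinearMap ∘ₗ W.subtype) ∘ₗ C.subtype)
        (LinearMap.ker_eq_bot'.2 fun x hx => Subtype.ext ((Submodule.disjoint_def.1 hC.disjoint) x.1 (LinearMap.mem_ker.2 hx) x.2))
      simpa [hβr, Function.comp_def] using this
    obtain ⟨L, hL⟩ := LinearMap.exists_leftInverse_of_injective _
      (linearIndependent_iff_injective_finsuppLinearCombination.1 hli |> LinearMap.ker_eq_bot.2)
    have h4 := congrArg (sliceL (Finsupp.lapply j ∘ₗ L)) h1
    simp only [map_zero, map_sum, sliceL_tmul, LinearMap.comp_apply] at h4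
    have hLj : ∀ j', L ((π : A →ₐ[k] B).toLinearMap (β (Sum.inr j') : A)) = Finsupp.single j' 1 := fun j' => by
      have := LinearMap.congr_fun hL (Finsupp.single j' 1)
      rw [LinearMap.comp_apply, Finsupp.linearCombination_single, one_smul] at this
      exact this
    simp only [hLj, Finsupp.lapply_apply, Finsupp.single_apply] at h4
    rw [Finset.sum_eq_single j (fun j' _ hne => by rw [if_neg hne, zero_smul]) (by simp), if_pos rfl, one_smul] at h4
    exact h4.symm
  · intro y hy
    rw [← hgens] at hy
    refine RingHom.mem_ker.1 ((Ideal.span_le (I := RingHom.ker g)).2 (fun z hz => ?_) hy)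
    rw [SetLike.mem_coe, RingHom.mem_ker]
    have hzk : z ∈ RingHom.ker (π : A →+* B) := hgens ▸ Submodule.subset_span hz
    have hzU : (⟨z, hgW hz⟩ : W) ∈ U := LinearMap.mem_ker.2 (show π z = 0 from RingHom.mem_ker.1 hzk)
    have key : ∀ i, g (β (Sum.inl i) : A) = 0 := by
      intro i
      have h1 := congrArg (fun t => g (TensorProduct.lid k A
        ((CoalgebraStruct.counit (R := k) (A := A)).rTensor A t))) (hexp (Sum.inl i))
      rw [Coalgebra.rTensor_counit_comul, TensorProduct.lid_tmul, one_smul] at h1
      rw [h1, map_sum, map_sum, map_sum, Fintype.sum_sum_type]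
      simp only [LinearMap.rTensor_tmul, TensorProduct.lid_tmul, map_smul]
      have hε : ∀ i', CoalgebraStruct.counit (R := k) (β (Sum.inl i') : A) = 0 := fun i' => by
        have := congrArg (CoalgebraStruct.counit (R := k) (A := B))
          (show π (β (Sum.inl i') : A) = 0 by rw [hβl]; exact LinearMap.mem_ker.1 (Module.finBasis k U i').2)
        rw [map_zero] at this
        rw [← this]
        exact (LinearMap.congr_fun (CoalgHomClass.counit_comp π) (β (Sum.inl i') : A)).symm
      simp [hε, hg, map_sum]
    have hmem : (⟨z, hgW hz⟩ : W) = ∑ i, (Module.finBasis k U).repr ⟨_, hzU⟩ i • β (Sum.inl i) := by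
      simp only [hβl]
      have h5 := congrArg (Subtype.val : U → W) ((Module.finBasis k U).sum_repr ⟨_, hzU⟩).symm
      rw [Submodule.coe_sum] at h5
      exact h5
    have := congrArg (fun w : W => g (w : A)) hmem
    simpa [key] using this

/-- Chevalley: a closed subgroup is the stabiliser of a line, on which it acts trivially if its
occurring characters have occurring negative multiples. -/
theorem exists_stabilizesLine_trivial (π : A →ₐc[k] B) (hπ : Function.Surjective π)
    (hocc : ∀ χ : B, IsGroupLikeElem k χ →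
      (∃ (V : Type u) (_ : AddCommGroup V) (_ : Module k V) (_ : Comod k A V) (_ : Module.Finite k V) (v : V),
          v ≠ 0 ∧ LinearMap.lTensor V π.toLinearMap (Comod.coact (k := k) (A := A) v) = v ⊗ₜ[k] χ) →
      ∃ m : ℕ, 0 < m ∧ ∃ ψ : B, IsGroupLikeElem k ψ ∧ ψ * χ ^ m = 1 ∧
        ∃ (V : Type u) (_ : AddCommGroup V) (_ : Module k V) (_ : Comod k A V) (_ : Module.Finite k V) (v : V),
          v ≠ 0 ∧ LinearMap.lTensor V π.toLinearMap (Comod.coact (k := k) (A := A) v) = v ⊗ₜ[k] ψ) :
    ∃ (V : Type u) (_ : AddCommGroup V) (_ : Module k V) (_ : Comod k A V) (_ : Module.Finite k V) (v : V),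
      v ≠ 0 ∧ Dyn.Represents k A (RingHom.ker (π : A →+* B)) (fun R _ _ g => SGA3.StabilizesLine k A v R g) ∧
      LinearMap.lTensor V π.toLinearMap (Comod.coact (k := k) (A := A) v) = v ⊗ₜ[k] (1 : B) := by
  classical
  obtain ⟨d, e, a, hε, hΔ, hπa, hcut⟩ := exists_matrix_cutting_out π hπ
  -- the minors
  let rowsel : Option (Fin d × Fin e) → Fin d → Fin d ⊕ Fin e := fun o i =>
    o.elim (Sum.inl i) fun p => if i = p.1 then Sum.inr p.2 else Sum.inl i
  let F : Option (Fin d × Fin e) → A := fun o => Matrix.det (Matrix.of fun l i => a (rowsel o l) (Sum.inl i))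
  have hF0 : CoalgebraStruct.counit (R := k) (F none) = 1 := by
    show Bialgebra.counitAlgHom k A _ = 1
    rw [AlgHom.map_det]
    convert Matrix.det_one (n := Fin d) (R := k)
    refine Matrix.ext fun l i => ?_
    simp [rowsel, hε, Matrix.one_apply, Sum.inl_injective.eq_iff]
  -- points killing the corner act on minors by a scalar
  have hshift : ∀ (R : Type u) [CommRing R] [Algebra k R] (g : A →ₐ[k] R),
      (∀ (j : Fin e) (i : Fin d), g (a (Sum.inr j) (Sum.inl i)) = 0) →
        ∀ o, ptShift g (F o) = F o ⊗ₜ[k] g (F none) := by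
    intro R _ _ g hg o
    have hmat : (ptShift g).mapMatrix (Matrix.of fun l i => a (rowsel o l) (Sum.inl i)) =
        (Algebra.TensorProduct.includeLeft : A →ₐ[k] A ⊗[k] R).mapMatrix
            (Matrix.of fun l i => a (rowsel o l) (Sum.inl i)) *
          ((Algebra.TensorProduct.includeRight : R →ₐ[k] A ⊗[k] R).comp g).mapMatrix
            (Matrix.of fun l i => a (rowsel none l) (Sum.inl i)) := by
      refine Matrix.ext fun l i => ?_
      simp only [AlgHom.mapMatrix_apply, Matrix.map_apply, Matrix.of_apply, Matrix.mul_apply,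
        AlgHom.comp_apply, Algebra.TensorProduct.includeLeft_apply, Algebra.TensorProduct.includeRight_apply,
        Algebra.TensorProduct.tmul_mul_tmul, mul_one, one_mul]
      rw [ptShift_eq, hΔ, map_sum,
        Fintype.sum_sum_type]
      simp [hg, rowsel]
    show ptShift g (F o) = _
    rw [AlgHom.map_det, hmat, Matrix.det_mul, ← AlgHom.map_det, ← AlgHom.map_det]
    simp [F]
  let gπ : A →ₐ[k] B := π
  have hπF : ∀ o, ptShift gπ (F o) = F o ⊗ₜ[k] π (F none) := hshift B gπ hπa
  let χ := π (F none)
  have hχ : IsGroupLikeElem k χ := by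
    refine ⟨(LinearMap.congr_fun (CoalgHomClass.counit_comp π) (F none)).trans hF0, ?_⟩
    have h := congrArg ((π : A →ₐ[k] B).toLinearMap.rTensor B) (hπF none)
    rw [LinearMap.rTensor_tmul] at h
    refine Eq.trans ?_ h
    rw [ptShift_eq]
    refine (LinearMap.congr_fun (CoalgHomClass.map_comp_comul π) (F none)).symm.trans ?_
    simp only [LinearMap.comp_apply]
    generalize CoalgebraStruct.comul (R := k) (F none) = t
    induction t using TensorProduct.induction_on with
    | zero => simp
    | add p q hp hq => simp only [map_add, hp, hq]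
    | tmul p q => simp [gπ]
  -- a finite subcomodule containing a given tuple
  have hpi : ∀ {ι : Type} [Fintype ι] [DecidableEq ι] (vv : ι → A) (c : B),
      (∀ o, ptShift gπ (vv o) = vv o ⊗ₜ c) → vv ≠ 0 →
      ∃ (V : Type u) (_ : AddCommGroup V) (_ : Module k V) (_ : Comod k A V) (_ : Module.Finite k V) (v : V),
        v ≠ 0 ∧ LinearMap.lTensor V π.toLinearMap (Comod.coact (k := k) (A := A) v) = v ⊗ₜ[k] c ∧
        ∀ (R : Type u) [CommRing R] [Algebra k R] (g : A →ₐ[k] R),
          SGA3.StabilizesLine k A v R g ↔ ∃ r : R, ∀ o, ptShift g (vv o) = vv o ⊗ₜ r := by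
    intro ι _ _ vv c hvv hne
    let cP : Comod k A (ι → A) := ComodTens.Comod.pi fun _ : ι => Comod.regular k A
    obtain ⟨V, hV, hvV, hVs⟩ := @exists_finite_subcomod k _ A _ _ _ (ι → A) _ _ cP {vv} (Set.finite_singleton vv)
    refine ⟨V, inferInstance, inferInstance, ComodSub.Comod.restr cP V hVs, hV, ⟨vv, hvV rfl⟩,
      fun h => hne (congrArg Subtype.val h), ?_, ?_⟩
    all_goals
      have key : ∀ (R : Type u) [CommRing R] [Algebra k R] (g : A →ₐ[k] R) (r : R),
          LinearMap.lTensor V g.toLinearMap ((ComodSub.Comod.restr cP V hVs).coact ⟨vv, hvV rfl⟩) =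
              (⟨vv, hvV rfl⟩ : V) ⊗ₜ r ↔ ∀ o, ptShift g (vv o) = vv o ⊗ₜ r := by
        intro R _ _ g r
        rw [← (Module.Flat.rTensor_preserves_injective_linearMap (M := R) V.subtype V.injective_subtype).eq_iff]
        have e : V.subtype.rTensor R (LinearMap.lTensor V g.toLinearMap
            ((ComodSub.Comod.restr cP V hVs).coact ⟨vv, hvV rfl⟩)) =
            ∑ o, (LinearMap.single k (fun _ : ι => A) o).rTensor R (ptShift g (vv o)) := by
          rw [← LinearMap.comp_apply, LinearMap.rTensor_comp_lTensor, ← LinearMap.lTensor_comp_rTensor,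
            LinearMap.comp_apply, ComodSub.restr_coact_coe,
            show cP.coact vv = _ from ComodTens.pi_coact _ vv, map_sum]
          refine Finset.sum_congr rfl fun o _ => ?_
          rw [ptShift_eq, ← LinearMap.comp_apply, LinearMap.lTensor_comp_rTensor,
            ← LinearMap.rTensor_comp_lTensor, LinearMap.comp_apply]
          rfl
        rw [e, LinearMap.rTensor_tmul, Submodule.subtype_apply]
        refine ⟨fun h o => ?_, fun h => ?_⟩
        · have h1 := congrArg ((LinearMap.proj (R := k) (φ := fun _ : ι => A) o).rTensor R) h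
          rw [map_sum, Finset.sum_eq_single o] at h1
          · rw [← LinearMap.rTensor_comp_apply] at h1
            rw [show LinearMap.proj (R := k) (φ := fun _ : ι => A) o ∘ₗ LinearMap.single k (fun _ : ι => A) o =
              LinearMap.id from LinearMap.ext fun x => by simp, LinearMap.rTensor_id_apply,
              LinearMap.rTensor_tmul] at h1
            exact h1
          · intro o' _ ho'
            rw [← LinearMap.rTensor_comp_apply,
              show LinearMap.proj (R := k) (φ := fun _ : ι => A) o ∘ₗ LinearMap.single k (fun _ : ι => A) o' = 0 from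
              LinearMap.ext fun x => by simp [Pi.single_eq_of_ne (Ne.symm ho')], LinearMap.rTensor_zero,
              LinearMap.zero_apply]
          · simp
        · simp only [h, LinearMap.rTensor_tmul, ← TensorProduct.sum_tmul]
          congr 1
          exact Finset.univ_sum_single vv
    · exact (key B gπ c).2 hvv
    · exact fun R _ _ g => exists_congr fun r => key R g r
  have hne0 : F ≠ 0 := fun h => by
    have := hF0; rw [h] at this; simp at this
  obtain ⟨V₀, i₁, i₂, i₃, i₄, v₀, hv₀, hv₀χ, -⟩ := hpi F χ hπF hne0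
  obtain ⟨m, hm, ψ, hψ, hψχ, V₁, j₁, j₂, j₃, j₄, w, hw, hwψ⟩ :=
    hocc χ hχ ⟨V₀, i₁, i₂, i₃, i₄, v₀, hv₀, hv₀χ⟩
  obtain ⟨f, hf⟩ : ∃ f : V₁ →ₗ[k] k, f w = 1 := by
    obtain ⟨f, hf⟩ := LinearMap.exists_extend_of_notMem (p := (⊥ : Submodule k V₁)) 0
      (show w ∉ (⊥ : Submodule k V₁) by simpa using hw) (1 : k)
    exact ⟨f, hf.2⟩
  let G := cf (A := A) f w
  have hG0 : CoalgebraStruct.counit (R := k) G = 1 := (counit_cf f w).trans hf
  have hπG : ∀ (R : Type u) [CommRing R] [Algebra k R] (g : A →ₐ[k] R) (h : B →ₐ[k] R),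
      (∀ y, g y = h (π y)) → ptShift g G = G ⊗ₜ h ψ := by
    intro R _ _ g h hgh
    rw [ptShift_eq, show CoalgebraStruct.comul (R := k) G = _ from IsComodHom.coact_apply (isComodHom_cf (A := A) f) w]
    have h1 := congrArg (fun t => TensorProduct.map (cf (A := A) f) h.toLinearMap t) hwψ
    simp only [TensorProduct.map_tmul] at h1
    refine Eq.trans ?_ h1
    generalize Comod.coact (k := k) (A := A) w = t
    induction t using TensorProduct.induction_on with
    | zero => simp
    | add p q hp hq => simp only [map_add, hp, hq]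
    | tmul p q => simp [hgh]; rfl
  let vv : Option (Fin d × Fin e) → A := fun o => F o * F none ^ (m - 1) * G
  have hvvπ : ∀ o, ptShift gπ (vv o) = vv o ⊗ₜ[k] (1 : B) := fun o => by
    simp only [vv, map_mul, map_pow, hπF, hπG B gπ (AlgHom.id k B) (fun y => rfl),
      Algebra.TensorProduct.tmul_pow, Algebra.TensorProduct.tmul_mul_tmul, AlgHom.id_apply]
    congr 1
    rw [← pow_succ', Nat.sub_add_cancel hm, mul_comm]
    exact hψχ
  have hvv0 : CoalgebraStruct.counit (R := k) (vv none) = 1 := by
    show Bialgebra.counitAlgHom k A (F none * F none ^ (m - 1) * G) = 1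
    simp only [map_mul, map_pow, Bialgebra.counitAlgHom_apply, hF0, hG0, one_pow, mul_one]
  have hne : vv ≠ 0 := fun h => by
    have := hvv0; rw [h] at this; simp at this
  obtain ⟨V, k₁, k₂, k₃, k₄, v, hv, hv1, hstab⟩ := hpi vv 1 hvvπ hne
  refine ⟨V, k₁, k₂, k₃, k₄, v, hv, fun R _ _ g => ?_, hv1⟩
  show _ ↔ SGA3.StabilizesLine k A v R g
  rw [hstab R g]
  refine ⟨fun hJ => ?_, fun ⟨r, hr⟩ => ?_⟩
  · have hker : RingHom.ker (π : A →+* B) ≤ RingHom.ker g := fun y hy => RingHom.mem_ker.2 (hJ y hy)
    let h : B →ₐ[k] R := AlgHom.liftOfSurjective (π : A →ₐ[k] B) hπ g hker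
    have hgh : ∀ y, g y = h (π y) := fun y =>
      (AlgHom.liftOfSurjective_apply (π : A →ₐ[k] B) hπ g hker y).symm
    refine ⟨g (F none) * g (F none) ^ (m - 1) * h ψ, fun o => ?_⟩
    simp only [vv, map_mul, map_pow, hπG R g h hgh,
      hshift R g (fun j i => by rw [hgh, hπa, map_zero]), Algebra.TensorProduct.tmul_pow,
      Algebra.TensorProduct.tmul_mul_tmul]
  · have hru : IsUnit r := isUnit_of_ptShift g hvv0 (hr none)
    have h0 := apply_eq_of_ptShift g (hr none)
    rw [hvv0, one_smul] at h0
    simp only [vv, map_mul, map_pow] at h0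
    have hu : IsUnit (g (F none) * g (F none) ^ (m - 1) * g G) := h0 ▸ hru
    have hu1 : IsUnit (g (F none)) := (IsUnit.mul_iff.1 (IsUnit.mul_iff.1 hu).1).1
    have hu2 : IsUnit (g (F none) ^ (m - 1) * g G) := by rw [mul_assoc] at hu; exact (IsUnit.mul_iff.1 hu).2
    refine hcut R g fun j => ?_
    -- minors replacing one row vanish, so the row is killed by the adjugate
    let M : Matrix (Fin d) (Fin d) R := Matrix.of fun l i => g (a (Sum.inl l) (Sum.inl i))
    let x : Fin d → R := fun i => g (a (Sum.inr j) (Sum.inl i))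
    have hMdet : M.det = g (F none) := by
      show _ = g (Matrix.det _)
      rw [AlgHom.map_det]
      rfl
    have hminor : ∀ i₀, (M.updateRow i₀ x).det = 0 := by
      intro i₀
      have hz : CoalgebraStruct.counit (R := k) (F (some (i₀, j))) = 0 := by
        show Bialgebra.counitAlgHom k A _ = 0
        rw [AlgHom.map_det]
        refine Matrix.det_eq_zero_of_row_eq_zero i₀ fun i => ?_
        simp [rowsel, hε]
      have h1 := apply_eq_of_ptShift g (hr (some (i₀, j)))
      simp only [vv, map_mul, map_pow, Bialgebra.counit_mul, hz, zero_mul, zero_smul, mul_assoc] at h1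
      rw [hu2.mul_left_eq_zero] at h1
      refine Eq.trans ?_ h1
      show _ = g (Matrix.det _)
      rw [AlgHom.map_det]
      congr 1
      refine Matrix.ext fun l i => ?_
      by_cases hl : l = i₀ <;> simp [M, x, rowsel, Matrix.updateRow_apply, hl]
    have hzero : Matrix.cramer M.transpose x = 0 := funext fun i₀ => by
      rw [Matrix.cramer_transpose_apply, hminor i₀]; rfl
    have h2 := Matrix.mulVec_cramer M.transpose x
    rw [hzero, Matrix.mulVec_zero, Matrix.det_transpose, hMdet] at h2
    intro i
    have h3 := congrFun h2 i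
    simp only [Pi.zero_apply, Pi.smul_apply, smul_eq_mul] at h3
    exact (hu1.mul_right_eq_zero).1 h3.symm

end Groth.Agent.HopfLib
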