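import Groth.Prelude.Def_ComodTens
import Groth.Prelude.Def_ComodDual
import Groth.Prelude.Def_Hoch
import Mathlib.RingTheory.Flat.EquationalCriterion
import Mathlib.LinearAlgebra.Contraction

/-!
# Invariants of `B ⊗ M^*` are comodule maps `M → B`
-/

noncomputable section

open TensorProduct

namespace HopfLib.ComodHom

universe u v w w'

variable {k : Type u} [CommRing k] {A : Type v} [CommRing A] [HopfAlgebra k A]
  {M : Type w'} [AddCommGroup M] [Module k M]

/-- `n ⊗ φ ↦ (m ↦ φ m • n)`. -/
def toHom (N : Type*) [AddCommGroup N] [Module k N] : N ⊗[k] Module.Dual k M →ₗ[k] M →ₗ[k] N :=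
  dualTensorHom k M N ∘ₗ (TensorProduct.comm k N (Module.Dual k M)).toLinearMap

@[simp] lemma toHom_tmul {N : Type*} [AddCommGroup N] [Module k N] (n : N) (φ : Module.Dual k M)
    (m : M) : toHom N (n ⊗ₜ φ) m = φ m • n := by simp [toHom]

variable (k M) in
/-- For `N` flat and `M` finite, `N ⊗ M^* → Hom(M, N)` is injective. -/
lemma toHom_injective [Module.Finite k M] (N : Type*) [AddCommGroup N] [Module k N]
    [Module.Flat k N] : Function.Injective (toHom (k := k) (M := M) N) := by
  obtain ⟨s, f, hf⟩ := Module.Finite.exists_fin' k M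
  let e : Module.Dual k M →ₗ[k] (Fin s → k) := LinearMap.pi fun j =>
    LinearMap.applyₗ (f (Pi.single j 1))
  have he : Function.Injective e := fun φ ψ h => by
    refine LinearMap.ext fun m => ?_
    obtain ⟨c, rfl⟩ := hf m
    rw [pi_eq_sum_univ' c, map_sum, map_sum, map_sum]
    refine Finset.sum_congr rfl fun j _ => ?_
    simp only [map_smul]
    rw [show φ (f (Pi.single j 1)) = ψ (f (Pi.single j 1)) from congrFun h j]
  have h1 : Function.Injective (e.lTensor N) := Module.Flat.lTensor_preserves_injective_linearMap e he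
  intro x y hxy
  apply h1
  apply (TensorProduct.piScalarRight k k N (Fin s)).injective
  funext j
  have key : ∀ z : N ⊗[k] Module.Dual k M,
      TensorProduct.piScalarRight k k N (Fin s) (e.lTensor N z) j =
        toHom N z (f (Pi.single j 1)) := by
    intro z
    induction z using TensorProduct.induction_on with
    | zero => simp
    | add a b ha hb => simp only [map_add, Pi.add_apply, LinearMap.add_apply, ha, hb]
    | tmul n φ => simp [e]
  rw [key, key, hxy]

variable (k M) in
/-- For `N` flat and `M` finitely presented, `N ⊗ M^* → Hom(M, N)` is surjective. -/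
lemma toHom_surjective [Module.FinitePresentation k M] (N : Type*) [AddCommGroup N] [Module k N]
    [Module.Flat k N] : Function.Surjective (toHom (k := k) (M := M) N) := by
  intro h
  obtain ⟨n, h₂, h₃, rfl⟩ := Module.Flat.exists_factorization_of_finitePresentation h
  refine ⟨∑ i : Fin n, h₃ (Finsupp.single i 1) ⊗ₜ[k] ((Finsupp.lapply i) ∘ₗ h₂),
    LinearMap.ext fun m => ?_⟩
  simp only [map_sum, LinearMap.sum_apply, toHom_tmul, LinearMap.comp_apply, Finsupp.lapply_apply]
  conv_rhs => rw [← Finsupp.univ_sum_single (h₂ m), map_sum]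
  refine Finset.sum_congr rfl fun i _ => ?_
  rw [← map_smul, Finsupp.smul_single, smul_eq_mul, mul_one]

section Conv

variable {B : Type w} [AddCommGroup B] [Module k B]

variable (k A B) in
/-- right multiplication of the algebra factor -/
def rmul : (B ⊗[k] A) ⊗[k] A →ₗ[k] B ⊗[k] A :=
  (LinearMap.mul' k A).lTensor B ∘ₗ (TensorProduct.assoc k B A A).toLinearMap

@[simp] lemma rmul_tmul (b : B) (a a' : A) : rmul k A B ((b ⊗ₜ a) ⊗ₜ a') = b ⊗ₜ (a * a') := by
  simp [rmul]

/-- convolution of a map `M → B ⊗ A` with an endomorphism of `A` -/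
def conv (cM : HopfRep.Comod k A M) (L : M →ₗ[k] B ⊗[k] A) (g : A →ₗ[k] A) :
    M →ₗ[k] B ⊗[k] A :=
  rmul k A B ∘ₗ TensorProduct.map L g ∘ₗ cM.coact

lemma conv_conv (cM : HopfRep.Comod k A M) (L : M →ₗ[k] B ⊗[k] A) (g g' : A →ₗ[k] A) :
    conv cM (conv cM L g) g' =
      conv cM L (LinearMap.mul' k A ∘ₗ TensorProduct.map g g' ∘ₗ Coalgebra.comul) := by
  refine LinearMap.ext fun m => ?_
  have hassoc : (cM.coact.rTensor A) (cM.coact m) = (TensorProduct.assoc k M A A).symm
      ((CoalgebraStruct.comul (R := k) (A := A)).lTensor M (cM.coact m)) := by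
    rw [LinearEquiv.eq_symm_apply]
    exact LinearMap.congr_fun cM.coassoc m
  have key : ∀ z : M ⊗[k] (A ⊗[k] A),
      rmul k A B (TensorProduct.map (rmul k A B ∘ₗ TensorProduct.map L g) g'
        ((TensorProduct.assoc k M A A).symm z)) =
      rmul k A B (TensorProduct.map L (LinearMap.mul' k A ∘ₗ TensorProduct.map g g') z) := by
    intro z
    induction z using TensorProduct.induction_on with
    | zero => simp
    | add x y hx hy => simp only [map_add, hx, hy]
    | tmul v p =>
      induction p using TensorProduct.induction_on with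
      | zero => simp
      | add x y hx hy => simp only [tmul_add, map_add, hx, hy]
      | tmul a a' =>
        simp only [TensorProduct.assoc_symm_tmul, TensorProduct.map_tmul, LinearMap.comp_apply,
          LinearMap.mul'_apply]
        induction L v using TensorProduct.induction_on with
        | zero => simp
        | add x y hx hy => simp only [add_tmul, map_add, hx, hy]
        | tmul b c => simp [mul_assoc]
  have hl : TensorProduct.map (rmul k A B ∘ₗ TensorProduct.map L g ∘ₗ cM.coact) g' (cM.coact m) =
      TensorProduct.map (rmul k A B ∘ₗ TensorProduct.map L g) g'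
        (cM.coact.rTensor A (cM.coact m)) := by
    rw [← LinearMap.comp_apply (TensorProduct.map (rmul k A B ∘ₗ TensorProduct.map L g) g'),
      LinearMap.map_comp_rTensor, LinearMap.comp_assoc]
  simp only [conv, LinearMap.comp_apply]
  rw [hl, hassoc, key, ← LinearMap.comp_apply (TensorProduct.map L _), LinearMap.map_comp_lTensor]
  rfl

lemma conv_unit (cM : HopfRep.Comod k A M) (L : M →ₗ[k] B ⊗[k] A) :
    conv cM L (Algebra.linearMap k A ∘ₗ Coalgebra.counit) = L := by
  refine LinearMap.ext fun m => ?_
  have h := LinearMap.congr_fun cM.counit_comp m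
  simp only [LinearMap.comp_apply, LinearMap.flip_apply, TensorProduct.mk_apply] at h
  simp only [conv, LinearMap.comp_apply]
  rw [← LinearMap.map_comp_lTensor, LinearMap.comp_apply, h, TensorProduct.map_tmul,
    Algebra.linearMap_apply, map_one]
  induction L m using TensorProduct.induction_on with
  | zero => simp
  | add x y hx hy => rw [add_tmul, map_add, hx, hy]
  | tmul b c => simp

/-- `h ⊗ 1` -/
def one' (h : M →ₗ[k] B) : M →ₗ[k] B ⊗[k] A := (TensorProduct.mk k B A).flip 1 ∘ₗ h

lemma conv_one'_id (cM : HopfRep.Comod k A M) (h : M →ₗ[k] B) :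
    conv cM (one' h) LinearMap.id = h.rTensor A ∘ₗ cM.coact := by
  refine LinearMap.ext fun m => ?_
  simp only [conv, LinearMap.comp_apply]
  induction cM.coact m using TensorProduct.induction_on with
  | zero => simp
  | add x y hx hy => simp only [map_add, hx, hy]
  | tmul v a => simp [one']

lemma isComodHom_iff (cM : HopfRep.Comod k A M) (cB : HopfRep.Comod k A B) (h : M →ₗ[k] B) :
    @Hoch.IsComodHom k _ A _ _ _ M _ _ cM B _ _ cB h ↔
      conv cM (cB.coact ∘ₗ h) (HopfAlgebra.antipode k) = one' h := by
  show cB.coact ∘ₗ h = h.rTensor A ∘ₗ cM.coact ↔ _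
  rw [← conv_one'_id]
  constructor
  · intro e
    rw [e, conv_conv, show LinearMap.mul' k A ∘ₗ TensorProduct.map LinearMap.id
        (HopfAlgebra.antipode k) ∘ₗ Coalgebra.comul = Algebra.linearMap k A ∘ₗ Coalgebra.counit from
      HopfAlgebra.mul_antipode_lTensor_comul, conv_unit]
  · intro e
    rw [← e, conv_conv, show LinearMap.mul' k A ∘ₗ TensorProduct.map (HopfAlgebra.antipode k)
        LinearMap.id ∘ₗ Coalgebra.comul = Algebra.linearMap k A ∘ₗ Coalgebra.counit from
      HopfAlgebra.mul_antipode_rTensor_comul, conv_unit]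

lemma toHom_rightComm_coact (cM : HopfRep.Comod k A M) (cB : HopfRep.Comod k A B)
    (d : HopfRep.Comod k A (Module.Dual k M)) (hd : ComodTens.Comod.IsDual cM d)
    (x : B ⊗[k] Module.Dual k M) :
    toHom (B ⊗[k] A) (TensorProduct.rightComm k B (Module.Dual k M) A
      ((ComodTens.Comod.tensor cB d).coact x)) =
      conv cM (cB.coact ∘ₗ toHom B x) (HopfAlgebra.antipode k) := by
  induction x using TensorProduct.induction_on with
  | zero => simp [conv]
  | add x y hx hy =>
    simp only [map_add, hx, hy, conv, LinearMap.comp_add, TensorProduct.map_add_left,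
      LinearMap.add_comp]
  | tmul b φ =>
    refine LinearMap.ext fun m => ?_
    rw [ComodTens.tensor_coact_tmul]
    have h1 : ∀ (q : B ⊗[k] A) (p : Module.Dual k M ⊗[k] A),
        toHom (B ⊗[k] A) (TensorProduct.rightComm k B (Module.Dual k M) A
          (TensorProduct.map LinearMap.id (LinearMap.mul' k A)
            (AlgebraTensorModule.tensorTensorTensorComm k k k k B A (Module.Dual k M) A
              (q ⊗ₜ[k] p)))) m =
        rmul k A B (q ⊗ₜ dualTensorHom k M A p m) := by
      intro q p
      induction q using TensorProduct.induction_on with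
      | zero => simp
      | add x y hx hy => simp only [add_tmul, map_add, LinearMap.add_apply, hx, hy]
      | tmul b' a =>
        induction p using TensorProduct.induction_on with
        | zero => simp
        | add x y hx hy => simp only [tmul_add, map_add, LinearMap.add_apply, hx, hy]
        | tmul ψ c => simp [dualTensorHom_apply, tmul_smul]
    rw [h1, hd φ, ComodTens.dualCoactFun_apply]
    simp only [conv, LinearMap.comp_apply]
    induction cM.coact m using TensorProduct.induction_on with
    | zero => simp
    | add x y hx hy => simp only [map_add, tmul_add, hx, hy]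
    | tmul v a => simp [tmul_smul, smul_tmul']

lemma toHom_rightComm_tmul_one (x : B ⊗[k] Module.Dual k M) :
    toHom (B ⊗[k] A) (TensorProduct.rightComm k B (Module.Dual k M) A (x ⊗ₜ (1 : A))) =
      one' (toHom B x) := by
  induction x using TensorProduct.induction_on with
  | zero => simp [one']
  | add x y hx hy => simp only [add_tmul, map_add, hx, hy, one', LinearMap.comp_add]
  | tmul b φ => exact LinearMap.ext fun m => by simp [one', smul_tmul']

theorem bijOn [Module.Flat k A] [Module.Flat k B] [Module.FinitePresentation k M]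
    (cM : HopfRep.Comod k A M) (cB : HopfRep.Comod k A B)
    (d : HopfRep.Comod k A (Module.Dual k M)) (hd : ComodTens.Comod.IsDual cM d) :
    Set.BijOn (toHom B)
      ((@HopfRep.fixedPts k A _ _ _ (B ⊗[k] Module.Dual k M) _ _ (ComodTens.Comod.tensor cB d)) :
        Set (B ⊗[k] Module.Dual k M))
      {h : M →ₗ[k] B | @Hoch.IsComodHom k _ A _ _ _ M _ _ cM B _ _ cB h} := by
  have hinv : ∀ x : B ⊗[k] Module.Dual k M,
      (ComodTens.Comod.tensor cB d).coact x = x ⊗ₜ (1 : A) ↔
        @Hoch.IsComodHom k _ A _ _ _ M _ _ cM B _ _ cB (toHom B x) := by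
    intro x
    rw [isComodHom_iff, ← toHom_rightComm_coact cM cB d hd, ← toHom_rightComm_tmul_one,
      (toHom_injective k M (B ⊗[k] A)).eq_iff, EmbeddingLike.apply_eq_iff_eq]
  refine ⟨fun x hx => (hinv x).1 hx, (toHom_injective k M B).injOn, fun h hh => ?_⟩
  obtain ⟨x, rfl⟩ := toHom_surjective k M B h
  exact ⟨x, (hinv x).2 hh, rfl⟩

end Conv

end HopfLib.ComodHom
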