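import Groth.Agent.HopfLib.ComodModule

/-!
# Isotypic components of comodules, simple subcoalgebras
-/

open TensorProduct HopfRep WithConv

universe u v w w' x y

namespace Groth.Agent.HopfLib

set_option linter.unusedSectionVars false
set_option maxHeartbeats 400000

variable {k : Type u} [Field k] {A : Type v} [AddCommGroup A] [Module k A] [Coalgebra k A]
  {V : Type w} [AddCommGroup V] [Module k V] [Comod k A V]
  {S : Type w'} [AddCommGroup S] [Module k S] [Comod k A S]
  {T : Type x} [AddCommGroup T] [Module k T] [Comod k A T]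

theorem exists_comodEquiv_of_linearEquivFA (e : S ≃ₗ[FormAlg k A] T) :
    ∃ e' : S ≃ₗ[k] T, Hoch.IsComodHom A e'.toLinearMap :=
  ⟨e.restrictScalars k, isComodHom_restrictScalars e.toLinearMap⟩

/-- A comodule isomorphism, as an equivalence of modules over the algebra of forms. -/
noncomputable def equivFA (e : S ≃ₗ[k] T) (he : Hoch.IsComodHom A e.toLinearMap) :
    S ≃ₗ[FormAlg k A] T :=
  LinearEquiv.ofBijective (homFA e.toLinearMap he) e.bijective

/-- The sum of the images of all comodule maps `S → V`. -/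
noncomputable def homRange (k : Type u) [Field k] (A : Type v) [AddCommGroup A] [Module k A]
    [Coalgebra k A] (S : Type w') [AddCommGroup S] [Module k S] [Comod k A S]
    (V : Type w) [AddCommGroup V] [Module k V] [Comod k A V] : Submodule k V :=
  ⨆ f : {f : S →ₗ[k] V // Hoch.IsComodHom A f}, LinearMap.range f.1

theorem homRange_eq_isotypic (hS : IsSimpleComod k A S) :
    homRange k A S V = (isotypicComponent (FormAlg k A) V S).restrictScalars k := by
  have := isSimpleComod_iff.1 hS
  refine le_antisymm (iSup_le fun f => ?_) fun x hx => ?_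
  · rcases (homFA f.1 f.2).injective_or_eq_zero with h | h
    · intro x hx
      exact le_sSup (show LinearMap.range (homFA f.1 f.2) ∈
        {m : Submodule (FormAlg k A) V | Nonempty (m ≃ₗ[FormAlg k A] S)} from
        ⟨(LinearEquiv.ofInjective _ h).symm⟩) (show x ∈ LinearMap.range (homFA f.1 f.2) from hx)
    · rintro _ ⟨y, rfl⟩
      rw [show f.1 y = 0 from LinearMap.congr_fun h y]
      exact zero_mem _
  · rw [Submodule.restrictScalars_mem, isotypicComponent, sSup_eq_iSup] at hx
    have key : (⨆ m ∈ {m : Submodule (FormAlg k A) V | Nonempty (m ≃ₗ[FormAlg k A] S)}, m) ≤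
        subFA (homRange k A S V) (isSubcomod_iSup fun f => isSubcomod_range f.2) := by
      refine iSup₂_le fun m hm => fun y hy => ?_
      obtain ⟨e⟩ := hm
      exact Submodule.mem_iSup_of_mem
        ⟨(m.subtype ∘ₗ e.symm.toLinearMap).restrictScalars k, isComodHom_restrictScalars _⟩
        ⟨e ⟨y, hy⟩, by simp⟩
    exact key hx

theorem iSupIndep_homRange {ι : Type*} (S : ι → Type w') [∀ j, AddCommGroup (S j)]
    [∀ j, Module k (S j)] [∀ j, Comod k A (S j)] (hS : ∀ j, IsSimpleComod k A (S j))
    (hne : ∀ j j', j ≠ j' → ∀ e : S j ≃ₗ[k] S j', ¬ Hoch.IsComodHom A e.toLinearMap) :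
    iSupIndep fun j => homRange k A (S j) V := by
  have hsimp : ∀ j, IsSimpleModule (FormAlg k A) (S j) := fun j => isSimpleComod_iff.1 (hS j)
  let c : ι → Submodule (FormAlg k A) V := fun j => isotypicComponent (FormAlg k A) V (S j)
  have hmem : ∀ j, c j ≠ ⊥ → c j ∈ isotypicComponents (FormAlg k A) V ∧
      IsIsotypicOfType (FormAlg k A) (c j) (S j) := by
    intro j hj
    refine ⟨?_, IsIsotypicOfType.isotypicComponent (FormAlg k A) V (S j)⟩
    have hne' : {m : Submodule (FormAlg k A) V | Nonempty (m ≃ₗ[FormAlg k A] S j)}.Nonempty := by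
      rw [Set.nonempty_iff_ne_empty]
      intro h
      exact hj (by change sSup _ = ⊥; rw [h, sSup_empty])
    obtain ⟨m, ⟨e⟩⟩ := hne'
    exact ⟨m, IsSimpleModule.congr e, e.isotypicComponent_eq.symm⟩
  have hind : iSupIndep c := by
    intro j
    by_cases hj : c j = ⊥
    · rw [hj]; exact disjoint_bot_left
    refine (sSupIndep_isotypicComponents (FormAlg k A) V (hmem j hj).1).mono_right
      (iSup₂_le fun j' hj' => ?_)
    by_cases h0 : c j' = ⊥
    · rw [h0]; exact bot_le
    refine le_sSup ⟨(hmem j' h0).1, fun heq => ?_⟩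
    have : Nontrivial (c j) := Submodule.nontrivial_iff_ne_bot.2 hj
    obtain ⟨m, hm⟩ := IsSemisimpleModule.exists_simple_submodule (FormAlg k A) (c j)
    obtain ⟨e⟩ := (hmem j hj).2 m
    have h' : c j' = c j := heq
    obtain ⟨e'⟩ := (h' ▸ (hmem j' h0).2 :
      IsIsotypicOfType (FormAlg k A) (c j) (S j')) m
    obtain ⟨ee, hee⟩ := exists_comodEquiv_of_linearEquivFA (k := k) (A := A) (e'.symm.trans e)
    exact hne j' j hj' ee hee
  intro j
  dsimp only
  rw [homRange_eq_isotypic (hS j)]
  simp only [fun j' => homRange_eq_isotypic (k := k) (A := A) (V := V) (hS j')]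
  rw [Submodule.disjoint_def]
  intro x h1 h2
  refine Submodule.disjoint_def.1 (hind j) x h1 ?_
  rw [← Submodule.restrictScalars_mem k]
  refine (iSup₂_le fun j' hj' => ?_ : _ ≤ (⨆ j', ⨆ _ : j' ≠ j, c j').restrictScalars k) h2
  exact fun y hy => le_iSup₂ (f := fun j' (_ : j' ≠ j) => c j') j' hj' hy

/-- A simple comodule mapping nontrivially into a sum of images of simple comodules is isomorphic
to one of them. -/
theorem exists_comodEquiv_of_le_iSup {ι : Type*} (K : ι → Type y) [∀ i, AddCommGroup (K i)]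
    [∀ i, Module k (K i)] [∀ i, Comod k A (K i)] (hK : ∀ i, IsSimpleComod k A (K i))
    (g : ∀ i, K i →ₗ[k] V) (hg : ∀ i, Hoch.IsComodHom A (g i)) (hS : IsSimpleComod k A S)
    {f : S →ₗ[k] V} (hf : Hoch.IsComodHom A f) (hf0 : f ≠ 0)
    (hle : LinearMap.range f ≤ ⨆ i, LinearMap.range (g i)) :
    ∃ (i : ι) (e : S ≃ₗ[k] K i), Hoch.IsComodHom A e.toLinearMap := by
  have := isSimpleComod_iff.1 hS
  have hKs : ∀ i, IsSimpleModule (FormAlg k A) (K i) := fun i => isSimpleComod_iff.1 (hK i)
  have hfi : Function.Injective (homFA f hf) :=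
    ((homFA f hf).injective_or_eq_zero).resolve_right
      fun h => hf0 (LinearMap.ext fun v => LinearMap.congr_fun h v)
  let eS := LinearEquiv.ofInjective _ hfi
  have : IsSimpleModule (FormAlg k A) (LinearMap.range (homFA f hf)) := IsSimpleModule.congr eS.symm
  let s : Set (Submodule (FormAlg k A) V) :=
    {m | ∃ i, g i ≠ 0 ∧ LinearMap.range (homFA (g i) (hg i)) = m}
  have hinj : ∀ i, g i ≠ 0 → Function.Injective (homFA (g i) (hg i)) := fun i hi =>
    ((homFA (g i) (hg i)).injective_or_eq_zero).resolve_right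
      fun h => hi (LinearMap.ext fun v => LinearMap.congr_fun h v)
  have hs : ∀ m : s, IsSimpleModule (FormAlg k A) m := by
    rintro ⟨_, i, hi, rfl⟩
    exact IsSimpleModule.congr (LinearEquiv.ofInjective _ (hinj i hi)).symm
  have hle' : LinearMap.range (homFA f hf) ≤ sSup s := by
    intro x hx
    have hx' : x ∈ ⨆ i, LinearMap.range (g i) := hle hx
    refine (iSup_le fun i => ?_ : (⨆ i, LinearMap.range (g i)) ≤ (sSup s).restrictScalars k) hx'
    intro y hy
    by_cases hi : g i = 0
    · simp only [hi, LinearMap.range_zero, Submodule.mem_bot] at hy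
      simp [hy]
    · exact le_sSup (show LinearMap.range (homFA (g i) (hg i)) ∈ s from ⟨i, hi, rfl⟩)
        (show y ∈ LinearMap.range (homFA (g i) (hg i)) from hy)
  obtain ⟨m, ⟨i, hi, rfl⟩, ⟨e⟩⟩ := Submodule.linearEquiv_of_le_sSup (LinearMap.range (homFA f hf)) s
    (simple := hs) hle'
  obtain ⟨ee, hee⟩ := exists_comodEquiv_of_linearEquivFA (k := k) (A := A)
    ((eS.trans e).trans (LinearEquiv.ofInjective _ (hinj i hi)).symm)
  exact ⟨i, ee, hee⟩

/-! ### Coefficient spaces of simple comodules -/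

/-- Subcoalgebra (as a submodule). -/
def IsSubcoalg (k : Type u) [Field k] {A : Type v} [AddCommGroup A] [Module k A] [Coalgebra k A]
    (D : Submodule k A) : Prop :=
  ∀ b ∈ D, CoalgebraStruct.comul (R := k) b ∈ LinearMap.range (TensorProduct.map D.subtype D.subtype)

/-- Simple subcoalgebra. -/
def IsSimpleSubcoalg (k : Type u) [Field k] {A : Type v} [AddCommGroup A] [Module k A] [Coalgebra k A]
    (D : Submodule k A) : Prop :=
  D ≠ ⊥ ∧ IsSubcoalg k D ∧ ∀ B : Submodule k A, B ≤ D → IsSubcoalg k B → B = ⊥ ∨ B = D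

theorem IsSubcoalg.isSubcomod {D : Submodule k A} (hD : IsSubcoalg k D) :
    IsSubcomod (k := k) (A := A) D := fun d hd =>
  (range_rTensor_subtype_mono le_rfl) (by
    obtain ⟨t, ht⟩ := hD d hd
    exact ⟨D.subtype.lTensor D t, by
      rw [← LinearMap.comp_apply, LinearMap.rTensor_comp_lTensor, ht]; rfl⟩)

theorem isSubcoalg_coeffSpace : IsSubcoalg k (coeffSpace k A V) := fun b hb => comul_coeffSpace b hb

theorem coeffSpace_ne_bot [Nontrivial V] : coeffSpace k A V ≠ ⊥ := by
  obtain ⟨v, hv⟩ := exists_ne (0 : V)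
  obtain ⟨f, hf⟩ := exists_cf_ne_zero (k := k) (A := A) hv
  exact (Submodule.ne_bot_iff _).2 ⟨_, cf_mem_coeffSpace f v, hf⟩

theorem cf_injective (hV : IsSimpleComod k A V) {f : V →ₗ[k] k} (hf : f ≠ 0) :
    Function.Injective (cf (A := A) f) := by
  rcases hV.2 _ (isSubcomod_ker (isComodHom_cf (A := A) f)) with h | h
  · exact LinearMap.ker_eq_bot.1 h
  · refine absurd (LinearMap.ext fun v => ?_) hf
    rw [← counit_cf (A := A) f v, LinearMap.ker_eq_top.1 h]
    simp

/-- The image of a comodule map into a subcoalgebra bounds the coefficient space. -/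
theorem coeffSpace_le_of_range_le {D : Submodule k A} (hD : IsSubcoalg k D) {φ : V →ₗ[k] A}
    (hφ : Hoch.IsComodHom A φ) (hinj : Function.Injective φ) (hle : LinearMap.range φ ≤ D) :
    coeffSpace k A V ≤ D := by
  refine iSup_le fun f => ?_
  rintro _ ⟨v, rfl⟩
  obtain ⟨π, hπ⟩ := φ.exists_leftInverse_of_injective (LinearMap.ker_eq_bot.2 hinj)
  have key := (mem_range_map_subtype_iff.1 (hD (φ v) (hle ⟨v, rfl⟩))).2 (f ∘ₗ π)
  convert key using 1
  have hc : CoalgebraStruct.comul (R := k) (φ v) = φ.rTensor A (Comod.coact (k := k) (A := A) v) :=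
    IsComodHom.coact_apply hφ v
  rw [hc, cf_apply]
  generalize Comod.coact (k := k) (A := A) v = t
  induction t using TensorProduct.induction_on with
  | zero => simp
  | add p q hp hq => simp only [map_add, hp, hq]
  | tmul a b => simp [show π (φ a) = a from LinearMap.congr_fun hπ a]

theorem isSimpleSubcoalg_coeffSpace (hV : IsSimpleComod k A V) :
    IsSimpleSubcoalg k (coeffSpace k A V) := by
  have := hV.1
  refine ⟨coeffSpace_ne_bot, isSubcoalg_coeffSpace, fun B hle hB => or_iff_not_imp_left.2 fun h0 => ?_⟩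
  obtain ⟨E, hEB, hE⟩ := exists_isSimpleSub_le (IsSubcoalg.isSubcomod hB) h0
  let cE := ComodSub.Comod.restr (Comod.regular k A) E hE.1
  have hEs : IsSimpleComod k A E := isSimpleComod_restr hE
  have hEh := ComodSub.isComodHom_subtype (Comod.regular k A) E hE.1
  obtain ⟨f, e, he⟩ := exists_comodEquiv_of_le_iSup (k := k) (A := A) (V := A) (S := E) (fun _ : V →ₗ[k] k => V) (fun _ => hV)
    (fun f => cf (A := A) f) (fun f => isComodHom_cf f) hEs hEh
    (fun h => hE.2.1 ((Submodule.eq_bot_iff _).2 fun (x : A) hx => LinearMap.congr_fun (h : (E.subtype : E →ₗ[k] A) = 0) (⟨x, hx⟩ : E)))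
    (by rw [Submodule.range_subtype]; exact hEB.trans hle)
  exact le_antisymm hle (coeffSpace_le_of_range_le hB (IsComodHom.comp hEh (IsComodHom.symm he))
    (E.injective_subtype.comp e.symm.injective) (by
      rw [LinearMap.range_comp, LinearEquiv.range, Submodule.map_top, Submodule.range_subtype]
      exact hEB))

theorem exists_comodEquiv_of_coeffSpace_eq (hS : IsSimpleComod k A S) (hT : IsSimpleComod k A T)
    (h : coeffSpace k A S ≤ coeffSpace k A T) :
    ∃ e : S ≃ₗ[k] T, Hoch.IsComodHom A e.toLinearMap := by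
  have := hS.1
  obtain ⟨v, hv⟩ := exists_ne (0 : S)
  obtain ⟨f, hf⟩ := exists_cf_ne_zero (k := k) (A := A) hv
  have h0 : cf (A := A) f ≠ 0 := fun h => hf (by rw [h]; simp)
  obtain ⟨-, e, he⟩ := exists_comodEquiv_of_le_iSup (k := k) (A := A) (V := A) (S := S) (fun _ : T →ₗ[k] k => T) (fun _ => hT)
    (fun g => cf (A := A) g) (fun g => isComodHom_cf g) hS (isComodHom_cf (A := A) f) h0
    ((le_iSup (fun g : S →ₗ[k] k => LinearMap.range (cf (A := A) g)) f).trans h)
  exact ⟨e, he⟩

theorem IsSimpleSubcoalg.exists_coeffSpace_eq {D : Submodule k A} (hD : IsSimpleSubcoalg k D) :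
    ∃ (E : Submodule k A) (hE : IsSimpleSub k A E), E ≤ D ∧
      @coeffSpace k _ A _ _ _ E _ _ (ComodSub.Comod.restr (Comod.regular k A) E hE.1) = D := by
  obtain ⟨E, hED, hE⟩ := exists_isSimpleSub_le (IsSubcoalg.isSubcomod hD.2.1) hD.1
  refine ⟨E, hE, hED, ?_⟩
  let cE := ComodSub.Comod.restr (Comod.regular k A) E hE.1
  have := (isSimpleComod_restr hE).1
  refine (hD.2.2 _ (coeffSpace_le_of_range_le hD.2.1
    (ComodSub.isComodHom_subtype (Comod.regular k A) E hE.1) E.injective_subtype
    (by rwa [Submodule.range_subtype])) isSubcoalg_coeffSpace).resolve_left coeffSpace_ne_bot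

/-- Distinct simple subcoalgebras are independent. -/
theorem iSupIndep_simpleSubcoalg :
    iSupIndep fun D : {D : Submodule k A // IsSimpleSubcoalg k D} => D.1 := by
  choose E hE hED hco using fun D : {D : Submodule k A // IsSimpleSubcoalg k D} =>
    IsSimpleSubcoalg.exists_coeffSpace_eq D.2
  let inst : ∀ D, Comod k A (E D) := fun D =>
    ComodSub.Comod.restr (Comod.regular k A) (E D) (hE D).1
  have hs : ∀ D, IsSimpleComod k A (E D) := fun D => isSimpleComod_restr (hE D)
  refine (iSupIndep_homRange (V := A) (fun D => E D) hs ?_).mono fun D => ?_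
  · intro D D' hne e he
    refine hne (Subtype.ext ?_)
    rw [← hco D, ← hco D']
    exact le_antisymm (coeffSpace_le_of_injective he e.injective)
      (coeffSpace_le_of_injective (IsComodHom.symm he) e.symm.injective)
  · conv_lhs => rw [← hco D]
    exact iSup_le fun f => le_iSup_of_le ⟨cf (A := A) f, isComodHom_cf f⟩ le_rfl

end Groth.Agent.HopfLib
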