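import Groth.Agent.HopfLib.Comod
import Mathlib.RingTheory.Coalgebra.Convolution
import Mathlib.RingTheory.SimpleModule.Isotypic

/-!
# Comodules over a field as modules over the algebra of linear forms

`HopfLib.FormAlg k A` is the convolution algebra of linear forms; a comodule is a module over it,
its subcomodules are the submodules and comodule maps are the linear maps.
-/

open TensorProduct HopfRep WithConv

universe u v w w'

namespace Groth.Agent.HopfLib

set_option linter.unusedSectionVars false
set_option maxHeartbeats 400000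

/-- The convolution algebra of linear forms on a coalgebra. -/
abbrev FormAlg (k : Type u) (A : Type v) [CommRing k] [AddCommGroup A] [Module k A] : Type (max u v) :=
  WithConv (A →ₗ[k] k)

section CommRing

variable {k : Type u} [CommRing k] {A : Type v} [AddCommGroup A] [Module k A] [Coalgebra k A]
  {V : Type w} [AddCommGroup V] [Module k V] [Comod k A V]

noncomputable scoped instance instFormAlgModule : Module (FormAlg k A) V where
  smul x v := hit x.ofConv v
  one_smul v := by
    change hit ((1 : FormAlg k A).ofConv) v = v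
    have h : (1 : FormAlg k A).ofConv = Coalgebra.counit (R := k) (A := A) := by
      ext a; simp [LinearMap.convOne_def]
    rw [h]; exact hit_counit v
  mul_smul x y v := by
    change hit ((x * y).ofConv) v = hit x.ofConv (hit y.ofConv v)
    rw [hit_hit]; rfl
  smul_zero x := map_zero (hit x.ofConv)
  smul_add x := map_add (hit x.ofConv)
  add_smul x y v := hit_add _ _ v
  zero_smul v := by
    change hit ((0 : FormAlg k A).ofConv) v = 0
    have := hit_smul (0 : k) (0 : A →ₗ[k] k) v
    simpa using this

theorem formAlg_smul_def (x : FormAlg k A) (v : V) : x • v = hit x.ofConv v := rfl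

scoped instance instFormAlgTower : IsScalarTower k (FormAlg k A) V :=
  ⟨fun c x v => hit_smul c x.ofConv v⟩

scoped instance instFormAlgComm : SMulCommClass k (FormAlg k A) V :=
  ⟨fun c x v => (map_smul (hit x.ofConv) c v).symm⟩

end CommRing

section Field

variable {k : Type u} [Field k] {A : Type v} [AddCommGroup A] [Module k A] [Coalgebra k A]
  {V : Type w} [AddCommGroup V] [Module k V] [c : Comod k A V]
  {W : Type w'} [AddCommGroup W] [Module k W] [Comod k A W]

/-- A comodule map, as a linear map over the algebra of forms. -/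
noncomputable def homFA (f : V →ₗ[k] W) (hf : Hoch.IsComodHom A f) : V →ₗ[FormAlg k A] W where
  toFun := f
  map_add' := map_add f
  map_smul' x v := IsComodHom.hit_apply hf x.ofConv v

@[simp] theorem homFA_apply (f : V →ₗ[k] W) (hf : Hoch.IsComodHom A f) (v : V) :
    homFA f hf v = f v := rfl

theorem isComodHom_restrictScalars (φ : V →ₗ[FormAlg k A] W) :
    Hoch.IsComodHom A (φ.restrictScalars k) :=
  isComodHom_iff_hit.2 fun g v => φ.map_smul (toConv g) v

/-- A subcomodule as a submodule over the algebra of forms. -/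
noncomputable def subFA (S : Submodule k V) (hS : IsSubcomod (k := k) (A := A) S) :
    Submodule (FormAlg k A) V :=
  { S with smul_mem' := fun x _ hv => IsSubcomod.hit_mem hS x.ofConv hv }

@[simp] theorem mem_subFA {S : Submodule k V} (hS : IsSubcomod (k := k) (A := A) S) {v : V} :
    v ∈ subFA S hS ↔ v ∈ S := Iff.rfl

@[simp] theorem restrictScalars_subFA {S : Submodule k V} (hS : IsSubcomod (k := k) (A := A) S) :
    (subFA S hS).restrictScalars k = S := rfl

theorem isSubcomod_restrictScalars (N : Submodule (FormAlg k A) V) :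
    IsSubcomod (k := k) (A := A) (N.restrictScalars k) :=
  isSubcomod_iff_hit.2 fun g _ hv => N.smul_mem (toConv g) hv

theorem isSimpleComod_iff : IsSimpleComod k A V ↔ IsSimpleModule (FormAlg k A) V := by
  rw [isSimpleModule_iff]
  constructor
  · rintro ⟨hnt, h⟩
    refine { eq_bot_or_eq_top := fun N => ?_ }
    rcases h _ (isSubcomod_restrictScalars N) with h | h
    · exact Or.inl ((Submodule.restrictScalars_eq_bot_iff _ _ _).1 h)
    · exact Or.inr ((Submodule.restrictScalars_eq_top_iff _ _ _).1 h)
  · intro h
    have : Nontrivial V := (Submodule.nontrivial_iff (FormAlg k A)).1 inferInstance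
    refine ⟨this, fun S hS => ?_⟩
    rcases h.eq_bot_or_eq_top (subFA S hS) with h | h
    · exact Or.inl (by rw [← restrictScalars_subFA hS, h, Submodule.restrictScalars_bot])
    · exact Or.inr (by rw [← restrictScalars_subFA hS, h, Submodule.restrictScalars_top])

theorem isSemisimpleComod_iff : IsSemisimpleComod k A V ↔ IsSemisimpleModule (FormAlg k A) V := by
  rw [isSemisimpleModule_iff]
  constructor
  · intro h
    refine ⟨fun N => ?_⟩
    obtain ⟨T, hT, hc⟩ := h _ (isSubcomod_restrictScalars N)
    refine ⟨subFA T hT, ⟨?_, ?_⟩⟩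
    · rw [Submodule.disjoint_def]; exact fun x h1 h2 => Submodule.disjoint_def.1 hc.1 x h1 h2
    · rw [codisjoint_iff, Submodule.eq_top_iff']
      intro x
      obtain ⟨a, ha, b, hb, rfl⟩ := Submodule.mem_sup.1 (hc.2.eq_top.ge (Submodule.mem_top (x := x)))
      exact add_mem (Submodule.mem_sup_left ha) (Submodule.mem_sup_right hb)
  · intro h S hS
    obtain ⟨N, hN⟩ := exists_isCompl (subFA S hS)
    refine ⟨N.restrictScalars k, isSubcomod_restrictScalars N, ⟨?_, ?_⟩⟩
    · rw [Submodule.disjoint_def]; exact fun x h1 h2 => Submodule.disjoint_def.1 hN.1 x h1 h2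
    · rw [codisjoint_iff, Submodule.eq_top_iff']
      intro x
      obtain ⟨a, ha, b, hb, rfl⟩ := Submodule.mem_sup.1 (hN.2.eq_top.ge (Submodule.mem_top (x := x)))
      exact add_mem (Submodule.mem_sup_left ha) (Submodule.mem_sup_right hb)

/-- A simple subcomodule, spelled out inside the ambient comodule. -/
def IsSimpleSub (k : Type u) [Field k] (A : Type v) [AddCommGroup A] [Module k A] [Coalgebra k A]
    {V : Type w} [AddCommGroup V] [Module k V] [Comod k A V] (S : Submodule k V) : Prop :=
  IsSubcomod (k := k) (A := A) S ∧ S ≠ ⊥ ∧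
    ∀ S' : Submodule k V, IsSubcomod (k := k) (A := A) S' → S' ≤ S → S' = ⊥ ∨ S' = S

theorem isSimpleSub_iff_isSimpleModule {S : Submodule k V} (hS : IsSubcomod (k := k) (A := A) S) :
    IsSimpleSub k A S ↔ IsSimpleModule (FormAlg k A) (subFA S hS) := by
  rw [isSimpleModule_iff_isAtom, IsAtom]
  constructor
  · rintro ⟨-, hne, hmin⟩
    refine ⟨fun h => hne (by rw [← restrictScalars_subFA hS, h, Submodule.restrictScalars_bot]),
      fun N hN => ?_⟩
    rcases hmin _ (isSubcomod_restrictScalars N) (fun x hx => hN.le hx) with h | h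
    · exact (Submodule.restrictScalars_eq_bot_iff _ _ _).1 h
    · exact absurd (Submodule.restrictScalars_injective k (FormAlg k A) V h) hN.ne
  · rintro ⟨hne, hmin⟩
    refine ⟨hS, fun h => hne ?_, fun S' hS' hle => ?_⟩
    · rw [Submodule.eq_bot_iff]; exact fun x hx => (Submodule.eq_bot_iff _).1 h x hx
    · by_cases he : subFA S' hS' = subFA S hS
      · exact Or.inr (by rw [← restrictScalars_subFA hS', he, restrictScalars_subFA])
      · have := hmin _ (lt_of_le_of_ne (fun x hx => hle hx) he)
        exact Or.inl (by rw [← restrictScalars_subFA hS', this, Submodule.restrictScalars_bot])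

theorem isSimpleSub_restrictScalars {N : Submodule (FormAlg k A) V}
    [h : IsSimpleModule (FormAlg k A) N] : IsSimpleSub k A (N.restrictScalars k) :=
  (isSimpleSub_iff_isSimpleModule (isSubcomod_restrictScalars N)).2 h

theorem exists_isSimpleSub_le {S : Submodule k V} (hS : IsSubcomod (k := k) (A := A) S) (hne : S ≠ ⊥) :
    ∃ T ≤ S, IsSimpleSub k A T := by
  obtain ⟨v, hv, hv0⟩ := S.exists_mem_ne_zero_of_ne_bot hne
  let P : ℕ → Prop := fun n => ∃ T : Submodule k V, IsSubcomod (k := k) (A := A) T ∧ T ≤ orbit k A v ∧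
    T ≠ ⊥ ∧ Module.finrank k T = n
  classical
  have hP : ∃ n, P n := ⟨_, orbit k A v, isSubcomod_orbit v, le_rfl,
    (Submodule.ne_bot_iff _).2 ⟨v, mem_orbit_self v, hv0⟩, rfl⟩
  obtain ⟨T, hT, hTle, hT0, hTn⟩ := Nat.find_spec hP
  have := finite_orbit (k := k) (A := A) v
  have := Submodule.finiteDimensional_of_le hTle
  refine ⟨T, hTle.trans (orbit_le hS hv), hT, hT0, fun T' hT' hle => or_iff_not_imp_left.2 fun h0 => ?_⟩
  refine Submodule.eq_of_le_of_finrank_le hle ?_
  rw [hTn]
  exact Nat.find_min' hP ⟨T', hT', hle.trans hTle, h0, rfl⟩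

theorem finite_of_isSimpleComod (hV : IsSimpleComod k A V) : Module.Finite k V := by
  have := hV.1
  obtain ⟨v, hv⟩ := exists_ne (0 : V)
  rcases hV.2 _ (isSubcomod_orbit (k := k) (A := A) v) with h | h
  · exact absurd ((Submodule.eq_bot_iff _).1 h v (mem_orbit_self v)) hv
  · exact @Module.Finite.equiv k _ _ _ _ _ _ _ (finite_orbit v) (LinearEquiv.ofTop _ h)

theorem isSimpleComod_restr {S : Submodule k V} (hS : @IsSimpleSub k _ A _ _ _ V _ _ c S) :
    @IsSimpleComod k A _ _ _ _ S _ _ (ComodSub.Comod.restr c S hS.1) := by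
  let cS := ComodSub.Comod.restr c S hS.1
  refine ⟨Submodule.nontrivial_iff_ne_bot.2 hS.2.1, fun T hT => ?_⟩
  rcases hS.2.2 (T.map S.subtype)
    (isSubcomod_map (ComodSub.isComodHom_subtype c S hS.1) hT) (Submodule.map_subtype_le S T) with h | h
  · exact Or.inl (Submodule.map_injective_of_injective S.injective_subtype (h.trans (Submodule.map_bot _).symm))
  · refine Or.inr (Submodule.map_injective_of_injective S.injective_subtype ?_)
    rw [h, Submodule.map_top, Submodule.range_subtype]

/-- Schur's lemma. -/
theorem eq_zero_or_bijective (hV : IsSimpleComod k A V) (hW : IsSimpleComod k A W)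
    {f : V →ₗ[k] W} (hf : Hoch.IsComodHom A f) : f = 0 ∨ Function.Bijective f := by
  have := isSimpleComod_iff.1 hV
  have := isSimpleComod_iff.1 hW
  rcases (homFA f hf).bijective_or_eq_zero with h | h
  · exact Or.inr h
  · exact Or.inl (LinearMap.ext fun v => LinearMap.congr_fun h v)

/-! ### Semisimplicity -/

theorem isSemisimpleComod_iff_iSup_simple :
    IsSemisimpleComod k A V ↔ (⨆ S : {S : Submodule k V // IsSimpleSub k A S}, S.1) = ⊤ := by
  rw [isSemisimpleComod_iff, ← sSup_simples_eq_top_iff_isSemisimpleModule]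
  constructor
  · intro h
    rw [← Submodule.restrictScalars_top k (FormAlg k A) V, ← h, sSup_eq_iSup',
      Submodule.restrictScalars_iSup]
    refine le_antisymm (iSup_le fun S => ?_) (iSup_le fun N => ?_)
    · exact le_iSup_of_le ⟨subFA S.1 S.2.1, (isSimpleSub_iff_isSimpleModule S.2.1).1 S.2⟩ le_rfl
    · have : IsSimpleModule (FormAlg k A) N.1 := N.2
      exact le_iSup_of_le ⟨N.1.restrictScalars k, isSimpleSub_restrictScalars⟩ le_rfl
  · intro h
    rw [← Submodule.restrictScalars_eq_top_iff k, eq_top_iff, ← h]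
    exact iSup_le fun S => fun x hx => le_sSup
      (show subFA S.1 S.2.1 ∈ {m : Submodule (FormAlg k A) V | IsSimpleModule (FormAlg k A) m} from
        (isSimpleSub_iff_isSimpleModule S.2.1).1 S.2) (show x ∈ subFA S.1 S.2.1 from hx)

theorem isSemisimpleComod_restr (hV : @IsSemisimpleComod k A _ _ _ _ V _ _ c)
    {S : Submodule k V} (hS : @IsSubcomod k A _ _ _ _ V _ _ c S) :
    @IsSemisimpleComod k A _ _ _ _ S _ _ (ComodSub.Comod.restr c S hS) := by
  let cS := ComodSub.Comod.restr c S hS
  have := isSemisimpleComod_iff.1 hV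
  exact isSemisimpleComod_iff.2
    (IsSemisimpleModule.of_injective (homFA S.subtype (ComodSub.isComodHom_subtype c S hS))
      S.injective_subtype)

theorem isSemisimpleComod_quot (hV : @IsSemisimpleComod k A _ _ _ _ V _ _ c)
    {S : Submodule k V} (hS : @IsSubcomod k A _ _ _ _ V _ _ c S) :
    @IsSemisimpleComod k A _ _ _ _ (V ⧸ S) _ _ (ComodSub.Comod.quot c S hS) := by
  let cS := ComodSub.Comod.quot c S hS
  have := isSemisimpleComod_iff.1 hV
  exact isSemisimpleComod_iff.2
    (IsSemisimpleModule.of_surjective (homFA S.mkQ (ComodSub.isComodHom_mkQ c S hS))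
      S.mkQ_surjective)

theorem IsSemisimpleComod.of_injective (hW : IsSemisimpleComod k A W) {f : V →ₗ[k] W}
    (hf : Hoch.IsComodHom A f) (hinj : Function.Injective f) : IsSemisimpleComod k A V := by
  have := isSemisimpleComod_iff.1 hW
  exact isSemisimpleComod_iff.2 (IsSemisimpleModule.of_injective (homFA f hf) hinj)

/-- Semisimplicity may be tested on finite-dimensional subcomodules. -/
theorem isSemisimpleComod_of_forall_finite
    (h : ∀ (S : Submodule k V) (hS : @IsSubcomod k A _ _ _ _ V _ _ c S), Module.Finite k S →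
      @IsSemisimpleComod k A _ _ _ _ S _ _ (ComodSub.Comod.restr c S hS)) :
    @IsSemisimpleComod k A _ _ _ _ V _ _ c := by
  rw [isSemisimpleComod_iff_iSup_simple, eq_top_iff]
  intro v _
  let cS := ComodSub.Comod.restr c (orbit k A v) (isSubcomod_orbit v)
  have hi := ComodSub.isComodHom_subtype c (orbit k A v) (isSubcomod_orbit v)
  have h1 := isSemisimpleComod_iff_iSup_simple.1 (h _ (isSubcomod_orbit v) (finite_orbit v))
  have h2 : (⟨v, mem_orbit_self v⟩ : orbit k A v) ∈
      ⨆ S : {S : Submodule k (orbit k A v) // IsSimpleSub k A S}, S.1 := h1 ▸ Submodule.mem_top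
  have h3 := Submodule.mem_map_of_mem (f := (orbit k A v).subtype) h2
  rw [Submodule.map_iSup] at h3
  refine (iSup_le fun S => ?_ : _ ≤ ⨆ S : {S : Submodule k V // IsSimpleSub k A S}, S.1) h3
  refine le_iSup_of_le ⟨S.1.map (orbit k A v).subtype, isSubcomod_map hi S.2.1, ?_, ?_⟩ le_rfl
  · exact fun h0 => S.2.2.1 (Submodule.map_injective_of_injective (orbit k A v).injective_subtype
      (h0.trans (Submodule.map_bot _).symm))
  · intro T hT hle
    have e : (T.comap (orbit k A v).subtype).map (orbit k A v).subtype = T := by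
      rw [Submodule.map_comap_eq, Submodule.range_subtype]
      exact inf_eq_right.2 (hle.trans (Submodule.map_subtype_le _ _))
    rcases S.2.2.2 _ (isSubcomod_comap hi hT) (fun x hx => by
      obtain ⟨y, hy, hxy⟩ := hle hx
      rwa [← Subtype.ext hxy]) with h | h
    · exact Or.inl (by rw [← e, h, Submodule.map_bot])
    · exact Or.inr (by rw [← e, h])

end Field

end Groth.Agent.HopfLib
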