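import Groth.Agent.HopfLib.GITApps
import Groth.Prelude.Def_ComodTens
import Mathlib.RingTheory.AdjoinRoot
import Mathlib.RingTheory.HopfAlgebra.GroupLike
import Mathlib.FieldTheory.IsAlgClosed.AlgebraicClosure

/-!
# Semi-invariants on closed orbits
-/

open TensorProduct HopfRep Coalgebra Polynomial

universe u

namespace Groth.Agent.HopfLib

set_option linter.unusedSectionVars false
set_option maxHeartbeats 800000

variable {k : Type u} [Field k] [IsAlgClosed k]

/-- In characteristic zero a function constant on the fibres of a dominant morphism is rational on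
the base. -/
theorem exists_eq_mul_of_constant_on_fibres [CharZero k] {B C : Type u} [CommRing B] [CommRing C]
    [IsDomain B] [IsDomain C] [Algebra k B] [Algebra k C] [Algebra.FiniteType k B] [Algebra.FiniteType k C]
    [Algebra B C] [IsScalarTower k B C] [FaithfulSMul B C] (t : C)
    (hconst : ∀ c c' : C →ₐ[k] k,
      c.comp (IsScalarTower.toAlgHom k B C) = c'.comp (IsScalarTower.toAlgHom k B C) → c t = c' t) :
    ∃ p q : B, q ≠ 0 ∧ algebraMap B C p = algebraMap B C q * t := by
  classical
  have halg : IsAlgebraic B t := isAlgebraic_of_finite_values (k := k) t fun c =>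
    (Set.finite_singleton (c t)).subset (by rintro _ ⟨c', hc', rfl⟩; exact hconst c' c hc')
  let K := FractionRing B
  let L := FractionRing C
  let := FractionRing.liftAlgebra B L
  have : CharZero K := charZero_of_injective_algebraMap (algebraMap k K).injective
  let tL : L := algebraMap C L t
  have hint : _root_.IsIntegral K tL := by
    obtain ⟨p, hp, hp0⟩ := halg
    refine IsAlgebraic.isIntegral ⟨p.map (algebraMap B K), (Polynomial.map_ne_zero_iff (IsFractionRing.injective B K)).2 hp, ?_⟩
    rw [Polynomial.aeval_map_algebraMap, Polynomial.aeval_algebraMap_apply, hp0, map_zero]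
  let m := minpoly K tL
  by_cases hdeg : m.degree = 1
  · obtain ⟨z, hz⟩ := minpoly.mem_range_of_degree_eq_one K tL hdeg
    obtain ⟨p, ⟨q, hq⟩, rfl⟩ := IsLocalization.exists_mk'_eq (nonZeroDivisors B) z
    refine ⟨p, q, nonZeroDivisors.ne_zero hq, IsFractionRing.injective C L ?_⟩
    rw [map_mul, ← IsScalarTower.algebraMap_apply B C L, ← IsScalarTower.algebraMap_apply B C L,
      IsScalarTower.algebraMap_apply B K L, IsScalarTower.algebraMap_apply B K L,
      show algebraMap C L t = tL from rfl, ← hz, ← map_mul, IsLocalization.mk'_spec'_mk]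
  exfalso
  let Ω := AlgebraicClosure L
  let tΩ : Ω := algebraMap L Ω tL
  have hm : m ≠ 0 := minpoly.ne_zero hint
  have hirr : Irreducible m := minpoly.irreducible hint
  obtain ⟨β, hβ, hne⟩ : ∃ β : Ω, Polynomial.aeval β m = 0 ∧ β ≠ tΩ := by
    have hsep : m.Separable := hirr.separable
    have hcard : (m.rootSet Ω).toFinset.card = m.natDegree := by
      rw [Set.toFinset_card, Polynomial.card_rootSet_eq_natDegree hsep (IsAlgClosed.splits _)]
    have h2 : 1 < (m.rootSet Ω).toFinset.card := by
      rw [hcard]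
      by_contra hlt
      have h0 : 0 < m.natDegree := minpoly.natDegree_pos hint
      exact hdeg (by rw [Polynomial.degree_eq_natDegree hm, show m.natDegree = 1 by omega, Nat.cast_one])
    obtain ⟨β, hβ, hne⟩ := Finset.exists_mem_ne h2 tΩ
    exact ⟨β, (Polynomial.mem_rootSet.1 (Set.mem_toFinset.1 hβ)).2, hne⟩
  have : Fact (Irreducible m) := ⟨hirr⟩
  let E := AdjoinRoot m
  let e₁ : E →ₐ[K] L := AdjoinRoot.liftAlgHom m (Algebra.ofId K L) tL (minpoly.aeval K tL)
  let e₂ : E →ₐ[K] Ω := AdjoinRoot.liftAlgHom m (Algebra.ofId K Ω) β hβ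
  let := e₁.toRingHom.toAlgebra
  let := e₂.toRingHom.toAlgebra
  obtain ⟨M, hM⟩ := Ideal.exists_maximal (L ⊗[E] Ω)
  let F := (L ⊗[E] Ω) ⧸ M
  let := Ideal.Quotient.field M
  let π := Ideal.Quotient.mk M
  let ι₁ : L →+* F := π.comp Algebra.TensorProduct.includeLeftRingHom
  let ι₂ : Ω →+* F := π.comp (Algebra.TensorProduct.includeRight : Ω →ₐ[E] L ⊗[E] Ω).toRingHom
  have hE : ∀ z : E, ι₁ (e₁ z) = ι₂ (e₂ z) := fun z => congrArg π (by
    show (algebraMap E L z) ⊗ₜ[E] (1 : Ω) = (1 : L) ⊗ₜ[E] algebraMap E Ω z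
    rw [Algebra.algebraMap_eq_smul_one, Algebra.algebraMap_eq_smul_one, TensorProduct.smul_tmul])
  let σ : C →+* F := ι₁.comp (algebraMap C L)
  let τ : C →+* F := ι₂.comp ((algebraMap L Ω).comp (algebraMap C L))
  have hB : ∀ b : B, σ (algebraMap B C b) = τ (algebraMap B C b) := fun b => by
    have h1 : algebraMap C L (algebraMap B C b) = e₁ (algebraMap K E (algebraMap B K b)) := by
      rw [AlgHom.commutes, ← IsScalarTower.algebraMap_apply B C L, IsScalarTower.algebraMap_apply B K L]
    have h2 : algebraMap L Ω (algebraMap C L (algebraMap B C b)) = e₂ (algebraMap K E (algebraMap B K b)) := by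
      rw [h1, AlgHom.commutes, AlgHom.commutes, ← IsScalarTower.algebraMap_apply K L Ω]
    show ι₁ _ = ι₂ _
    simp only [RingHom.comp_apply]
    conv_lhs => rw [h1]
    rw [hE, ← h2]
  have ht : σ t ≠ τ t := fun h => hne (by
    have h1 : ι₁ tL = ι₂ β := by
      rw [show tL = e₁ (AdjoinRoot.root m) from (AdjoinRoot.liftAlgHom_root ..).symm, hE,
        show e₂ (AdjoinRoot.root m) = β from AdjoinRoot.liftAlgHom_root ..]
    exact ι₂.injective (h1.symm.trans h))
  have hBF : ∀ b : B, algebraMap B F b = σ (algebraMap B C b) := fun b => congrArg π (by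
    show (algebraMap B L b) ⊗ₜ[E] (1 : Ω) = (algebraMap C L (algebraMap B C b)) ⊗ₜ[E] (1 : Ω)
    rw [← IsScalarTower.algebraMap_apply B C L])
  let σ' : C →ₐ[B] F := { σ with commutes' := fun b => (hBF b).symm }
  let τ' : C →ₐ[B] F := { τ with commutes' := fun b => (hB b).symm.trans (hBF b).symm }
  have : Algebra.FiniteType B C := Algebra.FiniteType.of_restrictScalars_finiteType k B C
  have : Algebra.FiniteType k (C ⊗[B] C) := Algebra.FiniteType.trans (S := C) ‹_› inferInstance
  have hnil : IsNilpotent (t ⊗ₜ[B] (1 : C) - (1 : C) ⊗ₜ[B] t) := by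
    by_contra hc
    obtain ⟨d, hd⟩ := exists_algHom_ne_zero (k := k) hc
    refine hd ?_
    rw [map_sub, sub_eq_zero]
    refine hconst (d.comp Algebra.TensorProduct.includeLeft)
      (d.comp ((Algebra.TensorProduct.includeRight : C →ₐ[B] C ⊗[B] C).restrictScalars k))
      (AlgHom.ext fun b => congrArg d ?_)
    show (algebraMap B C b) ⊗ₜ[B] (1 : C) = (1 : C) ⊗ₜ[B] algebraMap B C b
    rw [Algebra.algebraMap_eq_smul_one, TensorProduct.smul_tmul]
  obtain ⟨n, hn⟩ := hnil
  refine ht (sub_eq_zero.1 (eq_zero_of_pow_eq_zero (n := n) ?_))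
  have := congrArg (Algebra.TensorProduct.lift σ' τ' fun _ _ => Commute.all _ _) hn
  rwa [map_pow, map_zero, map_sub, Algebra.TensorProduct.lift_tmul, Algebra.TensorProduct.lift_tmul,
    map_one, map_one, one_mul, mul_one] at this

variable {A : Type u} [CommRing A] [HopfAlgebra k A] [Algebra.FiniteType k A]
  {R : Type u} [CommRing R] [Algebra k R] [Comod k A R] [GLin.IsCoactAlg k A R] [Algebra.FiniteType k R]

/-- On a closed orbit, a character trivial on the stabiliser is the restriction of a
semi-invariant. -/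
theorem exists_semiinvariant [CharZero k] [IsDomain A] (hG : IsLinearlyReductive k A) {x : R →ₐ[k] k}
    (hx : IsClosedPtOrbit k A x) {χ : A} (hχ : IsGroupLikeElem k χ)
    (hstab : ∀ g ∈ stabPts A x, g χ = 1) :
    ∃ f : R, Comod.coact (k := k) (A := A) f = f ⊗ₜ χ ∧ x f = 1 := by
  classical
  let φ := GLin.orbitHom k A x
  let S := HopfAlgebra.antipodeAlgHom k A
  let K := RingHom.ker φ
  have : K.IsPrime := RingHom.ker_isPrime φ
  let B := R ⧸ K
  let f₀ : B →ₐ[k] A := Ideal.kerLiftAlg φ
  let := f₀.toRingHom.toAlgebra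
  have : IsScalarTower k B A := IsScalarTower.of_algebraMap_eq fun c => (f₀.commutes c).symm
  have : FaithfulSMul B A := (faithfulSMul_iff_algebraMap_injective B A).2 (Ideal.kerLiftAlg_injective φ)
  obtain ⟨p, q, hq, hpq⟩ := exists_eq_mul_of_constant_on_fibres (k := k) (B := B) χ fun c c' hcc => by
    have he : GLin.actPt k c x = GLin.actPt k c' x := AlgHom.ext fun r => AlgHom.congr_fun hcc (Ideal.Quotient.mk K r)
    let d := c.comp S
    have hmem : GLin.actPt k d c' ∈ stabPts A x := by
      show GLin.actPt k (GLin.actPt k d c') x = x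
      rw [← actPt_actPt, ← he, actPt_antipode]
    have h1 := hstab _ hmem
    rw [actPt_eq, AlgHom.comp_apply] at h1
    have h2 : GLin.orbitHom k A (R := A) c' χ = c' χ • χ := by
      rw [orbitHom_eq_cf, cf_apply, show Comod.coact (k := k) (A := A) χ = χ ⊗ₜ χ from hχ.comul_eq_tmul_self,
        sliceL_tmul]
      rfl
    rw [h2, map_smul, smul_eq_mul] at h1
    have h3 : c χ * d χ = 1 := by
      rw [show d χ = c (S χ) from rfl, ← map_mul]
      exact (congrArg c hχ.mul_antipode_cancel).trans (map_one c)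
    exact mul_right_cancel₀ (right_ne_zero_of_mul_eq_one h3) (h3.trans h1.symm)
  obtain ⟨p, rfl⟩ := Ideal.Quotient.mk_surjective p
  obtain ⟨q, rfl⟩ := Ideal.Quotient.mk_surjective q
  have hq' : φ q ≠ 0 := fun h => hq (Ideal.Quotient.eq_zero_iff_mem.2 h)
  have hpq' : φ p = φ q * χ := hpq
  -- the ideal of denominators
  let J : Ideal R :=
    { carrier := {f | ∃ c, φ c = φ f * χ}
      add_mem' := by rintro a b ⟨c, hc⟩ ⟨c', hc'⟩; exact ⟨c + c', by rw [map_add, map_add, add_mul, hc, hc']⟩
      zero_mem' := ⟨0, by simp⟩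
      smul_mem' := by rintro r a ⟨c, hc⟩; exact ⟨r * c, by rw [smul_eq_mul, map_mul, map_mul, hc, mul_assoc]⟩ }
  have hφρ : ∀ r : R, Comod.coact (k := k) (A := A) (φ r) =
      φ.toLinearMap.rTensor A (Comod.coact (k := k) (A := A) r) :=
    fun r => IsComodHom.coact_apply (isComodHom_orbitHom x) r
  have hJ : IsSubcomod (k := k) (A := A) (J.restrictScalars k) := by
    rw [isSubcomod_iff_hit]
    intro g f hf
    obtain ⟨c, hc⟩ := (show f ∈ J from hf)
    refine ⟨sliceR g (Comod.coact (k := k) (A := A) c * ((1 : R) ⊗ₜ S χ)), ?_⟩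
    have e1 : ∀ t : R ⊗[k] A, φ (sliceR g t) = sliceR g (φ.toLinearMap.rTensor A t) := by
      intro t
      induction t using TensorProduct.induction_on with
      | zero => simp
      | add a b ha hb => simp only [map_add, ha, hb]
      | tmul a b => simp
    have e2 : ∀ t : R ⊗[k] A, φ.toLinearMap.rTensor A (t * ((1 : R) ⊗ₜ S χ)) =
        φ.toLinearMap.rTensor A t * ((1 : A) ⊗ₜ S χ) := by
      intro t
      induction t using TensorProduct.induction_on with
      | zero => simp
      | add a b ha hb => simp only [map_add, add_mul, ha, hb]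
      | tmul a b => simp
    have e3 : ∀ t : A ⊗[k] A, sliceR g (t * (χ ⊗ₜ (1 : A))) = sliceR g t * χ := by
      intro t
      induction t using TensorProduct.induction_on with
      | zero => simp
      | add a b ha hb => simp only [map_add, add_mul, ha, hb]
      | tmul a b => simp
    have hΔ : Comod.coact (k := k) (A := A) (φ f * χ) =
        φ.toLinearMap.rTensor A (Comod.coact (k := k) (A := A) f) * (χ ⊗ₜ χ) := by
      rw [← hφρ, show Comod.coact (k := k) (A := A) (φ f * χ) = comul (R := k) (φ f * χ) from rfl,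
        Bialgebra.comul_mul, hχ.comul_eq_tmul_self]
      rfl
    rw [e1, e2, ← hφρ, hc, hΔ, mul_assoc, Algebra.TensorProduct.tmul_mul_tmul, mul_one,
      show χ * S χ = 1 from hχ.mul_antipode_cancel, e3, ← e1, hit_apply]
  have hJtop : J = ⊤ := by
    by_contra hne
    obtain ⟨z, hz⟩ := exists_algHom_le_ker (k := k) (sup_le (le_refl J) (le_refl J) |>.trans_lt
      (lt_top_iff_ne_top.2 hne)).ne
    have hK : RingHom.ker φ ≤ J := fun f hf => ⟨0, by rw [RingHom.mem_ker.1 hf, map_zero, zero_mul]⟩
    obtain ⟨g, hg⟩ := hx z (hK.trans ((le_sup_left.trans hz)))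
    obtain ⟨g', hg'⟩ := exists_eq_actPt_symm (x := x) (z := z) ⟨g, hg⟩
    have hcz : GLin.InOrbitClosure k A z x := inOrbitClosure_of_eq_actPt hg
    have hker : J ≤ RingHom.ker (GLin.orbitHom k A z) := fun f hf => by
      obtain ⟨t, ht⟩ := hJ f hf
      rw [RingHom.mem_ker, orbitHom_eq_cf, cf_apply, ← ht]
      clear ht
      induction t using TensorProduct.induction_on with
      | zero => simp
      | add p q hp hq => simp only [map_add, hp, hq, add_zero]
      | tmul a b =>
        have : z (a : R) = 0 := (le_sup_left.trans hz) a.2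
        simp [this]
    exact hq' (RingHom.mem_ker.1 (ker_orbitHom_le hcz (hker ⟨p, hpq'⟩)))
  obtain ⟨c₀, hc₀⟩ := (show (1 : R) ∈ J from hJtop ▸ Submodule.mem_top)
  rw [map_one, one_mul] at hc₀
  -- average in the twisted representation
  obtain ⟨α, hα, h1⟩ := exists_integral hG
  have hSχ : IsGroupLikeElem k (HopfAlgebraStruct.antipode k χ) := hχ.antipode
  have hct : ∀ r : R, (ComodTens.Comod.twist (inferInstance : Comod k A R) _ hSχ).coact r = Comod.coact (k := k) (A := A) r * ((1 : R) ⊗ₜ S χ) := by
    intro r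
    rw [ComodTens.twist_coact]
    generalize Comod.coact (k := k) (A := A) r = t
    induction t using TensorProduct.induction_on with
    | zero => simp
    | add a b ha hb => simp only [map_add, add_mul, ha, hb]
    | tmul a b => simp [S]
  let f := sliceR α (Comod.coact (k := k) (A := A) c₀ * ((1 : R) ⊗ₜ S χ))
  have hf : (ComodTens.Comod.twist (inferInstance : Comod k A R) _ hSχ).coact f = f ⊗ₜ (1 : A) := by
    have h2 : f = @reynolds k _ A _ _ R _ _ (ComodTens.Comod.twist (inferInstance : Comod k A R) _ hSχ) α c₀ := by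
      show _ = sliceR α ((ComodTens.Comod.twist (inferInstance : Comod k A R) _ hSχ).coact c₀)
      rw [hct]
    rw [h2]
    exact @reynolds_mem_fixedPts k _ A _ _ R _ _ (ComodTens.Comod.twist (inferInstance : Comod k A R) _ hSχ) α hα h1 c₀
  refine ⟨f, ?_, ?_⟩
  · have h3 := congrArg (fun t : R ⊗[k] A => t * ((1 : R) ⊗ₜ χ)) hf
    simp only [hct, mul_assoc, Algebra.TensorProduct.tmul_mul_tmul, mul_one, one_mul] at h3
    rwa [show S χ * χ = 1 from hχ.antipode_mul_cancel, ← Algebra.TensorProduct.one_def, mul_one] at h3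
  · have e1 : ∀ t : R ⊗[k] A, φ (sliceR α t) = sliceR α (φ.toLinearMap.rTensor A t) := by
      intro t
      induction t using TensorProduct.induction_on with
      | zero => simp
      | add a b ha hb => simp only [map_add, ha, hb]
      | tmul a b => simp
    have e2 : ∀ t : R ⊗[k] A, φ.toLinearMap.rTensor A (t * ((1 : R) ⊗ₜ S χ)) =
        φ.toLinearMap.rTensor A t * ((1 : A) ⊗ₜ S χ) := by
      intro t
      induction t using TensorProduct.induction_on with
      | zero => simp
      | add a b ha hb => simp only [map_add, add_mul, ha, hb]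
      | tmul a b => simp
    rw [← counit_orbitHom (A := A) x]
    show counit (R := k) (φ f) = 1
    rw [e1, e2, ← hφρ, hc₀, show Comod.coact (k := k) (A := A) χ = χ ⊗ₜ χ from hχ.comul_eq_tmul_self,
      Algebra.TensorProduct.tmul_mul_tmul, mul_one, show χ * S χ = 1 from hχ.mul_antipode_cancel,
      sliceR_tmul, h1, one_smul, hχ.counit_eq_one]

end Groth.Agent.HopfLib
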