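import Groth.Agent.HopfLib.RestrictedEnvHopf
import Groth.Prelude.Def_CartDual
import Mathlib.RingTheory.Derivation.Lie
import Mathlib.LinearAlgebra.Dual.Lemmas

/-! The height one infinitesimal group of a restricted Lie algebra: the dual of the restricted
enveloping algebra, with its left-invariant derivations. -/

universe u

namespace Groth.Agent.HopfLib.REnv

open TensorProduct

variable {k : Type u} [Field k] {L : Type u} [LieRing L] [LieAlgebra k L] {ι : Type} [LinearOrder ι] [Finite ι]
  (b : Module.Basis ι k L) (p : ℕ) [hp : Fact p.Prime] [CharP k p] (φ : PLie.PMap k p L)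

local notation "E" => Env b p φ

/-- the coordinate ring of the height one group -/
abbrev Coord : Type u := CartDual.D k (Env b p φ)

local notation "𝔄" => Coord b p φ

/-- right translation of linear forms -/
noncomputable def trans (a : E) : 𝔄 →ₗ[k] 𝔄 :=
  (CartDual.toDual k E).symm.toLinearMap ∘ₗ (LinearMap.mulRight k a).dualMap ∘ₗ
    (CartDual.toDual k E).toLinearMap

omit [Finite ι] in
theorem trans_apply (a : E) (f : 𝔄) (u : E) : trans b p φ a f u = f (u * a) := rfl

omit [Finite ι] in
theorem ext_apply {f g : 𝔄} (h : ∀ u : E, f u = g u) : f = g :=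
  WithConv.ext (LinearMap.ext h)

omit [Finite ι] in
theorem trans_mul (x : L) (f g : 𝔄) :
    trans b p φ (j b p φ x) (f * g) = f • trans b p φ (j b p φ x) g + g • trans b p φ (j b p φ x) f := by
  refine ext_apply b p φ fun u => ?_
  rw [smul_eq_mul, smul_eq_mul, mul_comm g, trans_apply, LinearMap.convMul_apply, Bialgebra.comul_mul,
    j_mem_primitive, WithConv.ofConv_add, LinearMap.add_apply, LinearMap.convMul_apply, LinearMap.convMul_apply]
  induction Coalgebra.comul (R := k) u using TensorProduct.induction_on with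
  | zero => simp
  | tmul a c => simp [mul_add, Algebra.TensorProduct.tmul_mul_tmul, trans_apply, add_comm]
  | add s t hs ht => simp only [add_mul, map_add, hs, ht]; abel

/-- the left-invariant derivation of an element of `L` -/
noncomputable def der : L →ₗ[k] Derivation k 𝔄 𝔄 where
  toFun x := Derivation.mk' (trans b p φ (j b p φ x)) (fun f g => trans_mul b p φ x f g)
  map_add' x y := Derivation.ext fun f => ext_apply b p φ fun u => by
    change f (u * j b p φ (x + y)) = f (u * j b p φ x) + f (u * j b p φ y)
    rw [map_add, mul_add, map_add]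
  map_smul' c x := Derivation.ext fun f => ext_apply b p φ fun u => by
    change f (u * j b p φ (c • x)) = c • f (u * j b p φ x)
    rw [map_smul, mul_smul_comm, map_smul]

theorem der_apply (x : L) (f : 𝔄) (u : E) : der b p φ x f u = f (u * j b p φ x) := rfl

theorem counit_eq_apply_one (f : 𝔄) : Bialgebra.counitAlgHom k 𝔄 f = f 1 := rfl

instance instCharPCoord : CharP 𝔄 p := by
  have : Nontrivial 𝔄 := (Bialgebra.counitAlgHom k 𝔄).toRingHom.domain_nontrivial
  exact charP_of_injective_algebraMap (algebraMap k 𝔄).injective p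

theorem pow_eq_zero (f : 𝔄) (hf : f 1 = 0) : f ^ p = 0 := by
  have hder : ∀ (u : E) (x : L), (f ^ p) (u * j b p φ x) = 0 := by
    intro u x
    rw [← der_apply, Derivation.leibniz_pow, nsmul_eq_mul, CharP.cast_eq_zero, zero_mul]
    rfl
  have hfp1 : (f ^ p) 1 = 0 := by
    rw [← counit_eq_apply_one, map_pow, counit_eq_apply_one, hf, zero_pow hp.out.ne_zero]
  have key : ∀ u v : E, (f ^ p) v = 0 → (f ^ p) (v * u) = 0 := by
    intro u
    induction u using induction_on b p φ with
    | h0 => intro v hv; rwa [mul_one]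
    | hadd x y hx hy => intro v hv; rw [mul_add, map_add, hx v hv, hy v hv, add_zero]
    | hsmul c x hx => intro v hv; rw [mul_smul_comm, map_smul, hx v hv, smul_zero]
    | hmul x a ha => intro v _; rw [← mul_assoc]; exact ha _ (hder v x)
  exact ext_apply b p φ fun u => by simpa using key u 1 hfp1

theorem eq_of_forall_apply {a c : E} (h : ∀ f : 𝔄, f a = f c) : a = c := by
  rw [← sub_eq_zero, ← Module.forall_dual_apply_eq_zero_iff k]
  intro g
  rw [map_sub, sub_eq_zero]
  exact h ((CartDual.toDual k E).symm g)

theorem der_injective : Function.Injective (der b p φ) := fun x y h =>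
  j_injective b p φ (eq_of_forall_apply b p φ fun f => by
    have := congrArg (fun D : Derivation k 𝔄 𝔄 => D f 1) h
    simpa [der_apply] using this)

theorem ev₂_lTensor (F : 𝔄 →ₗ[k] 𝔄) (a c c' : E) (hF : ∀ f : 𝔄, F f c = f c') (y : 𝔄 ⊗[k] 𝔄) :
    CartDual.ev₂ k E (F.lTensor _ y) (a ⊗ₜ[k] c) = CartDual.ev₂ k E y (a ⊗ₜ[k] c') := by
  induction y using TensorProduct.induction_on with
  | zero => simp
  | tmul f g => simp [hF]
  | add s t hs ht => simp only [map_add, LinearMap.add_apply, hs, ht]

theorem range_der : Set.range (der b p φ) = {D : Derivation k 𝔄 𝔄 |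
    CoalgebraStruct.comul (R := k) (A := 𝔄) ∘ₗ D.toLinearMap =
      LinearMap.lTensor 𝔄 D.toLinearMap ∘ₗ CoalgebraStruct.comul (R := k) (A := 𝔄)} := by
  ext D
  constructor
  · rintro ⟨x, rfl⟩
    apply LinearMap.ext; intro f
    apply (CartDual.ev₂ k E).injective
    apply TensorProduct.ext'
    intro a c
    rw [LinearMap.comp_apply, LinearMap.comp_apply]
    change CartDual.ev₂ k E (CartDual.comul k E (der b p φ x f)) (a ⊗ₜ c) = _
    rw [CartDual.ev₂_comul_tmul, der_apply,
      ev₂_lTensor b p φ (der b p φ x).toLinearMap a c (c * j b p φ x) (fun f => der_apply b p φ x f c),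
      CartDual.ev₂_coalgebra_comul_tmul, mul_assoc]
  · intro hD
    let g : Module.Dual k (Module.Dual k E) :=
      (CartDual.counit k E ∘ₗ D.toLinearMap) ∘ₗ (CartDual.toDual k E).symm.toLinearMap
    obtain ⟨d, hd⟩ : ∃ d : E, ∀ f : 𝔄, D f 1 = f d :=
      ⟨(Module.evalEquiv k E).symm g,
        fun f => (Module.apply_evalEquiv_symm_apply k E (CartDual.toDual k E f) g).symm⟩
    have hDa : ∀ (f : 𝔄) (a : E), D f a = f (a * d) := by
      intro f a
      have h1 : CartDual.ev₂ k E (Coalgebra.comul (R := k) (D f)) (a ⊗ₜ[k] (1 : E)) =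
          CartDual.ev₂ k E (D.toLinearMap.lTensor _ (Coalgebra.comul (R := k) f)) (a ⊗ₜ[k] (1 : E)) :=
        congrArg (fun y => CartDual.ev₂ k E y (a ⊗ₜ[k] (1 : E))) (LinearMap.congr_fun hD f)
      rwa [CartDual.ev₂_coalgebra_comul_tmul, mul_one, ev₂_lTensor b p φ D.toLinearMap a 1 d hd,
        CartDual.ev₂_coalgebra_comul_tmul] at h1
    have hprim : Coalgebra.comul (R := k) d = d ⊗ₜ 1 + 1 ⊗ₜ d := by
      rw [← sub_eq_zero, ← Module.forall_dual_apply_eq_zero_iff k]
      intro F
      obtain ⟨t, rfl⟩ := (CartDual.ev₂ k E).surjective F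
      induction t using TensorProduct.induction_on with
      | zero => simp
      | add s t hs ht => rw [map_add, LinearMap.add_apply, hs, ht, add_zero]
      | tmul f g =>
        have h := congrArg (fun y : 𝔄 => y 1) (D.leibniz f g)
        simp only [smul_eq_mul, hd, WithConv.ofConv_add, LinearMap.add_apply] at h
        rw [LinearMap.convMul_apply, LinearMap.convMul_apply, LinearMap.convMul_apply,
          Bialgebra.comul_one, Algebra.TensorProduct.one_def] at h
        simp only [TensorProduct.map_tmul, LinearMap.mul'_apply, hd] at h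
        rw [map_sub, sub_eq_zero, map_add, CartDual.ev₂_tmul, CartDual.ev₂_tmul,
          CartDual.ev₂_tmul_eq', LinearMap.comp_apply, h]
        ring
    obtain ⟨x, hx⟩ := exists_of_primitive b p φ d hprim
    exact ⟨x, Derivation.ext fun f => ext_apply b p φ fun u => by rw [der_apply, hDa, hx]⟩

theorem der_lie (x y : L) : der b p φ ⁅x, y⁆ = ⁅der b p φ x, der b p φ y⁆ := by
  refine Derivation.ext fun f => ext_apply b p φ fun u => ?_
  rw [Derivation.commutator_apply, WithConv.ofConv_sub, LinearMap.sub_apply, der_apply, der_apply, der_apply,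
    der_apply, der_apply, j_lie, mul_sub, map_sub, mul_assoc, mul_assoc]

theorem der_pmap (x : L) : (der b p φ (φ x)).toLinearMap = (der b p φ x).toLinearMap ^ p := by
  have hpow : ∀ n (f : 𝔄) (u : E), ((der b p φ x).toLinearMap ^ n) f u = f (u * j b p φ x ^ n) := by
    intro n
    induction n with
    | zero => intro f u; simp
    | succ n ih =>
      intro f u
      rw [pow_succ, Module.End.mul_apply, ih]
      change der b p φ x f (u * _) = _
      rw [der_apply, mul_assoc, ← pow_succ]
  refine LinearMap.ext fun f => ext_apply b p φ fun u => ?_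
  rw [hpow, ← j_pow]
  rfl

end Groth.Agent.HopfLib.REnv
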