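import Groth.Agent.HopfLib.Integral
import Mathlib.RingTheory.Trace.Basic
import Mathlib.RingTheory.TensorProduct.Free
import Mathlib.LinearAlgebra.Trace
import Mathlib.RingTheory.Coalgebra.CoassocSimps

/-!
# The trace form of a finite commutative Hopf algebra is an integral
-/

open TensorProduct HopfRep Coalgebra

universe u v

namespace Groth.Agent.HopfLib

set_option maxHeartbeats 400000

variable {k : Type u} [CommRing k] {A : Type v} [CommRing A] [HopfAlgebra k A]

theorem isIntegral_trace [Module.Free k A] [Module.Finite k A] : IsIntegral (Algebra.trace k A) := by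
  let Δ' : A →ₐ[k] A ⊗[k] A :=
    (Algebra.TensorProduct.comm k A A).toAlgHom.comp (Bialgebra.comulAlgHom k A)
  let σ : A ⊗[k] A →ₐ[A] A ⊗[k] A :=
    Algebra.TensorProduct.lift (Algebra.ofId A (A ⊗[k] A)) Δ' (fun _ _ => Commute.all _ _)
  let τ : A ⊗[k] A →ₐ[A] A ⊗[k] A :=
    Algebra.TensorProduct.lift (Algebra.ofId A (A ⊗[k] A))
      ((Algebra.TensorProduct.map (HopfAlgebra.antipodeAlgHom k A) (AlgHom.id k A)).comp Δ')
      (fun _ _ => Commute.all _ _)
  -- the shear map and its inverse on pure tensors, as linear maps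
  have hσ : ∀ x y, σ (x ⊗ₜ y) = (x ⊗ₜ 1) * Δ' y := fun x y => by simp [σ]
  have hτ : ∀ x y, τ (x ⊗ₜ y) =
      (x ⊗ₜ 1) * (HopfAlgebraStruct.antipode k).rTensor A (Δ' y) := by
    intro x y
    simp only [τ, Algebra.TensorProduct.lift_tmul, AlgHom.comp_apply]
    congr 1
  have hΔ : ∀ y, Δ' y = TensorProduct.comm k A A (CoalgebraStruct.comul (R := k) y) := fun y => rfl
  -- iterated comultiplication contracted by the antipode
  have e : ∀ (f : A →ₗ[k] A), (∀ a, f a = CoalgebraStruct.counit (R := k) a • (1 : A)) → ∀ y : A,
      TensorProduct.comm k A A (f.lTensor A (CoalgebraStruct.comul (R := k) y)) = 1 ⊗ₜ y := by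
    intro f hf y
    rw [show f = LinearMap.toSpanSingleton k A 1 ∘ₗ CoalgebraStruct.counit (R := k) (A := A) from
      LinearMap.ext fun a => by simp [hf], LinearMap.lTensor_comp, LinearMap.comp_apply,
      show (CoalgebraStruct.counit (R := k) (A := A)).lTensor A (CoalgebraStruct.comul (R := k) y) =
        y ⊗ₜ 1 from Coalgebra.lTensor_counit_comul y]
    simp
  have e1 := e (LinearMap.mul' k A ∘ₗ (HopfAlgebraStruct.antipode k).lTensor A ∘ₗ
    CoalgebraStruct.comul (R := k)) fun a => (HopfAlgebra.mul_antipode_lTensor_comul_apply (R := k) a).trans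
      (Algebra.algebraMap_eq_smul_one _)
  have e2 := e (LinearMap.mul' k A ∘ₗ (HopfAlgebraStruct.antipode k).rTensor A ∘ₗ
    CoalgebraStruct.comul (R := k)) fun a => sliceL_mul_antipode a
  have hστ : σ.comp τ = AlgHom.id A _ := by
    refine Algebra.TensorProduct.ext (AlgHom.ext fun x => by simp [σ, τ]) (AlgHom.ext fun y => ?_)
    change σ (τ (1 ⊗ₜ y)) = 1 ⊗ₜ y
    rw [hτ, ← Algebra.TensorProduct.one_def, one_mul, hΔ]
    refine Eq.trans ?_ (e1 y)
    rw [LinearMap.lTensor_comp, LinearMap.lTensor_comp, LinearMap.comp_apply, LinearMap.comp_apply]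
    rw [← Coalgebra.coassoc_apply (R := k) y]
    generalize CoalgebraStruct.comul (R := k) y = t
    induction t using TensorProduct.induction_on with
    | zero => simp
    | add p q hp hq => simp only [map_add, hp, hq]
    | tmul p q =>
      simp only [TensorProduct.comm_tmul, LinearMap.rTensor_tmul, hσ, hΔ]
      generalize CoalgebraStruct.comul (R := k) p = s
      induction s using TensorProduct.induction_on with
      | zero => simp
      | add a b ha hb => simp only [TensorProduct.add_tmul, map_add, mul_add, ha, hb]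
      | tmul a b => simp [mul_comm]
  have hτσ : τ.comp σ = AlgHom.id A _ := by
    refine Algebra.TensorProduct.ext (AlgHom.ext fun x => by simp [σ, τ]) (AlgHom.ext fun y => ?_)
    change τ (σ (1 ⊗ₜ y)) = 1 ⊗ₜ y
    rw [hσ, ← Algebra.TensorProduct.one_def, one_mul, hΔ]
    refine Eq.trans ?_ (e2 y)
    rw [LinearMap.lTensor_comp, LinearMap.lTensor_comp, LinearMap.comp_apply, LinearMap.comp_apply]
    rw [← Coalgebra.coassoc_apply (R := k) y]
    generalize CoalgebraStruct.comul (R := k) y = t
    induction t using TensorProduct.induction_on with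
    | zero => simp
    | add p q hp hq => simp only [map_add, hp, hq]
    | tmul p q =>
      simp only [TensorProduct.comm_tmul, LinearMap.rTensor_tmul, hτ, hΔ]
      generalize CoalgebraStruct.comul (R := k) p = s
      induction s using TensorProduct.induction_on with
      | zero => simp
      | add a b ha hb => simp only [TensorProduct.add_tmul, map_add, mul_add, ha, hb]
      | tmul a b => simp [mul_comm]
  have htr : ∀ z : A ⊗[k] A, Algebra.trace A (A ⊗[k] A) z =
      sliceR (Algebra.trace k A) z := by
    intro z
    induction z using TensorProduct.induction_on with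
    | zero => simp
    | add p q hp hq => simp only [map_add, hp, hq]
    | tmul x w =>
      rw [show x ⊗ₜ[k] w = x • ((1 : A) ⊗ₜ[k] w) by simp [TensorProduct.smul_tmul'], map_smul,
        Algebra.trace_apply]
      have : Algebra.lmul A (A ⊗[k] A) (1 ⊗ₜ w) = (Algebra.lmul k A w).baseChange A := by
        refine TensorProduct.AlgebraTensorModule.ext fun p q => ?_
        simp
      rw [this, LinearMap.trace_baseChange]
      simp [Algebra.trace_apply, Algebra.algebraMap_eq_smul_one, TensorProduct.smul_tmul', Algebra.lmul]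
  intro a
  have h := Algebra.trace_eq_of_algEquiv (AlgEquiv.ofAlgHom σ τ hστ hτσ) (1 ⊗ₜ a)
  rw [htr, htr, AlgEquiv.ofAlgHom_apply, hσ, ← Algebra.TensorProduct.one_def, one_mul, hΔ] at h
  refine Eq.trans ?_ (h.trans (by simp))
  generalize CoalgebraStruct.comul (R := k) a = t
  induction t using TensorProduct.induction_on with
  | zero => simp
  | add p q hp hq => simp only [map_add, hp, hq]
  | tmul p q => simp

end Groth.Agent.HopfLib
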