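import Groth.Agent.HopfLib.GITPoints
import Mathlib.RingTheory.HopfAlgebra.Convolution
import Mathlib.GroupTheory.Solvable
import Mathlib.LinearAlgebra.Eigenspace.Triangularizable
import Mathlib.LinearAlgebra.Determinant

/-!
# Lie–Kolchin for connected solvable groups of rational points
-/

set_option autoImplicit false

noncomputable section

open TensorProduct WithConv HopfRep
open scoped commutatorElement

universe u v w

namespace Groth.Agent.HopfLib.LieKolchin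

variable {k : Type u} [Field k] {A : Type v} [CommRing A] [HopfAlgebra k A]

local notation "Γ" => WithConv (A →ₐ[k] k)

/-- A map of the group of rational points induced by an algebra endomorphism. -/
def IsAlgMap (φ : Γ → Γ) : Prop := ∃ Φ : A →ₐ[k] A, ∀ (x : Γ) (a : A), (φ x).ofConv a = x.ofConv (Φ a)

/-- Evaluation of a universal point at a rational point. -/
def evPt (x : Γ) : WithConv (A →ₐ[k] A) →* Γ where
  toFun g := toConv (x.ofConv.comp g.ofConv)
  map_one' := by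
    refine WithConv.ext (AlgHom.ext fun a => ?_)
    rw [ofConv_toConv, AlgHom.comp_apply, AlgHom.convOne_apply, AlgHom.convOne_apply, AlgHom.commutes]
  map_mul' g h := congrArg toConv (AlgHom.comp_convMul_distrib x.ofConv g h)

theorem isAlgMap_iff (φ : Γ → Γ) : IsAlgMap φ ↔ ∃ g : WithConv (A →ₐ[k] A), ∀ x, φ x = evPt x g := by
  constructor
  · rintro ⟨Φ, hΦ⟩
    exact ⟨toConv Φ, fun x => WithConv.ext (AlgHom.ext fun a => hΦ x a)⟩
  · rintro ⟨g, hg⟩
    exact ⟨g.ofConv, fun x a => by rw [hg x]; rfl⟩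

theorem IsAlgMap.id' : IsAlgMap (k := k) (A := A) (fun x => x) := ⟨AlgHom.id k A, fun _ _ => rfl⟩

theorem IsAlgMap.const (c : Γ) : IsAlgMap (fun _ => c) :=
  ⟨(Algebra.ofId k A).comp c.ofConv, fun x a => (x.ofConv.commutes (c.ofConv a)).symm⟩

theorem IsAlgMap.mul {φ ψ : Γ → Γ} (hφ : IsAlgMap φ) (hψ : IsAlgMap ψ) : IsAlgMap (fun x => φ x * ψ x) := by
  rw [isAlgMap_iff] at *
  obtain ⟨g, hg⟩ := hφ
  obtain ⟨h, hh⟩ := hψ
  exact ⟨g * h, fun x => by rw [map_mul, ← hg, ← hh]⟩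

theorem IsAlgMap.inv {φ : Γ → Γ} (hφ : IsAlgMap φ) : IsAlgMap (fun x => (φ x)⁻¹) := by
  rw [isAlgMap_iff] at *
  obtain ⟨g, hg⟩ := hφ
  exact ⟨g⁻¹, fun x => by rw [map_inv, ← hg]⟩

section Irreducible

/-- The functions vanishing on a set of rational points. -/
def vanish (S : Set Γ) : Ideal A := ⨅ x ∈ S, RingHom.ker x.ofConv

theorem mem_vanish {S : Set Γ} {a : A} : a ∈ vanish S ↔ ∀ x ∈ S, x.ofConv a = 0 := by
  simp [vanish, Submodule.mem_iInf, RingHom.mem_ker]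

/-- Irreducible sets of rational points. -/
def Irr (S : Set Γ) : Prop := (vanish S).IsPrime

theorem Irr.nonempty {S : Set Γ} (h : Irr S) : S.Nonempty := by
  rw [Set.nonempty_iff_ne_empty]
  rintro rfl
  exact h.ne_top ((Ideal.eq_top_iff_one _).2 (mem_vanish.2 fun x hx => hx.elim))

theorem irr_of {S : Set Γ} (hne : S.Nonempty)
    (h : ∀ a b : A, (∀ x ∈ S, x.ofConv a * x.ofConv b = 0) →
      (∀ x ∈ S, x.ofConv a = 0) ∨ ∀ x ∈ S, x.ofConv b = 0) : Irr S := by
  refine ⟨fun htop => ?_, fun {a b} hab => ?_⟩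
  · obtain ⟨x, hx⟩ := hne
    have h1 := mem_vanish.1 ((Ideal.eq_top_iff_one _).1 htop) x hx
    rw [map_one] at h1
    exact one_ne_zero h1
  · rcases h a b (fun x hx => by rw [← map_mul]; exact mem_vanish.1 hab x hx) with h | h
    · exact Or.inl (mem_vanish.2 h)
    · exact Or.inr (mem_vanish.2 h)

theorem Irr.or_zero {S : Set Γ} (hS : Irr S) {a b : A} (h : ∀ x ∈ S, x.ofConv a * x.ofConv b = 0) :
    (∀ x ∈ S, x.ofConv a = 0) ∨ ∀ x ∈ S, x.ofConv b = 0 := by
  have hab : a * b ∈ vanish S := mem_vanish.2 fun x hx => by rw [map_mul]; exact h x hx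
  exact (Ideal.IsPrime.mem_or_mem hS hab).imp mem_vanish.1 mem_vanish.1

/-- An irreducible set covered by finitely many zero sets lies in one of them. -/
theorem Irr.exists_cover {S : Set Γ} (hS : Irr S) {ι : Type*} (s : Finset ι) (Z : ι → Set A)
    (h : ∀ x ∈ S, ∃ i ∈ s, ∀ a ∈ Z i, x.ofConv a = 0) :
    ∃ i ∈ s, ∀ x ∈ S, ∀ a ∈ Z i, x.ofConv a = 0 := by
  by_contra hc
  push Not at hc
  choose! x hx a ha hne using hc
  have hmem : ∏ i ∈ s, a i ∈ vanish S := mem_vanish.2 fun y hy => by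
    obtain ⟨i, hi, hz⟩ := h y hy
    rw [map_prod]
    exact Finset.prod_eq_zero hi (hz _ (ha i hi))
  obtain ⟨i, hi, hi'⟩ := (Ideal.IsPrime.prod_mem_iff (hp := hS)).1 hmem
  exact hne i hi (mem_vanish.1 hi' _ (hx i hi))

theorem irr_singleton (x : Γ) : Irr ({x} : Set Γ) :=
  irr_of ⟨x, rfl⟩ fun a b h => (mul_eq_zero.1 (h x rfl)).imp (fun e y hy => by rw [hy]; exact e)
    (fun e y hy => by rw [hy]; exact e)

theorem irr_image2 {S T : Set Γ} (hS : Irr S) (hT : Irr T) (f : Γ → Γ → Γ)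
    (hl : ∀ t, IsAlgMap fun s => f s t) (hr : ∀ s, IsAlgMap fun t => f s t) : Irr (Set.image2 f S T) := by
  obtain ⟨s₀, hs₀⟩ := hS.nonempty
  obtain ⟨t₀, ht₀⟩ := hT.nonempty
  refine irr_of ⟨_, Set.mem_image2_of_mem hs₀ ht₀⟩ fun a b h => ?_
  by_contra hc
  push Not at hc
  obtain ⟨⟨x, hx, hxa⟩, ⟨y, hy, hyb⟩⟩ := hc
  obtain ⟨s₁, hs₁, t₁, ht₁, rfl⟩ := hx
  obtain ⟨s₂, hs₂, t₂, ht₂, rfl⟩ := hy
  obtain ⟨P, hP⟩ := hl t₁
  obtain ⟨Q, hQ⟩ := hl t₂
  have hsplit : ∀ s ∈ S, s.ofConv (P a) * s.ofConv (Q b) = 0 := fun s hs => by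
    obtain ⟨R, hR⟩ := hr s
    have h' : ∀ t ∈ T, t.ofConv (R a) * t.ofConv (R b) = 0 := fun t ht => by
      rw [← hR t a, ← hR t b]
      exact h _ (Set.mem_image2_of_mem hs ht)
    rcases hT.or_zero h' with h' | h'
    · rw [← hP s a, hR t₁ a, h' t₁ ht₁, zero_mul]
    · rw [← hQ s b, hR t₂ b, h' t₂ ht₂, mul_zero]
  rcases hS.or_zero hsplit with h' | h'
  · exact hxa (by rw [hP s₁ a]; exact h' s₁ hs₁)
  · exact hyb (by rw [hQ s₂ b]; exact h' s₂ hs₂)

theorem irr_iUnion {P : ℕ → Set Γ} (hP : ∀ n, Irr (P n)) (hmono : Monotone P) : Irr (⋃ n, P n) := by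
  obtain ⟨x, hx⟩ := (hP 0).nonempty
  refine irr_of ⟨x, Set.mem_iUnion.2 ⟨0, hx⟩⟩ fun a b h => ?_
  by_contra hc
  push Not at hc
  obtain ⟨⟨y, hy, hya⟩, ⟨z, hz, hzb⟩⟩ := hc
  obtain ⟨m, hm⟩ := Set.mem_iUnion.1 hy
  obtain ⟨n, hn⟩ := Set.mem_iUnion.1 hz
  rcases (hP (max m n)).or_zero fun w hw => h w (Set.mem_iUnion.2 ⟨_, hw⟩) with h' | h'
  · exact hya (h' y (hmono (le_max_left _ _) hm))
  · exact hzb (h' z (hmono (le_max_right _ _) hn))

/-- The derived group of an irreducible group is irreducible. -/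
theorem irr_commutator {H : Subgroup Γ} (hH : Irr (H : Set Γ)) : Irr ((⁅H, H⁆ : Subgroup Γ) : Set Γ) := by
  let C : Set Γ := Set.image2 (fun s t : Γ => s * t * s⁻¹ * t⁻¹) H H
  have hC : Irr C := irr_image2 hH hH _
    (fun t => ((IsAlgMap.id'.mul (IsAlgMap.const t)).mul IsAlgMap.id'.inv).mul (IsAlgMap.const t⁻¹))
    (fun s => (((IsAlgMap.const s).mul IsAlgMap.id').mul (IsAlgMap.const s⁻¹)).mul IsAlgMap.id'.inv)
  have h1C : (1 : Γ) ∈ C := ⟨1, H.one_mem, 1, H.one_mem, by group⟩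
  have hCinv : ∀ c ∈ C, c⁻¹ ∈ C := by
    rintro _ ⟨s, hs, t, ht, rfl⟩
    exact ⟨t, ht, s, hs, by group⟩
  have hCle : ∀ c ∈ C, c ∈ (⁅H, H⁆ : Subgroup Γ) := by
    rintro _ ⟨s, hs, t, ht, rfl⟩
    exact Subgroup.commutator_mem_commutator hs ht
  let P : ℕ → Set Γ := fun n => n.rec {1} fun _ p => Set.image2 (fun x c : Γ => x * c) p C
  have hP : ∀ n, Irr (P n) := fun n => by
    induction n with
    | zero => exact irr_singleton _
    | succ n ih =>
      exact irr_image2 ih hC _ (fun c => IsAlgMap.id'.mul (IsAlgMap.const c))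
        (fun x => (IsAlgMap.const x).mul IsAlgMap.id')
  have hmono : Monotone P := monotone_nat_of_le_succ fun n x hx => ⟨x, hx, 1, h1C, _root_.mul_one x⟩
  have heq : ((⁅H, H⁆ : Subgroup Γ) : Set Γ) = ⋃ n, P n := by
    refine Set.Subset.antisymm (fun x hx => ?_) (Set.iUnion_subset fun n => ?_)
    · have hx' : x ∈ Submonoid.closure C := by
        have h : (⁅H, H⁆ : Subgroup Γ) ≤ Subgroup.closure C :=
          Subgroup.commutator_le.2 fun s hs t ht => Subgroup.subset_closure ⟨s, hs, t, ht, rfl⟩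
        have h2 := h hx
        rw [← Subgroup.mem_toSubmonoid, Subgroup.closure_toSubmonoid] at h2
        refine Submonoid.closure_mono ?_ h2
        rintro c (hc | hc)
        · exact hc
        · simpa using hCinv _ hc
      clear hx
      induction hx' using Submonoid.closure_induction_right with
      | one => exact Set.mem_iUnion.2 ⟨0, rfl⟩
      | mul_right x _ c hc ih =>
        obtain ⟨n, hn⟩ := Set.mem_iUnion.1 (ih)
        exact Set.mem_iUnion.2 ⟨n + 1, x, hn, c, hc, rfl⟩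
    · induction n with
      | zero => rintro x rfl; exact one_mem _
      | succ n ih => rintro _ ⟨x, hx, c, hc, rfl⟩; exact mul_mem (ih hx) (hCle c hc)
  rw [heq]
  exact irr_iUnion hP hmono

end Irreducible

section Rep

variable {V : Type w} [AddCommGroup V] [Module k V]

/-- All matrix coefficients of a representation of the rational points are regular functions. -/
def IsRegularRep (ρ : Γ →* Module.End k V) : Prop :=
  ∀ (v : V) (f : V →ₗ[k] k), ∃ a : A, ∀ x : Γ, x.ofConv a = f (ρ x v)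

/-- A commuting family over an algebraically closed field has a common eigenvector. -/
theorem exists_common_eigenvector [IsAlgClosed k] [Module.Finite k V] {s : Set (Module.End k V)}
    (hs : ∀ f ∈ s, ∀ g ∈ s, Commute f g) :
    ∀ n, ∀ U : Submodule k V, Module.finrank k U = n → U ≠ ⊥ → (∀ f ∈ s, ∀ u ∈ U, f u ∈ U) →
      ∃ v ∈ U, v ≠ 0 ∧ ∀ f ∈ s, ∃ c : k, f v = c • v := by
  intro n
  induction n using Nat.strong_induction_on with
  | _ n ih =>
  intro U hn hU hstab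
  by_cases hsc : ∀ f ∈ s, ∃ c : k, ∀ u ∈ U, f u = c • u
  · obtain ⟨v, hv, hv0⟩ := U.exists_mem_ne_zero_of_ne_bot hU
    exact ⟨v, hv, hv0, fun f hf => (hsc f hf).imp fun c hc => hc v hv⟩
  push Not at hsc
  obtain ⟨g, hg, hgsc⟩ := hsc
  haveI : Nontrivial U := Submodule.nontrivial_iff_ne_bot.2 hU
  obtain ⟨c, hc⟩ := Module.End.exists_eigenvalue (g.restrict (hstab g hg))
  obtain ⟨w, hw⟩ := hc.exists_hasEigenvector
  have hwg : g (w : V) = c • (w : V) := congrArg Subtype.val hw.apply_eq_smul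
  let U' : Submodule k V := U ⊓ LinearMap.ker (g - c • (1 : Module.End k V))
  have hmem : ∀ u, u ∈ U' ↔ u ∈ U ∧ g u = c • u := fun u => by
    simp [U', Submodule.mem_inf, LinearMap.mem_ker, sub_eq_zero]
  have hlt : U' < U := lt_of_le_of_ne inf_le_left fun he => by
    obtain ⟨u, hu, hne⟩ := hgsc c
    exact hne ((hmem u).1 (he ▸ hu)).2
  obtain ⟨v, hv, hv0, hvs⟩ := ih _ (hn ▸ Submodule.finrank_lt_finrank_of_lt hlt) U' rfl
    (Submodule.ne_bot_iff _ |>.2 ⟨w, (hmem _).2 ⟨w.2, hwg⟩, fun h => hw.2 (Subtype.ext h)⟩)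
    (fun f hf u hu => (hmem _).2 ⟨hstab f hf u ((hmem u).1 hu).1, by
      rw [← Module.End.mul_apply, ← (hs f hf g hg).eq, Module.End.mul_apply, ((hmem u).1 hu).2, map_smul]⟩)
  exact ⟨v, ((hmem v).1 hv).1, hv0, hvs⟩

theorem exists_eigenvector_step [IsAlgClosed k] [Module.Finite k V] {H : Subgroup Γ} (hH : Irr (H : Set Γ))
    (ρ : Γ →* Module.End k V) (hρ : IsRegularRep ρ) {v₀ : V} (hv₀ : v₀ ≠ 0)
    (hD : ∀ d ∈ (⁅H, H⁆ : Subgroup Γ), ∃ c : k, ρ d v₀ = c • v₀) :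
    ∃ v : V, v ≠ 0 ∧ ∀ h ∈ H, ∃ c : k, ρ h v = c • v := by
  classical
  choose! χ hχ using hD
  let b := Module.finBasis k V
  obtain ⟨i₀, hi₀⟩ : ∃ i, b.repr v₀ i ≠ 0 := by
    by_contra hc
    push Not at hc
    exact hv₀ (b.repr.map_eq_zero_iff.1 (Finsupp.ext hc))
  have hDH : (⁅H, H⁆ : Subgroup Γ) ≤ H :=
    Subgroup.commutator_le.2 fun s hs t ht => H.mul_mem (H.mul_mem (H.mul_mem hs ht) (H.inv_mem hs)) (H.inv_mem ht)
  have hconjD : ∀ d ∈ (⁅H, H⁆ : Subgroup Γ), ∀ h ∈ H, h⁻¹ * d * h ∈ (⁅H, H⁆ : Subgroup Γ) := fun d hd h hh => by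
    have e : h⁻¹ * d * h = ⁅h⁻¹, d⁆ * d := by rw [commutatorElement_def]; group
    rw [e]
    exact mul_mem (Subgroup.commutator_mem_commutator (H.inv_mem hh) (hDH hd)) hd
  have hmove : ∀ d ∈ (⁅H, H⁆ : Subgroup Γ), ∀ h ∈ H, ρ d (ρ h v₀) = χ (h⁻¹ * d * h) • ρ h v₀ := fun d hd h hh => by
    have e : ρ d (ρ h v₀) = ρ h (ρ (h⁻¹ * d * h) v₀) := by
      rw [← Module.End.mul_apply, ← Module.End.mul_apply, ← map_mul, ← map_mul]
      congr 2
      group
    rw [e, hχ _ (hconjD d hd h hh), map_smul]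
  have hconst : ∀ d ∈ (⁅H, H⁆ : Subgroup Γ), ∀ h ∈ H, ρ d (ρ h v₀) = χ d • ρ h v₀ := by
    intro d hd
    let M : Set k := {μ | Module.End.HasEigenvalue (ρ d) μ}
    have hfin : M.Finite := Module.End.finite_hasEigenvalue (ρ d)
    let Z : k → Set A := fun μ => {a | ∃ i, ∀ h : Γ, h.ofConv a =
      b.repr (ρ (h⁻¹ * d * h) v₀) i - μ * b.repr v₀ i}
    have hZ : ∀ (μ : k) (h : Γ), (∀ a ∈ Z μ, h.ofConv a = 0) → ρ (h⁻¹ * d * h) v₀ = μ • v₀ := by
      intro μ h hz
      refine b.repr.injective (Finsupp.ext fun i => ?_)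
      obtain ⟨a₀, ha₀⟩ := hρ v₀ (b.coord i)
      obtain ⟨Φ, hΦ⟩ := (IsAlgMap.id'.inv.mul (IsAlgMap.const d)).mul (IsAlgMap.id' (k := k) (A := A))
      have := hz (Φ a₀ - algebraMap k A (μ * b.repr v₀ i)) ⟨i, fun h' => by
        rw [map_sub, AlgHom.commutes, ← hΦ h' a₀, ha₀]; rfl⟩
      rw [map_sub, AlgHom.commutes, ← hΦ h a₀, ha₀, sub_eq_zero] at this
      rw [map_smul, Finsupp.smul_apply, smul_eq_mul]
      exact this
    obtain ⟨μ, -, hμ⟩ := hH.exists_cover hfin.toFinset Z fun h hh =>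
      ⟨χ (h⁻¹ * d * h), hfin.mem_toFinset.2 (Module.End.hasEigenvalue_of_hasEigenvector
        ⟨Module.End.mem_eigenspace_iff.2 (hmove d hd h hh), fun h0 => hv₀ (by
          have := congrArg (ρ h⁻¹) h0
          rwa [← Module.End.mul_apply, ← map_mul, inv_mul_cancel, map_one, map_zero] at this)⟩),
        fun a ⟨i, hi⟩ => by
          rw [hi h, hχ _ (hconjD d hd h hh), map_smul, Finsupp.smul_apply, smul_eq_mul, sub_self]⟩
    intro h hh
    have hμ1 : χ d = μ := by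
      have e := hZ μ 1 fun a ha => hμ 1 H.one_mem a ha
      rw [inv_one, _root_.one_mul, _root_.mul_one, hχ d hd] at e
      exact smul_left_injective k hv₀ e
    rw [hmove d hd h hh, hμ1]
    congr 1
    exact smul_left_injective k hv₀ ((hχ _ (hconjD d hd h hh)).symm.trans (hZ μ h fun a ha => hμ h hh a ha))
  let W : Submodule k V := Submodule.span k ((fun h => ρ h v₀) '' H)
  have hWstab : ∀ h ∈ H, ∀ w ∈ W, ρ h w ∈ W := fun h hh w hw => by
    induction hw using Submodule.span_induction with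
    | mem w hw =>
      obtain ⟨g, hg, rfl⟩ := hw
      exact Submodule.subset_span ⟨h * g, H.mul_mem hh hg, by simp [map_mul]⟩
    | zero => simp
    | add x y _ _ hx hy => rw [map_add]; exact W.add_mem hx hy
    | smul c x _ hx => rw [map_smul]; exact W.smul_mem c hx
  have hWscal : ∀ d ∈ (⁅H, H⁆ : Subgroup Γ), ∀ w ∈ W, ρ d w = χ d • w := fun d hd w hw => by
    induction hw using Submodule.span_induction with
    | mem w hw =>
      obtain ⟨g, hg, rfl⟩ := hw
      exact hconst d hd g hg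
    | zero => simp
    | add x y _ _ hx hy => rw [map_add, hx, hy, smul_add]
    | smul c x _ hx => rw [map_smul, hx, smul_comm]
  have hv₀W : v₀ ∈ W := Submodule.subset_span ⟨1, H.one_mem, by simp⟩
  have hW0 : W ≠ ⊥ := fun h => hv₀ ((Submodule.mem_bot k).1 (h ▸ hv₀W))
  let σ : H →* Module.End k W :=
    { toFun := fun h => (ρ h).restrict (hWstab h h.2)
      map_one' := LinearMap.ext fun w => Subtype.ext (by simp)
      map_mul' := fun g h => LinearMap.ext fun w => Subtype.ext (by simp [map_mul]) }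
  let φ : H →* kˣ := (LinearMap.det.comp σ).toHomUnits
  have hdet : ∀ d ∈ (⁅H, H⁆ : Subgroup Γ), (χ d) ^ Module.finrank k W = 1 := by
    intro d hd
    have hle : (⁅H, H⁆ : Subgroup Γ) ≤ (φ.ker).map H.subtype := Subgroup.commutator_le.2 fun s hs t ht =>
      ⟨⁅(⟨s, hs⟩ : H), ⟨t, ht⟩⁆, by
        rw [SetLike.mem_coe, MonoidHom.mem_ker, map_commutatorElement, commutatorElement_eq_one_iff_mul_comm]
        exact mul_comm _ _, by rw [map_commutatorElement]; rfl⟩
    obtain ⟨d', hd', hdd⟩ := hle hd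
    have h1 : LinearMap.det (σ d') = 1 := congrArg Units.val (MonoidHom.mem_ker.1 hd')
    have hσ : σ d' = χ d • (1 : Module.End k W) := LinearMap.ext fun w => Subtype.ext (by
      subst hdd
      exact hWscal _ hd w w.2)
    rw [hσ, LinearMap.det_smul, map_one, _root_.mul_one] at h1
    exact h1
  have hm : Module.finrank k W ≠ 0 := fun h => hW0 (Submodule.finrank_eq_zero.1 h)
  obtain ⟨a, ha⟩ := hρ v₀ (b.coord i₀)
  let m := Module.finrank k W
  let R : Finset k := (Polynomial.nthRoots m (1 : k)).toFinset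
  have hone : ∀ d ∈ (⁅H, H⁆ : Subgroup Γ), χ d = 1 := by
    obtain ⟨μ, -, hμ⟩ := (irr_commutator hH).exists_cover R
      (fun μ => {a - algebraMap k A (μ * b.repr v₀ i₀)}) fun d hd =>
      ⟨χ d, Multiset.mem_toFinset.2 ((Polynomial.mem_nthRoots (Nat.pos_of_ne_zero hm)).2 (hdet d hd)), by
        rintro _ rfl
        rw [map_sub, AlgHom.commutes, ha, hχ d hd, Module.Basis.coord_apply, map_smul, Finsupp.smul_apply,
          smul_eq_mul, Algebra.algebraMap_self_apply, sub_self]⟩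
    have hval : ∀ d ∈ (⁅H, H⁆ : Subgroup Γ), χ d = μ := fun d hd => by
      have e := hμ d hd _ rfl
      rw [map_sub, AlgHom.commutes, ha, hχ d hd, Module.Basis.coord_apply, map_smul, Finsupp.smul_apply,
        smul_eq_mul, Algebra.algebraMap_self_apply, ← sub_mul, mul_eq_zero, or_iff_left hi₀, sub_eq_zero] at e
      exact e
    intro d hd
    rw [hval d hd, ← hval 1 (one_mem _)]
    refine smul_left_injective k hv₀ ?_
    show χ 1 • v₀ = (1 : k) • v₀
    rw [← hχ 1 (one_mem _), map_one, one_smul]; rfl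
  have hcomm : ∀ f ∈ Set.range σ, ∀ g ∈ Set.range σ, Commute f g := by
    rintro _ ⟨s, rfl⟩ _ ⟨t, rfl⟩
    refine LinearMap.ext fun w => Subtype.ext ?_
    have hd : ⁅(s : Γ), (t : Γ)⁆ ∈ (⁅H, H⁆ : Subgroup Γ) := Subgroup.commutator_mem_commutator s.2 t.2
    show ρ s (ρ t w) = ρ t (ρ s w)
    have h := hWscal _ hd _ (hWstab t t.2 _ (hWstab s s.2 _ w.2))
    rw [hone _ hd, one_smul] at h
    refine Eq.trans ?_ h
    rw [← Module.End.mul_apply, ← Module.End.mul_apply, ← Module.End.mul_apply, ← map_mul, ← map_mul, ← map_mul]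
    congr 2
    rw [commutatorElement_def]
    group
  haveI : Nontrivial W := Submodule.nontrivial_iff_ne_bot.2 hW0
  obtain ⟨w, -, hw0, hws⟩ := exists_common_eigenvector hcomm _ ⊤ rfl top_ne_bot fun _ _ _ _ => Submodule.mem_top
  refine ⟨w, fun h => hw0 (Subtype.ext h), fun h hh => ?_⟩
  obtain ⟨c, hc⟩ := hws _ ⟨⟨h, hh⟩, rfl⟩
  exact ⟨c, congrArg Subtype.val hc⟩

theorem exists_eigenvector_derived [IsAlgClosed k] [Module.Finite k V] [Nontrivial V]
    (ρ : Γ →* Module.End k V) (hρ : IsRegularRep ρ) (n : ℕ) :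
    ∀ H : Subgroup Γ, Irr (H : Set Γ) → (fun K : Subgroup Γ => ⁅K, K⁆)^[n] H = ⊥ →
      ∃ v : V, v ≠ 0 ∧ ∀ h ∈ H, ∃ c : k, ρ h v = c • v := by
  induction n with
  | zero =>
    intro H _ hH
    obtain ⟨v, hv⟩ := exists_ne (0 : V)
    refine ⟨v, hv, fun h hh => ⟨1, ?_⟩⟩
    obtain rfl : H = ⊥ := hH
    rw [Subgroup.mem_bot.1 hh, map_one, one_smul]; rfl
  | succ n ih =>
    intro H hirr hH
    rw [Function.iterate_succ_apply] at hH
    obtain ⟨v₀, hv₀, hD⟩ := ih _ (irr_commutator hirr) hH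
    exact exists_eigenvector_step hirr ρ hρ hv₀ hD

end Rep

end Groth.Agent.HopfLib.LieKolchin
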