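import Groth.Agent.HopfLib.PseudoReflPoly
import Groth.Agent.HopfLib.FiniteGen
import Groth.Agent.InvLib.FiniteGroupOrbit
import Groth.Agent.DimLib.Algebra
import Groth.Agent.VarietyLib.SmoothStalk

/-!
# Quotients at fixed points of groups generated by pseudo-reflections
-/

open TensorProduct HopfRep MvPolynomial

universe u

namespace Groth.Agent.HopfLib

set_option linter.unusedSectionVars false
set_option maxHeartbeats 800000

variable {k : Type u} [Field k] {A : Type u} [CommRing A] [HopfAlgebra k A]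

theorem mem_quotInvariants_iff_hit {V : Type u} [AddCommGroup V] [Module k V] [Comod k A V]
    (I : Ideal A) (v : V) :
    v ∈ GLin.quotInvariants k A V I ↔
      ∀ g : A →ₗ[k] k, (∀ a ∈ I, g a = 0) → hit g v = g 1 • v := by
  rw [mem_quotInvariants_iff_fixIdeal_le, fixIdeal, Ideal.span_le]
  constructor
  · intro h g hg
    refine sub_eq_zero.1 ((Module.forall_dual_apply_eq_zero_iff k _).1 fun f => ?_)
    have h0 := hg _ (h ⟨f, rfl⟩)
    rw [map_sub, map_smul, apply_cf, smul_eq_mul, mul_comm] at h0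
    rw [map_sub, map_smul, smul_eq_mul]
    exact h0
  · rintro h _ ⟨f, rfl⟩
    by_contra hne
    obtain ⟨g, hg0, hgI⟩ := Submodule.exists_le_ker_of_notMem (p := I.restrictScalars k) hne
    refine hg0 ?_
    rw [map_sub, map_smul, apply_cf, h g fun a ha => hgI ha, map_smul, smul_eq_mul, smul_eq_mul, mul_comm,
      sub_self]

variable {R : Type u} [CommRing R] [Algebra k R] [Comod k A R] [GLin.IsCoactAlg k A R]

theorem mul_mem_range_rTensor {U U' U'' : Submodule k R} (h : ∀ a ∈ U, ∀ b ∈ U', a * b ∈ U'')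
    {s t : R ⊗[k] A} (hs : s ∈ LinearMap.range (U.subtype.rTensor A))
    (ht : t ∈ LinearMap.range (U'.subtype.rTensor A)) : s * t ∈ LinearMap.range (U''.subtype.rTensor A) := by
  obtain ⟨s, rfl⟩ := hs
  obtain ⟨t, rfl⟩ := ht
  induction s using TensorProduct.induction_on with
  | zero => simp
  | add p q hp hq => rw [map_add, add_mul]; exact add_mem hp hq
  | tmul p c =>
    induction t using TensorProduct.induction_on with
    | zero => simp
    | add p' q hp hq => rw [map_add, mul_add]; exact add_mem hp hq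
    | tmul q d => exact ⟨(⟨(p : R) * q, h p p.2 q q.2⟩ : U'') ⊗ₜ (c * d), by simp⟩

theorem isSubcomod_mul {I J : Ideal R} (hI : IsSubcomod (k := k) (A := A) (I.restrictScalars k))
    (hJ : IsSubcomod (k := k) (A := A) (J.restrictScalars k)) :
    IsSubcomod (k := k) (A := A) ((I * J).restrictScalars k) := by
  rw [isSubcomod_iff_hit]
  intro g x hx
  rw [Submodule.restrictScalars_mem] at hx ⊢
  induction hx using Submodule.mul_induction_on' with
  | mem_mul_mem a ha b hb =>
    rw [hit_apply, GLin.IsCoactAlg.coact_mul]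
    exact sliceR_mem_of_mem_range (mul_mem_range_rTensor
      (U'' := (I * J).restrictScalars k) (fun a ha b hb => Ideal.mul_mem_mul ha hb) (hI a ha) (hJ b hb)) g
  | add a _ b _ ha hb => rw [map_add]; exact add_mem ha hb

theorem isSubcomod_pow {I : Ideal R} (hI : IsSubcomod (k := k) (A := A) (I.restrictScalars k)) (n : ℕ) :
    IsSubcomod (k := k) (A := A) ((I ^ n).restrictScalars k) := by
  induction n with
  | zero => rw [pow_zero, Ideal.one_eq_top, Submodule.restrictScalars_top]; exact isSubcomod_top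
  | succ n ih => rw [pow_succ]; exact isSubcomod_mul ih hI

theorem apply_hit_of_isFixedPt {x : R →ₐ[k] k} (hx : GLin.IsFixedPt k A x) (g : A →ₗ[k] k) (f : R) :
    x (hit g f) = g 1 * x f := by
  have h : g (GLin.orbitHom k A x f) = g ((Algebra.ofId k A).comp x f) := by
    rw [show GLin.orbitHom k A x = (Algebra.ofId k A).comp x from hx]
  rw [show ((Algebra.ofId k A).comp x f) = x f • (1 : A) by
    simp [Algebra.algebraMap_eq_smul_one, Algebra.ofId_apply], map_smul, smul_eq_mul, mul_comm] at h
  rw [← h, hit_apply]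
  change x (sliceR g (Comod.coact f)) = g ((Algebra.TensorProduct.lid k A)
    (Algebra.TensorProduct.map x (AlgHom.id k A) (GLin.coactAlgHom k A R f)))
  rw [GLin.coactAlgHom_apply]
  generalize Comod.coact (k := k) (A := A) f = t
  induction t using TensorProduct.induction_on with
  | zero => simp
  | add p q hp hq => simp only [map_add, hp, hq]
  | tmul p q => simp [mul_comm]

theorem isSubcomod_ker_of_isFixedPt {x : R →ₐ[k] k} (hx : GLin.IsFixedPt k A x) :
    IsSubcomod (k := k) (A := A) ((RingHom.ker x).restrictScalars k) :=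
  isSubcomod_iff_hit.2 fun g v hv => by
    rw [Submodule.restrictScalars_mem, RingHom.mem_ker] at hv ⊢
    rw [apply_hit_of_isFixedPt hx, hv, mul_zero]

/-- An equivariant section of the cotangent space. -/
theorem exists_cot_section (hG : IsLinearlyReductive k A) [IsNoetherianRing R]
    {x : R →ₐ[k] k} (hx : GLin.IsFixedPt k A x) :
    ∃ W : Submodule k R, Module.Finite k W ∧ IsSubcomod (k := k) (A := A) W ∧
      W ≤ (RingHom.ker x).restrictScalars k ∧
      Disjoint W ((RingHom.ker x ^ 2).restrictScalars k) ∧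
      W ⊔ (RingHom.ker x ^ 2).restrictScalars k = (RingHom.ker x).restrictScalars k := by
  classical
  set m := RingHom.ker x with hm
  have hmsub := isSubcomod_ker_of_isFixedPt (A := A) hx
  obtain ⟨G, hG'⟩ := (IsNoetherian.noetherian m : m.FG)
  obtain ⟨S₀, hS₀, hGS, hS₀sub⟩ := exists_finite_subcomod (k := k) (A := A) (V := R) (G : Set R) G.finite_toSet
  let S := S₀ ⊓ m.restrictScalars k
  have hSsub : IsSubcomod (k := k) (A := A) S := isSubcomod_inf hS₀sub hmsub
  have : Module.Finite k S := Module.Finite.of_injective (Submodule.inclusion (inf_le_left : S ≤ S₀))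
    (Submodule.inclusion_injective _)
  let cS : Comod k A S := ComodSub.Comod.restr inferInstance S hSsub
  have hm2 := isSubcomod_pow hmsub 2
  obtain ⟨W', hW', hc⟩ := hG S inferInstance (((m ^ 2).restrictScalars k).comap S.subtype)
    (isSubcomod_comap (ComodSub.isComodHom_subtype _ S hSsub) hm2)
  refine ⟨W'.map S.subtype, inferInstance, isSubcomod_map (ComodSub.isComodHom_subtype _ S hSsub) hW', ?_, ?_, ?_⟩
  · rintro _ ⟨y, -, rfl⟩; exact y.2.2
  · rw [Submodule.disjoint_def]
    rintro _ ⟨y, hy, rfl⟩ hy2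
    have := Submodule.disjoint_def.1 hc.disjoint y hy2 hy
    simp [this]
  · refine le_antisymm (sup_le (by rintro _ ⟨y, -, rfl⟩; exact y.2.2)
      (fun y hy => Ideal.pow_le_self two_ne_zero hy)) fun y hy => ?_
    have hSmem : ∀ z ∈ S, z ∈ W'.map S.subtype ⊔ (m ^ 2).restrictScalars k := fun z hz => by
      obtain ⟨a, ha, b, hb, hab⟩ := Submodule.mem_sup.1 (hc.sup_eq_top.ge (Submodule.mem_top (x := (⟨z, hz⟩ : S))))
      have : (b : R) + (a : R) = z := by rw [add_comm]; exact congrArg Subtype.val hab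
      rw [← this]
      exact add_mem (Submodule.mem_sup_left ⟨b, hb, rfl⟩) (Submodule.mem_sup_right ha)
    rw [Submodule.restrictScalars_mem, ← hG'] at hy
    obtain ⟨c, -, hc'⟩ := Submodule.mem_span_finset.1 hy
    rw [← hc']
    refine Submodule.sum_mem _ fun z hz => ?_
    have hzm : z ∈ m := hG' ▸ Submodule.subset_span hz
    have hsplit : c z • z = x (c z) • z + (c z - algebraMap k R (x (c z))) * z := by
      rw [smul_eq_mul, Algebra.smul_def]; ring
    rw [hsplit]
    refine add_mem (Submodule.smul_mem _ _ (hSmem z ⟨hGS hz, hzm⟩)) (Submodule.mem_sup_right ?_)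
    rw [Submodule.restrictScalars_mem, pow_two]
    refine Ideal.mul_mem_mul ?_ hzm
    rw [hm, RingHom.mem_ker, map_sub, AlgHom.commutes]
    simp

section Lin

theorem symLin_mem_linForms {W : Type u} [AddCommGroup W] [Module k W] {σ : Type u} (e : Module.Basis σ k W)
    (w : W) : symLin e w ∈ GLin.linForms k σ := by
  rw [← e.linearCombination_repr w, Finsupp.linearCombination_apply, map_finsuppSum]
  refine Submodule.sum_mem _ fun i _ => ?_
  simp only [map_smul, symLin_basis]
  exact Submodule.smul_mem _ _ (isHomogeneous_X k i)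

theorem exists_symLin_eq {W : Type u} [AddCommGroup W] [Module k W] {σ : Type u} (e : Module.Basis σ k W)
    {l : MvPolynomial σ k} (hl : l ∈ GLin.linForms k σ) : ∃ w, symLin e w = l := by
  change l ∈ homogeneousSubmodule σ k 1 at hl
  rw [homogeneousSubmodule_one_eq_span_X, Finsupp.mem_span_range_iff_exists_finsupp] at hl
  obtain ⟨c, rfl⟩ := hl
  exact ⟨c.sum fun i a => a • e i, by rw [map_finsuppSum]; simp [symLin_basis]⟩

theorem isLinear_symComod {W : Type u} [AddCommGroup W] [Module k W] {σ : Type u} [Fintype σ]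
    (e : Module.Basis σ k W) (c : Comod k A W) :
    @GLin.IsLinear k _ A _ _ σ _ (symComod e c) := by
  intro i
  let coeffs : σ → A := fun j => sliceL (e.coord j) (c.coact (e i))
  refine ⟨coeffs, ?_⟩
  show symCoact e c (X i) = _
  rw [show symCoact e c (X i) = (symLin e).rTensor A (c.coact (e i)) by simp [symCoact]]
  simp only [coeffs]
  generalize c.coact (e i) = t
  induction t using TensorProduct.induction_on with
  | zero => simp
  | add p q hp hq => simp only [map_add, hp, hq, TensorProduct.tmul_add, Finset.sum_add_distrib]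
  | tmul w a =>
    simp only [LinearMap.rTensor_tmul, sliceL_tmul, TensorProduct.tmul_smul, ← TensorProduct.smul_tmul',
      ← TensorProduct.sum_tmul]
    conv_lhs => rw [← e.sum_repr w, map_sum]
    simp [symLin_basis, TensorProduct.sum_tmul, TensorProduct.smul_tmul']

end Lin

/-- The main local statement. -/
theorem isRegularLocalRing_invariants_of_isGenByPseudoReflAt [Module.Finite k A]
    (hG : IsLinearlyReductive k A)
    (hsub : ∀ (I : Ideal A) [I.IsHopfIdeal k], IsLinearlyReductive k (A ⧸ I))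
    [Algebra.FiniteType k R] [Algebra.Smooth k R]
    (x : R →ₐ[k] k) (hx : GLin.IsFixedPt k A x) (hgen : GLin.IsGenByPseudoReflAt k A R x)
    [(RingHom.ker (x.comp (GLin.invariants k A R).val)).IsPrime] :
    IsRegularLocalRing (Localization.AtPrime (RingHom.ker (x.comp (GLin.invariants k A R).val))) := by
  classical
  have : IsNoetherianRing R := Algebra.FiniteType.isNoetherianRing k R
  obtain ⟨W, hWfin, hWsub, hWm, hWd, hWsup⟩ := exists_cot_section hG hx
  set m := RingHom.ker x with hm
  let n := Module.finrank k W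
  let σ := ULift.{u} (Fin n)
  let e : Module.Basis σ k W := (Module.finBasis k W).reindex Equiv.ulift.symm
  let cW : Comod k A W := ComodSub.Comod.restr inferInstance W hWsub
  let cP : Comod k A (MvPolynomial σ k) := symComod e cW
  have hP : GLin.IsCoactAlg k A (MvPolynomial σ k) := isCoactAlg_symComod e cW
  let π : MvPolynomial σ k →ₐ[k] R := MvPolynomial.aeval fun i => (e i : R)
  have hπlin : ∀ w : W, π (symLin e w) = (w : R) := fun w => LinearMap.congr_fun
    (show π.toLinearMap ∘ₗ symLin e = W.subtype from e.ext fun i => by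
      rw [LinearMap.comp_apply, symLin_basis]; exact MvPolynomial.aeval_X _ _) w
  have hπ : Hoch.IsComodHom A π.toLinearMap := by
    have h : (GLin.coactAlgHom k A R).comp π =
        (Algebra.TensorProduct.map π (AlgHom.id k A)).comp (symCoact e cW) := by
      refine MvPolynomial.algHom_ext fun i => ?_
      simp only [AlgHom.comp_apply, GLin.coactAlgHom_apply, π, aeval_X]
      rw [show symCoact e cW (X i) = (symLin e).rTensor A (cW.coact (e i)) by simp [symCoact],
        ← ComodSub.restr_coact_coe (inferInstance : Comod k A R) W hWsub (e i)]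
      generalize cW.coact (e i) = t
      induction t using TensorProduct.induction_on with
      | zero => simp
      | add p q hp hq => simp only [map_add, hp, hq]
      | tmul w a =>
        simp only [LinearMap.rTensor_tmul, Algebra.TensorProduct.map_tmul, AlgHom.id_apply, Submodule.subtype_apply]
        exact congrArg (· ⊗ₜ[k] a) (hπlin w).symm
    exact LinearMap.ext fun p => AlgHom.congr_fun h p
  have hπhit : ∀ (g : A →ₗ[k] k) (p : MvPolynomial σ k), π (hit g p) = hit g (π p) := fun g p =>
    IsComodHom.hit_apply hπ g p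
  have hlin : GLin.IsLinear k A σ := isLinear_symComod e cW
  -- pseudo-reflections correspond
  let φ : GLin.linForms k σ →ₗ[k] R ⧸ m ^ 2 :=
    (Ideal.Quotient.mkₐ k (m ^ 2)).toLinearMap ∘ₗ π.toLinearMap ∘ₗ (GLin.linForms k σ).subtype
  have hφker : ∀ l ∈ GLin.linForms k σ, π l ∈ m ^ 2 → l = 0 := by
    intro l hl h
    obtain ⟨w, rfl⟩ := exists_symLin_eq e hl
    rw [hπlin] at h
    have : w = 0 := Subtype.ext (Submodule.disjoint_def.1 hWd _ w.2 h)
    rw [this, map_zero]
  have hφinj : Function.Injective φ := by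
    rw [injective_iff_map_eq_zero]
    intro l hl
    exact Subtype.ext (hφker l l.2 (Ideal.Quotient.eq_zero_iff_mem.1 hl))
  have hφrange : LinearMap.range φ = GLin.cotSpace k R x := by
    refine le_antisymm ?_ ?_
    · rintro _ ⟨l, rfl⟩
      obtain ⟨w, hw⟩ := exists_symLin_eq e l.2
      refine ⟨π (l : MvPolynomial σ k), ?_, rfl⟩
      rw [← hw, hπlin]
      exact hWm w.2
    · rintro _ ⟨y, hy, rfl⟩
      obtain ⟨w, hw, z, hz, rfl⟩ := Submodule.mem_sup.1 (hWsup.ge hy)
      refine ⟨⟨symLin e ⟨w, hw⟩, symLin_mem_linForms e _⟩, ?_⟩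
      show Ideal.Quotient.mk (m ^ 2) (π (symLin e ⟨w, hw⟩)) = Ideal.Quotient.mk (m ^ 2) (w + z)
      rw [hπlin, map_add, Ideal.Quotient.eq_zero_iff_mem.2 hz, add_zero]
  let S2 : Submodule k R := (m ^ 2).restrictScalars k
  have hS2 : IsSubcomod (k := k) (A := A) S2 := isSubcomod_pow (isSubcomod_ker_of_isFixedPt hx) 2
  have hlift : ∀ (I : Ideal A) (f : R), f ∈ GLin.cotFixedLift k A R x I ↔
      ∀ g : A →ₗ[k] k, (∀ a ∈ I, g a = 0) → hit g f - g 1 • f ∈ m ^ 2 := by
    intro I f
    let q := (Ideal.Quotient.mkₐ k (m ^ 2)).toLinearMap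
    have hq : ∀ (g : A ⧸ I →ₗ[k] k), sliceR g (TensorProduct.map q (Ideal.Quotient.mkₐ k I).toLinearMap
        (Comod.coact (k := k) (A := A) f)) = q (hit (g ∘ₗ (Ideal.Quotient.mkₐ k I).toLinearMap) f) := by
      intro g
      rw [hit_apply]
      generalize Comod.coact (k := k) (A := A) f = t
      induction t using TensorProduct.induction_on with
      | zero => simp
      | add p q hp hq => simp only [map_add, hp, hq]
      | tmul p q => simp [map_smul]
    constructor
    · intro h g hg
      let gbar : A ⧸ I →ₗ[k] k := (I.restrictScalars k).liftQ g (fun x hx => hg x hx) ∘ₗ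
        (Submodule.Quotient.restrictScalarsEquiv k I).symm.toLinearMap
      have h' : TensorProduct.map q (Ideal.Quotient.mkₐ k I).toLinearMap (Comod.coact (k := k) (A := A) f) =
          q f ⊗ₜ[k] (1 : A ⧸ I) := h
      have := congrArg (sliceR gbar) h'
      rw [hq, sliceR_tmul, show gbar ∘ₗ (Ideal.Quotient.mkₐ k I).toLinearMap = g from LinearMap.ext fun _ => rfl,
        show gbar 1 = g 1 from rfl, ← map_smul] at this
      exact Ideal.Quotient.eq.1 this
    · intro h
      show TensorProduct.map q (Ideal.Quotient.mkₐ k I).toLinearMap (Comod.coact (k := k) (A := A) f) =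
          q f ⊗ₜ[k] (1 : A ⧸ I)
      refine eq_of_forall_sliceR_eq fun g => ?_
      rw [hq, sliceR_tmul, ← map_smul]
      refine Ideal.Quotient.eq.2 ?_
      have := h (g ∘ₗ (Ideal.Quotient.mkₐ k I).toLinearMap) (fun a ha => by
        simp [Ideal.Quotient.eq_zero_iff_mem.2 ha])
      simpa using this
  have hcot : ∀ I : Ideal A, ((GLin.linForms k σ ⊓ GLin.quotInvariants k A (MvPolynomial σ k) I).comap
      (GLin.linForms k σ).subtype).map φ = GLin.cotFixed k A R x I := by
    intro I
    refine le_antisymm ?_ ?_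
    · rintro _ ⟨l, ⟨-, hl⟩, rfl⟩
      refine ⟨π (l : MvPolynomial σ k), ⟨?_, ?_⟩, rfl⟩
      · obtain ⟨w, hw⟩ := exists_symLin_eq e l.2
        rw [← hw, hπlin]; exact hWm w.2
      · refine (hlift I _).2 fun g hg => ?_
        rw [← hπhit, show hit g (l : MvPolynomial σ k) = _ from (mem_quotInvariants_iff_hit I _).1 hl g hg,
          map_smul]
        exact (sub_self (g 1 • π (l : MvPolynomial σ k))).symm ▸ zero_mem _
    · rintro _ ⟨y, ⟨hy, hyfix⟩, rfl⟩
      obtain ⟨l, hl⟩ := hφrange.ge (show Ideal.Quotient.mkₐ k (m ^ 2) y ∈ GLin.cotSpace k R x from ⟨y, hy, rfl⟩)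
      refine ⟨l, ⟨l.2, ?_⟩, hl⟩
      refine (mem_quotInvariants_iff_hit I _).2 fun g hg => ?_
      have hd : π (l : MvPolynomial σ k) - y ∈ m ^ 2 := Ideal.Quotient.eq.1 hl
      rw [← sub_eq_zero]
      refine hφker _ ((GLin.linForms k σ).sub_mem (isHomogeneous_hit hlin g l.2)
        ((GLin.linForms k σ).smul_mem _ l.2)) ?_
      have h1 : hit g (π (l : MvPolynomial σ k) - y) - g 1 • (π (l : MvPolynomial σ k) - y) ∈ m ^ 2 :=
        sub_mem (IsSubcomod.hit_mem hS2 g hd) (S2.smul_mem _ hd)
      have h2 := add_mem h1 ((hlift I y).1 hyfix g hg)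
      rw [map_sub, map_smul, hπhit]
      convert h2 using 1
      rw [map_sub, smul_sub]; abel
  have hrefl : ∀ I, GLin.IsPseudoRefl k A σ I ↔ GLin.IsPseudoReflAt k A R x I := by
    intro I
    unfold GLin.IsPseudoRefl GLin.IsPseudoReflAt
    rw [← hcot, ← hφrange, LinearMap.finrank_range_of_inj hφinj,
      ← (Submodule.equivMapOfInjective φ hφinj _).finrank_eq,
      (Submodule.comapSubtypeEquivOfLe inf_le_left).finrank_eq]
  have hgen' : GLin.IsGenByPseudoRefl k A σ := by
    unfold GLin.IsGenByPseudoRefl GLin.genIdeal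
    simp only [hrefl]
    exact hgen
  have hfree := free_invariants hG hsub hlin hgen'
  -- local generators of the positive invariants
  let T := GLin.invariants k A (MvPolynomial σ k)
  have : IsNoetherianRing T := isNoetherianRing_invariants _ (exists_totalIntegral hG _)
  let x₀ : MvPolynomial σ k →ₐ[k] k := MvPolynomial.aeval fun _ => (0 : k)
  have hxπ : x.comp π = x₀ := MvPolynomial.algHom_ext fun i => by
    simp only [AlgHom.comp_apply, π, x₀, aeval_X]
    exact hWm (e i).2
  let mP : Ideal (MvPolynomial σ k) := RingHom.ker x₀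
  have : mP.IsPrime := RingHom.ker_isPrime _
  let mT : Ideal T := mP.comap (algebraMap T (MvPolynomial σ k))
  have : mT.IsPrime := Ideal.IsPrime.comap _
  have : IsRegularLocalRing (Localization.AtPrime mT) := isRegularLocalRing_atPrime_comap mP
  obtain ⟨As, hAmem, hAcard, hclear⟩ := exists_local_generators mT
  have hintT : Algebra.IsIntegral T (MvPolynomial σ k) := InvLib.isIntegral_invariants k A _
  have hTn : mT.height ≤ (n : ℕ∞) := by
    have h1 : (mT.height : WithBot ℕ∞) ≤ ringKrullDim T :=
      Ideal.height_le_ringKrullDim_of_ne_top (Ideal.IsPrime.ne_top inferInstance)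
    rw [DimLib.ringKrullDim_eq_of_isIntegral (R := T) (S := MvPolynomial σ k) Subtype.val_injective,
      MvPolynomial.ringKrullDim_of_isNoetherianRing, ringKrullDim_eq_zero_of_field, zero_add] at h1
    rw [Nat.card_eq_fintype_card, Fintype.card_ulift, Fintype.card_fin] at h1
    exact_mod_cast h1
  have hAn : As.card ≤ n := by
    have : (As.card : ℕ∞) ≤ mT.height := by exact_mod_cast hAcard
    exact_mod_cast this.trans hTn
  -- the invariant ring of R
  set B := GLin.invariants k A R with hB
  have : IsNoetherianRing B := isNoetherianRing_invariants R (exists_totalIntegral hG R)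
  set q := RingHom.ker (x.comp B.val) with hq
  let πB : T → B := fun t => ⟨π (t : MvPolynomial σ k), by
    rw [GLin.mem_invariants_iff, show Comod.coact (k := k) (A := A) (π (t : MvPolynomial σ k)) = _ from
      IsComodHom.coact_apply hπ _, (GLin.mem_invariants_iff k A _ _).1 t.2]
    rfl⟩
  let f : Finset B := As.image πB
  let F : Ideal R := (Ideal.span (f : Set B)).map (algebraMap B R)
  have hmprime : m.IsPrime := RingHom.ker_isPrime _
  let Rm := Localization.AtPrime m
  let Fm := F.map (algebraMap R Rm)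
  have hπT : ∀ t ∈ mT, algebraMap R Rm (π (t : MvPolynomial σ k)) ∈ Fm := by
    intro t ht
    obtain ⟨s, hs, hst⟩ := hclear t ht
    have hsu : IsUnit (algebraMap R Rm (π (s : MvPolynomial σ k))) := by
      refine IsLocalization.map_units Rm (⟨π (s : MvPolynomial σ k), fun hsm => hs ?_⟩ : m.primeCompl)
      show x₀ (s : MvPolynomial σ k) = 0
      rw [← hxπ]; exact hsm
    refine (Ideal.unit_mul_mem_iff_mem _ hsu).1 ?_
    rw [← map_mul, ← map_mul, ← MulMemClass.coe_mul]
    refine Ideal.mem_map_of_mem _ ?_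
    obtain ⟨c, -, hc⟩ := Submodule.mem_span_finset.1 hst
    rw [← hc]
    simp only [AddSubmonoidClass.coe_finsetSum, map_sum, smul_eq_mul, MulMemClass.coe_mul, map_mul]
    refine Submodule.sum_mem _ fun a ha => Ideal.mul_mem_left _ _ ?_
    exact Ideal.mem_map_of_mem _ (Ideal.subset_span (Finset.mem_coe.2 (Finset.mem_image_of_mem πB ha)))
  let JT : Ideal (MvPolynomial σ k) := mT.map (algebraMap T (MvPolynomial σ k))
  have hrad : ∀ i : σ, ∃ N, (X i : MvPolynomial σ k) ^ N ∈ JT := by
    intro i
    obtain ⟨p, hpm, hp⟩ := Algebra.IsIntegral.isIntegral (R := T) (X i : MvPolynomial σ k)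
    refine ⟨p.natDegree, ?_⟩
    have h := congrArg (homogeneousComponent (R := k) p.natDegree) hp
    rw [Polynomial.eval₂_eq_sum_range, Finset.sum_range_succ, hpm.coeff_natDegree, map_one, one_mul, map_add,
      map_zero, homogeneousComponent_of_mem (show (X i : MvPolynomial σ k) ^ p.natDegree ∈
        homogeneousSubmodule σ k p.natDegree from isHomogeneous_X_pow i _), if_pos rfl,
      add_eq_zero_iff_eq_neg'] at h
    rw [h]
    refine neg_mem ?_
    rw [map_sum]
    refine Submodule.sum_mem _ fun j hj => ?_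
    rw [mul_comm, homogeneousComponent_mul_of_isHomogeneous (isHomogeneous_X_pow i j)]
    rw [if_pos (Finset.mem_range.1 hj).le]
    refine Ideal.mul_mem_left _ _ ?_
    refine Ideal.mem_map_of_mem (algebraMap T (MvPolynomial σ k)) (x := (⟨_, homogeneousComponent_mem_invariants hlin
      (p.natDegree - j) (p.coeff j).2⟩ : T)) ?_
    show x₀ (homogeneousComponent (p.natDegree - j) ((p.coeff j : T) : MvPolynomial σ k)) = 0
    simp only [x₀, MvPolynomial.aeval_eq_eval]
    exact eval_zero_of_isHomogeneous (Nat.sub_pos_of_lt (Finset.mem_range.1 hj))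
      (homogeneousComponent_isHomogeneous _ _)
  let XI : Ideal (MvPolynomial σ k) := Ideal.span (Set.range X)
  obtain ⟨N, hN⟩ : ∃ N, XI ^ N ≤ JT := Ideal.exists_pow_le_of_le_radical_of_fg
    (Ideal.span_le.2 (by rintro _ ⟨i, rfl⟩; exact hrad i)) (Submodule.fg_span (Set.finite_range _))
  have hmsucc : m ≤ XI.map π ⊔ m ^ 2 := by
    intro y hy
    obtain ⟨w, hw, z, hz, rfl⟩ := Submodule.mem_sup.1 (hWsup.ge hy)
    refine add_mem (Submodule.mem_sup_left ?_) (Submodule.mem_sup_right hz)
    obtain ⟨c, hc⟩ := (Finsupp.mem_span_range_iff_exists_finsupp.1 (e.mem_span ⟨w, hw⟩))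
    rw [show w = ((c.sum fun i a => a • e i : W) : R) from congrArg Subtype.val hc.symm]
    simp only [Finsupp.sum, AddSubmonoidClass.coe_finsetSum, Submodule.coe_smul]
    refine Submodule.sum_mem _ fun i _ => Submodule.smul_of_tower_mem _ _ ?_
    rw [show (e i : R) = π (X i) by simp [π]]
    exact Ideal.mem_map_of_mem _ (Ideal.subset_span ⟨i, rfl⟩)
  have hpow : ∀ j : ℕ, m ^ j ≤ XI.map π ^ j ⊔ m ^ (j + 1) := by
    intro j
    induction j with
    | zero => simp
    | succ j ih =>
      rw [pow_succ, pow_succ]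
      refine (Ideal.mul_mono ih hmsucc).trans ?_
      rw [Ideal.sup_mul, Ideal.mul_sup, Ideal.mul_sup]
      refine sup_le (sup_le le_sup_left (le_sup_of_le_right ?_)) (sup_le (le_sup_of_le_right ?_) (le_sup_of_le_right ?_))
      · have hXm : XI.map π ≤ m := Ideal.map_le_iff_le_comap.2 (Ideal.span_le.2 (by
          rintro _ ⟨i, rfl⟩; show x (π (X i)) = 0; rw [← AlgHom.comp_apply, hxπ]; simp [x₀]))
        rw [show j + 1 + 1 = j + 2 by omega, pow_add m j 2]
        exact Ideal.mul_mono (pow_le_pow_left' hXm j) le_rfl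
      · have hXm : XI.map π ≤ m := Ideal.map_le_iff_le_comap.2 (Ideal.span_le.2 (by
          rintro _ ⟨i, rfl⟩; show x (π (X i)) = 0; rw [← AlgHom.comp_apply, hxπ]; simp [x₀]))
        rw [pow_succ m (j + 1)]
        exact Ideal.mul_mono le_rfl hXm
      · rw [← pow_add]; exact Ideal.pow_le_pow_right (by omega)
  have hmN : (m ^ N).map (algebraMap R Rm) ≤ Fm := by
    refine Submodule.le_of_le_smul_of_le_jacobson_bot (I := m.map (algebraMap R Rm)) (IsNoetherian.noetherian _)
      (le_of_eq_of_le (Localization.AtPrime.map_eq_maximalIdeal) (IsLocalRing.jacobson_eq_maximalIdeal ⊥ bot_ne_top).ge) ?_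
    rw [smul_eq_mul, ← Ideal.map_mul, ← pow_succ']
    refine (Ideal.map_mono (hpow N)).trans ?_
    rw [Ideal.map_sup, ← Ideal.map_pow (f := π)]
    refine sup_le_sup_right ?_ _
    refine (Ideal.map_mono (Ideal.map_mono hN)).trans ?_
    rw [Ideal.map_le_iff_le_comap, Ideal.map_le_iff_le_comap, Ideal.map_le_iff_le_comap]
    exact fun t ht => hπT t ht
  have hall : ∀ (j : ℕ), ∀ y ∈ m, ∃ Q ∈ XI, y - π Q ∈ m ^ (j + 1) := by
    intro j
    induction j with
    | zero => intro y hy; exact ⟨0, zero_mem _, by simpa using hy⟩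
    | succ j ih =>
      intro y hy
      obtain ⟨Q, hQ, hd⟩ := ih y hy
      obtain ⟨a, ha, b, hb, hab⟩ := Submodule.mem_sup.1 (hpow (j + 1) hd)
      rw [← Ideal.map_pow] at ha
      obtain ⟨Q', hQ', r, hr, rfl⟩ : ∃ Q' ∈ XI ^ (j + 1), ∃ r, r ∈ m ^ (j + 2) ∧ a = π Q' + r := by
        refine Submodule.span_induction (p := fun a _ => ∃ Q' ∈ XI ^ (j + 1), ∃ r, r ∈ m ^ (j + 2) ∧ a = π Q' + r)
          ?_ ⟨0, zero_mem _, 0, zero_mem _, by simp⟩ ?_ ?_ ha
        · rintro _ ⟨p, hp, rfl⟩; exact ⟨p, hp, 0, zero_mem _, by simp⟩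
        · rintro _ _ _ _ ⟨p, hp, r, hr, rfl⟩ ⟨p', hp', r', hr', rfl⟩
          exact ⟨p + p', add_mem hp hp', r + r', add_mem hr hr', by rw [map_add]; ring⟩
        · rintro c _ _ ⟨p, hp, r, hr, rfl⟩
          refine ⟨x c • p, Submodule.smul_of_tower_mem _ _ hp, (c - algebraMap k R (x c)) * π p + c * r,
            add_mem ?_ (Ideal.mul_mem_left _ _ hr), by rw [map_smul, smul_eq_mul, Algebra.smul_def]; ring⟩
          rw [show j + 2 = 1 + (j + 1) by omega, pow_add, pow_one]
          refine Ideal.mul_mem_mul ?_ ?_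
          · rw [hm, RingHom.mem_ker, map_sub, AlgHom.commutes]; simp
          · refine Ideal.pow_right_mono (show XI.map π ≤ m from Ideal.map_le_iff_le_comap.2 (Ideal.span_le.2 (by
              rintro _ ⟨i, rfl⟩; show x (π (X i)) = 0; rw [← AlgHom.comp_apply, hxπ]; simp [x₀]))) (j + 1) ?_
            rw [← Ideal.map_pow]; exact Ideal.mem_map_of_mem _ hp
      exact ⟨Q + Q', add_mem hQ (Ideal.pow_le_self (Nat.succ_ne_zero j) hQ'), by
        rw [map_add, show y - (π Q + π Q') = r + b by linear_combination -hab]; exact add_mem hr hb⟩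
  obtain ⟨α, hα, h1⟩ := exists_integral hG
  have hloc : ∀ u ∈ q, algebraMap R Rm (u : R) ∈ Fm := by
    intro u hu
    obtain ⟨Q, hQ, hd⟩ := hall N (u : R) hu
    have hd2 := IsSubcomod.hit_mem (isSubcomod_pow (isSubcomod_ker_of_isFixedPt (A := A) hx) (N + 1)) α hd
    rw [map_sub, hit_eq_self_of_mem_fixedPts h1 (show (u : R) ∈ fixedPts k A R from u.2), ← hπhit] at hd2
    have hQ0 : x (π Q) = 0 := by
      rw [← AlgHom.comp_apply, hxπ]
      exact (Ideal.span_le.2 (by rintro _ ⟨i, rfl⟩; simp [x₀]) : XI ≤ RingHom.ker x₀) hQ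
    let t : T := ⟨hit α Q, reynolds_mem_invariants hα h1 Q⟩
    have ht : t ∈ mT := by
      show x₀ (hit α Q) = 0
      rw [← hxπ, AlgHom.comp_apply, hπhit, apply_hit_of_isFixedPt hx, hQ0, mul_zero]
    rw [← sub_add_cancel (u : R) (π (hit α Q)), map_add]
    exact add_mem (hmN (Ideal.mem_map_of_mem _ (Ideal.pow_le_pow_right (Nat.le_succ N) hd2))) (hπT t ht)
  have hFhit : ∀ (g : A →ₗ[k] k), ∀ y ∈ F, hit g y ∈ F := by
    intro g y hy
    obtain ⟨c, d, G, rfl⟩ := Submodule.mem_span_set'.1 hy
    rw [map_sum]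
    refine Submodule.sum_mem _ fun i _ => ?_
    obtain ⟨b, hb, hbe⟩ := (G i).2
    rw [smul_eq_mul, mul_comm, hit_mul_of_mem_invariants g (by rw [← hbe]; exact b.2), mul_comm]
    exact Ideal.mul_mem_left _ _ (Submodule.subset_span (G i).2)
  have hconductor : ∀ u ∈ q, ∃ b : B, b ∉ q ∧ b * u ∈ Ideal.span (f : Set B) := by
    intro u hu
    obtain ⟨s, hs, hsu⟩ := (IsLocalization.algebraMap_mem_map_algebraMap_iff m.primeCompl Rm _ _).1 (hloc u hu)
    refine ⟨⟨hit α s, reynolds_mem_invariants hα h1 s⟩, ?_, ?_⟩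
    · show ¬ x (hit α s) = 0
      rw [apply_hit_of_isFixedPt hx, h1, one_mul]
      exact hs
    · rw [← comap_map_invariants (exists_totalIntegral hG R) (Ideal.span (f : Set B))]
      show hit α s * (u : R) ∈ F
      rw [mul_comm, ← hit_mul_of_mem_invariants α u.2, mul_comm]
      exact hFhit α _ hsu
  -- conclude
  let Bq := Localization.AtPrime q
  have hfq : ∀ b ∈ f, b ∈ q := by
    intro b hb
    obtain ⟨a, ha, rfl⟩ := Finset.mem_image.1 hb
    show x (π (a : MvPolynomial σ k)) = 0
    rw [← AlgHom.comp_apply, hxπ]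
    exact hAmem a ha
  have hmax : IsLocalRing.maximalIdeal Bq ≤ Ideal.span (algebraMap B Bq '' (f : Set B)) := by
    rw [← Localization.AtPrime.map_eq_maximalIdeal, Ideal.map_le_iff_le_comap]
    intro u hu
    obtain ⟨b, hb, hbu⟩ := hconductor u hu
    rw [Ideal.mem_comap]
    refine (Ideal.unit_mul_mem_iff_mem _ (IsLocalization.map_units Bq (⟨b, hb⟩ : q.primeCompl))).1 ?_
    rw [← map_mul, ← Ideal.map_span]
    exact Ideal.mem_map_of_mem _ hbu
  have heq : IsLocalRing.maximalIdeal Bq = Ideal.span (algebraMap B Bq '' (f : Set B)) := by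
    refine le_antisymm hmax (Ideal.span_le.2 ?_)
    rintro _ ⟨b, hb, rfl⟩
    exact (IsLocalization.AtPrime.to_map_mem_maximal_iff Bq q b).2 (hfq b hb)
  refine IsRegularLocalRing.of_spanFinrank_maximalIdeal_le _ ?_
  have hcard : (IsLocalRing.maximalIdeal Bq).spanFinrank ≤ n := by
    rw [heq]
    refine (Submodule.spanFinrank_span_le_ncard_of_finite (f.finite_toSet.image _)).trans ?_
    refine (Set.ncard_image_le f.finite_toSet).trans ?_
    rw [Set.ncard_coe_finset]
    exact Finset.card_image_le.trans hAn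
  rw [IsLocalization.AtPrime.ringKrullDim_eq_height q Bq]
  refine (Nat.cast_le.2 hcard).trans ?_
  have hmq : (m.height : WithBot ℕ∞) ≤ (q.height : WithBot ℕ∞) := by
    have hintB : Algebra.IsIntegral B R := InvLib.isIntegral_invariants k A R
    have h := Order.height_le_height_apply_of_strictMono _
      (DimLib.strictMono_comap_of_isIntegral (R := B) (S := R)) (⟨m, hmprime⟩ : PrimeSpectrum R)
    rw [← PrimeSpectrum.height_eq_orderHeight, ← PrimeSpectrum.height_eq_orderHeight] at h
    exact WithBot.coe_le_coe.2 h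
  refine le_trans ?_ hmq
  have : IsRegularLocalRing Rm := VarietyLib.isRegularLocalRing_of_smooth k R m
  obtain ⟨Bs, hBmem, hBcard, hBclear⟩ := exists_local_generators m
  refine le_trans ?_ hBcard
  rw [Nat.cast_le]
  have hspan : GLin.cotSpace k R x ≤ Submodule.span k
      (↑(Bs.image (Ideal.Quotient.mkₐ k (m ^ 2))) : Set (R ⧸ m ^ 2)) := by
    rintro _ ⟨y, hy, rfl⟩
    obtain ⟨s, hs, hsy⟩ := hBclear y hy
    obtain ⟨c, -, hc⟩ := Submodule.mem_span_finset.1 hsy
    have hsm : ∀ (s : R), ∀ z ∈ m, Ideal.Quotient.mkₐ k (m ^ 2) (s * z) =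
        x s • Ideal.Quotient.mkₐ k (m ^ 2) z := fun s z hz => by
      rw [← map_smul, Algebra.smul_def]
      refine Ideal.Quotient.eq.2 ?_
      rw [← sub_mul, pow_two]
      refine Ideal.mul_mem_mul ?_ hz
      rw [hm, RingHom.mem_ker, map_sub, AlgHom.commutes]; simp
    have h := hsm s y hy
    rw [← hc, map_sum, Finset.sum_congr rfl (fun a ha => (show Ideal.Quotient.mkₐ k (m ^ 2) (c a • a) = _ from
      hsm (c a) a (hBmem a ha)))] at h
    show Ideal.Quotient.mkₐ k (m ^ 2) y ∈ _
    rw [← inv_smul_smul₀ (show x s ≠ 0 from hs) (Ideal.Quotient.mkₐ k (m ^ 2) y), ← h]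
    refine Submodule.smul_mem _ _ (Submodule.sum_mem _ fun a ha => Submodule.smul_mem _ _ (Submodule.subset_span ?_))
    exact Finset.mem_coe.2 (Finset.mem_image_of_mem _ ha)
  calc n = Module.finrank k (GLin.linForms k σ) := by
        have : Module.finrank k W = Module.finrank k (GLin.linForms k σ) :=
          (LinearEquiv.ofBijective ((symLin e).codRestrict _ (symLin_mem_linForms e)) ⟨fun a b h => by
            have h' : symLin e a = symLin e b := congrArg Subtype.val h
            refine Subtype.ext ?_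
            rw [← hπlin a, ← hπlin b, h'], fun l => (exists_symLin_eq e l.2).imp fun w hw => Subtype.ext hw⟩).finrank_eq
        exact this
    _ = Module.finrank k (GLin.cotSpace k R x) := by rw [← hφrange, LinearMap.finrank_range_of_inj hφinj]
    _ ≤ Module.finrank k (Submodule.span k
        (↑(Bs.image (Ideal.Quotient.mkₐ k (m ^ 2))) : Set (R ⧸ m ^ 2))) := Submodule.finrank_mono hspan
    _ ≤ Bs.card := (finrank_span_finset_le_card _).trans Finset.card_image_le

end Groth.Agent.HopfLib
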