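import Groth.Agent.HopfLib.PseudoRefl
import Groth.Agent.CAlgH3.RegularHom
import Mathlib.RingTheory.RegularLocalRing.Polynomial
import Mathlib.RingTheory.Flat.Localization
import Mathlib.RingTheory.KrullDimension.Polynomial
import Mathlib.RingTheory.KrullDimension.NonZeroDivisors

/-!
# Invariants over which the polynomial ring is flat form a polynomial ring
-/

open TensorProduct HopfRep MvPolynomial

universe u

namespace Groth.Agent.HopfLib

set_option linter.unusedSectionVars false
set_option maxHeartbeats 800000

section Abstract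

theorem isRegularLocalRing_atPrime_comap {R S : Type u} [CommRing R] [CommRing S] [Algebra R S]
    [IsNoetherianRing R] [IsRegularRing S] [Module.Flat R S] (q : Ideal S) [q.IsPrime] :
    IsRegularLocalRing (Localization.AtPrime (q.comap (algebraMap R S))) := by
  let p := q.comap (algebraMap R S)
  let Rp := Localization.AtPrime p
  let Sq := Localization.AtPrime q
  let _ : Algebra Rp Sq := (Localization.localRingHom p q (algebraMap R S) rfl).toAlgebra
  have : IsScalarTower R Rp Sq := IsScalarTower.of_algebraMap_eq fun x => by
    rw [RingHom.algebraMap_toAlgebra, Localization.localRingHom_to_map, IsScalarTower.algebraMap_apply R S Sq]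
  have : IsLocalHom (algebraMap Rp Sq) := by
    rw [RingHom.algebraMap_toAlgebra]; exact Localization.isLocalHom_localRingHom _ _ _ _
  have hfl : Module.Flat R Sq := Module.Flat.trans R S Sq
  have : Module.Flat Rp Sq := (Module.flat_iff_of_isLocalization Rp p.primeCompl Sq).2 hfl
  exact Groth.Agent.CAlgH3.isRegularLocalRing_of_flat (R := Rp) Sq

theorem exists_local_generators {R : Type u} [CommRing R] (p : Ideal R) [p.IsPrime]
    [IsRegularLocalRing (Localization.AtPrime p)] :
    ∃ As : Finset R, (∀ a ∈ As, a ∈ p) ∧ (As.card : WithBot ℕ∞) ≤ (p.height : WithBot ℕ∞) ∧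
      ∀ f ∈ p, ∃ s : R, s ∉ p ∧ s * f ∈ Ideal.span (As : Set R) := by
  classical
  let Rp := Localization.AtPrime p
  have hfg : (IsLocalRing.maximalIdeal Rp).FG := IsNoetherian.noetherian _
  obtain ⟨G, hGcard, hGspan⟩ := Submodule.FG.exists_span_finset_card_eq_spanFinrank hfg
  choose num den hnum using fun g : Rp => IsLocalization.exists_mk'_eq p.primeCompl g
  refine ⟨G.image num, ?_, ?_, ?_⟩
  · intro a ha
    obtain ⟨g, hg, rfl⟩ := Finset.mem_image.1 ha
    have hgm : g ∈ IsLocalRing.maximalIdeal Rp := hGspan.le (Submodule.subset_span hg)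
    rw [← hnum g] at hgm
    exact (IsLocalization.AtPrime.mk'_mem_maximal_iff Rp p _ _).1 hgm
  · calc ((G.image num).card : WithBot ℕ∞)
        ≤ ((IsLocalRing.maximalIdeal Rp).spanFinrank : WithBot ℕ∞) :=
          Nat.cast_le.2 (Finset.card_image_le.trans hGcard.le)
      _ = ringKrullDim Rp := IsRegularLocalRing.spanFinrank_maximalIdeal
      _ = (p.height : WithBot ℕ∞) := IsLocalization.AtPrime.ringKrullDim_eq_height p Rp
  intro f hf
  have hmap : IsLocalRing.maximalIdeal Rp ≤
      Ideal.map (algebraMap R Rp) (Ideal.span ((G.image num : Finset R) : Set R)) := by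
    rw [← hGspan, Submodule.span_le]
    intro g hg
    rw [← hnum g, IsLocalization.mk'_eq_mul_mk'_one]
    exact Ideal.mul_mem_right _ _ (Ideal.mem_map_of_mem _ (Ideal.subset_span
      (Finset.mem_coe.2 (Finset.mem_image_of_mem num hg))))
  have h := hmap ((IsLocalization.AtPrime.to_map_mem_maximal_iff Rp p f).2 hf)
  obtain ⟨s, hs, hsf⟩ := (IsLocalization.algebraMap_mem_map_algebraMap_iff p.primeCompl Rp _ f).1 h
  exact ⟨s, hs, hsf⟩

theorem injective_of_card_le_ringKrullDim {k : Type u} [Field k] {b : Type u} [Fintype b] {R : Type u}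
    [CommRing R] (φ : MvPolynomial b k →+* R) (hsurj : Function.Surjective φ)
    (h : (Fintype.card b : WithBot ℕ∞) ≤ ringKrullDim R) : Function.Injective φ := by
  rw [injective_iff_map_eq_zero]
  intro p hp
  by_contra hp0
  have h1 : ringKrullDim R ≤ ringKrullDim (MvPolynomial b k ⧸ Ideal.span {p}) :=
    ringKrullDim_le_of_surjective (Ideal.Quotient.lift (Ideal.span {p}) φ fun a ha => by
      obtain ⟨c, rfl⟩ := Ideal.mem_span_singleton'.1 ha
      simp [hp]) (Ideal.Quotient.lift_surjective_of_surjective _ _ hsurj)
  have h2 := ringKrullDim_quotient_succ_le_of_nonZeroDivisor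
    (mem_nonZeroDivisors_of_ne_zero hp0)
  rw [MvPolynomial.ringKrullDim_of_isNoetherianRing, ringKrullDim_eq_zero_of_field, zero_add,
    Nat.card_eq_fintype_card] at h2
  have h4 : ((Fintype.card b + 1 : ℕ) : WithBot ℕ∞) ≤ ((Fintype.card b : ℕ) : WithBot ℕ∞) := by
    push_cast
    exact (add_le_add_left (h.trans h1) 1).trans h2
  have h5 : Fintype.card b + 1 ≤ Fintype.card b := by exact_mod_cast h4
  omega

end Abstract

variable {k : Type u} [Field k] {A : Type u} [CommRing A] [HopfAlgebra k A]
  {ι : Type u} [Fintype ι] [Comod k A (MvPolynomial ι k)] [GLin.IsCoactAlg k A (MvPolynomial ι k)]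

local notation "P" => MvPolynomial ι k
local notation "T" => GLin.invariants k A (MvPolynomial ι k)

theorem exists_algEquiv_of_free (hG : IsLinearlyReductive k A) (hlin : GLin.IsLinear k A ι)
    [Module.Free T P] : ∃ m : ℕ, Nonempty (T ≃ₐ[k] MvPolynomial (Fin m) k) := by
  classical
  have : IsNoetherianRing T := isNoetherianRing_invariants P (exists_totalIntegral hG P)
  let x₀ : P →ₐ[k] k := MvPolynomial.aeval fun _ => (0 : k)
  let ε : T →ₐ[k] k := x₀.comp (Subalgebra.val T)
  let mP : Ideal P := RingHom.ker x₀
  let mT : Ideal T := mP.comap (algebraMap T P)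
  have : mP.IsPrime := RingHom.ker_isPrime _
  have hmT : mT = RingHom.ker ε := rfl
  have : mT.IsPrime := Ideal.IsPrime.comap _
  have : IsRegularLocalRing (Localization.AtPrime mT) := isRegularLocalRing_atPrime_comap mP
  obtain ⟨As, hAmem, hAdim, hclear⟩ := exists_local_generators mT
  let r := As.card
  let S : Submodule k T := (mT * mT).restrictScalars k
  have hsm : ∀ (s : T), ∀ f ∈ mT, S.mkQ (s * f) = ε s • S.mkQ f := by
    intro s f hf
    rw [← map_smul, Algebra.smul_def]
    refine (Submodule.Quotient.eq S).2 ?_
    rw [← sub_mul]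
    refine Ideal.mul_mem_mul ?_ hf
    rw [hmT, RingHom.mem_ker, map_sub, AlgHom.commutes]
    simp
  let H : Set T := {F | ∃ d, 0 < d ∧ (F : P).IsHomogeneous d}
  have hHm : ∀ F ∈ H, F ∈ mT := by
    rintro F ⟨d, hd, hF⟩
    rw [hmT, RingHom.mem_ker]
    show (MvPolynomial.aeval fun _ => (0 : k)) (F : P) = 0
    rw [MvPolynomial.aeval_eq_eval]
    exact eval_zero_of_isHomogeneous hd hF
  let V : Submodule k (T ⧸ S) := Submodule.span k (S.mkQ '' (As : Set T))
  have hV : ∀ f ∈ mT, S.mkQ f ∈ V := by
    intro f hf
    obtain ⟨s, hs, hsf⟩ := hclear f hf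
    obtain ⟨l, hl⟩ := Submodule.mem_span_finset.1 hsf
    have h := hsm s f hf
    rw [← hl.2, map_sum, Finset.sum_congr rfl (fun a ha => (show S.mkQ (l a • a) = ε (l a) • S.mkQ a from
      hsm (l a) a (hAmem a ha)))] at h
    have hs0 : ε s ≠ 0 := fun h0 => hs h0
    rw [← inv_smul_smul₀ hs0 (S.mkQ f), ← h]
    exact V.smul_mem _ (Submodule.sum_mem _ fun a ha => V.smul_mem _
      (Submodule.subset_span ⟨a, ha, rfl⟩))
  obtain ⟨b, hb, hbspan, hbli⟩ := exists_linearIndependent k (S.mkQ '' H)
  have hbV : ∀ z ∈ b, z ∈ V := fun z hz => by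
    obtain ⟨F, hF, rfl⟩ := hb hz
    exact hV F (hHm F hF)
  have : Module.Finite k V := Module.Finite.span_of_finite k (As.finite_toSet.image _)
  have hfinV : Module.finrank k V ≤ r := by
    have := finrank_span_finset_le_card (R := k) (As.image S.mkQ)
    rw [Finset.coe_image] at this
    exact this.trans Finset.card_image_le
  let j : b → V := fun z => ⟨z, hbV z z.2⟩
  have hj : LinearIndependent k j := LinearIndependent.of_comp V.subtype hbli
  have : Finite b := hj.finite
  let _ : Fintype b := Fintype.ofFinite b
  let m := Fintype.card b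
  have hm : m ≤ r := hj.fintype_card_le_finrank.trans hfinV
  choose F hFH hF using fun z : b => hb z.2
  let φ : MvPolynomial b k →ₐ[k] T := MvPolynomial.aeval F
  have hspanH : ∀ f ∈ H, S.mkQ f ∈ Submodule.span k (Set.range fun z : b => S.mkQ (F z)) := by
    intro f hf
    simp only [hF, Subtype.range_coe_subtype]
    rw [show {x | x ∈ b} = b from rfl, hbspan]
    exact Submodule.subset_span ⟨f, hf, rfl⟩
  let pr : ℕ → T → T := fun e t => ⟨homogeneousComponent e (t : P), homogeneousComponent_mem_invariants hlin e t.2⟩
  have hgenT : ∀ (d : ℕ) (f : T), (f : P).IsHomogeneous d → f ∈ φ.range := by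
    intro d
    induction d using Nat.strong_induction_on with
    | _ d ih =>
      intro f hf
      rcases Nat.eq_zero_or_pos d with rfl | hd
      · have h := homogeneousComponent_zero (f : P)
        rw [homogeneousComponent_of_mem (show (f : P) ∈ homogeneousSubmodule ι k 0 from hf), if_pos rfl] at h
        rw [show f = algebraMap k T (coeff 0 (f : P)) from Subtype.ext h]
        exact Subalgebra.algebraMap_mem _ _
      obtain ⟨c, hc⟩ := (Submodule.mem_span_range_iff_exists_fun k).1 (hspanH f ⟨d, hd, hf⟩)
      let v : T := ∑ z, c z • F z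
      have hv : f - v ∈ mT * mT := (Submodule.Quotient.eq S).1 (show S.mkQ f = S.mkQ v by
        rw [← hc, map_sum]; simp [map_smul])
      have hfd : f = pr d v + pr d (f - v) := Subtype.ext (by
        show (f : P) = homogeneousComponent d (v : P) + homogeneousComponent d ((f : P) - (v : P))
        rw [← map_add, add_sub_cancel,
          homogeneousComponent_of_mem (show (f : P) ∈ homogeneousSubmodule ι k d from hf), if_pos rfl])
      rw [hfd]
      refine φ.range.add_mem ?_ ?_
      · have : pr d v = ∑ z, c z • pr d (F z) := Subtype.ext (by simp [pr, v, map_sum, map_smul])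
        rw [this]
        refine Subalgebra.sum_mem _ fun z _ => Subalgebra.smul_mem _ ?_ _
        obtain ⟨e, -, he⟩ := hFH z
        by_cases hde : d = e
        · have : pr d (F z) = F z := Subtype.ext (by
            show homogeneousComponent d (F z : P) = _
            rw [homogeneousComponent_of_mem (show (F z : P) ∈ homogeneousSubmodule ι k e from he), if_pos hde])
          rw [this]
          exact ⟨X z, MvPolynomial.aeval_X _ _⟩
        · have : pr d (F z) = 0 := Subtype.ext (by
            show homogeneousComponent d (F z : P) = _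
            rw [homogeneousComponent_of_mem (show (F z : P) ∈ homogeneousSubmodule ι k e from he), if_neg hde]
            rfl)
          rw [this]
          exact φ.range.zero_mem
      · generalize f - v = g at hv
        refine Submodule.mul_induction_on hv (fun u hu w hw => ?_) (fun g₁ g₂ h₁ h₂ => ?_)
        · have h0 : ∀ t ∈ mT, homogeneousComponent 0 (t : P) = 0 := by
            intro t ht
            rw [homogeneousComponent_zero]
            have : MvPolynomial.eval (fun _ => (0 : k)) (t : P) = 0 := by
              rw [hmT, RingHom.mem_ker] at ht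
              rw [← MvPolynomial.aeval_eq_eval]; exact ht
            rw [show MvPolynomial.eval (fun _ => (0 : k)) (t : P) = constantCoeff (t : P) from
              congrArg (fun ψ => ψ (t : P)) (eval_zero (R := k) (σ := ι))] at this
            rw [show coeff 0 (t : P) = constantCoeff (t : P) from rfl, this, map_zero]
          have hsum : pr d (u * w) = ∑ i ∈ Finset.range ((u : P).totalDegree + 1),
              if i ≤ d then pr i u * pr (d - i) w else 0 := Subtype.ext (by
            simp only [AddSubmonoidClass.coe_finsetSum]
            show homogeneousComponent d ((u : P) * (w : P)) = _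
            conv_lhs => rw [← sum_homogeneousComponent (u : P), Finset.sum_mul, map_sum]
            refine Finset.sum_congr rfl fun i _ => ?_
            rw [homogeneousComponent_mul_of_isHomogeneous (homogeneousComponent_isHomogeneous i _)]
            split_ifs <;> rfl)
          rw [hsum]
          refine Subalgebra.sum_mem _ fun i _ => ?_
          split_ifs with hid
          · rcases Nat.eq_zero_or_pos i with rfl | hi
            · rw [show pr 0 u = 0 from Subtype.ext (h0 u hu), zero_mul]; exact φ.range.zero_mem
            rcases Nat.eq_zero_or_pos (d - i) with hdi | hdi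
            · rw [hdi, show pr 0 w = 0 from Subtype.ext (h0 w hw), mul_zero]; exact φ.range.zero_mem
            exact φ.range.mul_mem (ih i (by omega) _ (homogeneousComponent_isHomogeneous _ _))
              (ih (d - i) (by omega) _ (homogeneousComponent_isHomogeneous _ _))
          · exact φ.range.zero_mem
        · have : pr d (g₁ + g₂) = pr d g₁ + pr d g₂ := Subtype.ext (map_add _ _ _)
          rw [this]
          exact φ.range.add_mem h₁ h₂
  have hsurj : Function.Surjective φ := fun f => by
    have : f = ∑ i ∈ Finset.range ((f : P).totalDegree + 1), pr i f := Subtype.ext (by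
      simp only [AddSubmonoidClass.coe_finsetSum, pr]
      exact (sum_homogeneousComponent _).symm)
    rw [this]
    exact Subalgebra.sum_mem _ fun i _ => hgenT i _ (homogeneousComponent_isHomogeneous _ _)
  have hinj : Function.Injective φ := injective_of_card_le_ringKrullDim φ.toRingHom hsurj
    ((Nat.cast_le.2 hm).trans (hAdim.trans (Ideal.height_le_ringKrullDim_of_ne_top (Ideal.IsPrime.ne_top inferInstance))))
  exact ⟨m, ⟨(AlgEquiv.ofBijective φ ⟨hinj, hsurj⟩).symm.trans
    (MvPolynomial.renameEquiv k (Fintype.equivFin b))⟩⟩

end Groth.Agent.HopfLib
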