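import Groth.Agent.CAlgH3.RegularCore
import Groth.Agent.QReg6.Regular
import Groth.Prelude.Def_CAlgX
import Mathlib.Algebra.MvPolynomial.PDeriv
import Mathlib.RingTheory.Filtration
import Mathlib.RingTheory.MvPolynomial.EulerIdentity

/-!
# Local rings with dual derivations are regular in characteristic zero

If a Noetherian local ring of characteristic zero has derivations `D i` with `D i (x j) ≡ δ i j` modulo
the maximal ideal for generators `x j` of the latter, it is regular.
-/

universe u

open IsLocalRing MvPolynomial

namespace Groth.Agent.HopfLib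

set_option linter.unusedSectionVars false
set_option maxHeartbeats 400000

/-- Forms in the generators of the maximal ideal whose value has higher order have coefficients in it. -/
theorem isQuasiRegular_of_derivations {R : Type u} [CommRing R] [IsLocalRing R] {n : ℕ} (x : Fin n → R)
    (hx : Ideal.span (Set.range x) = maximalIdeal R) (D : Fin n → Derivation ℤ R R)
    (hD : ∀ i j, D i (x j) - (if i = j then 1 else 0) ∈ maximalIdeal R)
    (h0 : ∀ d : ℕ, 0 < d → IsUnit (d : R)) : CAlgX.IsQuasiRegular x := by
  classical
  intro N
  rw [hx]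
  induction N with
  | zero =>
    intro P hP h d
    rw [zero_add, pow_one] at h
    by_cases hd : d = 0
    · subst hd
      have e : P = C (P.coeff 0) := by
        exact (totalDegree_eq_zero_iff_eq_C (p := P)).1 (Nat.le_zero.1 hP.totalDegree_le)
      rw [e, eval_C] at h
      exact h
    · rw [hP.coeff_eq_zero (fun hdd => hd ((Finsupp.degree_eq_zero_iff d).1 hdd))]
      exact zero_mem _
  | succ N ih =>
    intro P hP h d
    by_cases hd : d.degree = N + 1
    swap
    · rw [hP.coeff_eq_zero hd]; exact zero_mem _
    obtain ⟨j, hj⟩ : ∃ j, d j ≠ 0 := by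
      by_contra hne
      simp only [not_exists, not_not] at hne
      rw [show d = 0 from Finsupp.ext hne, map_zero] at hd
      omega
    -- `G` measures the failure of the chain rule; it only sees the coefficients
    let G : MvPolynomial (Fin n) R → R := fun Q => D j (eval x Q) - ∑ i, eval x (pderiv i Q) * D j (x i)
    have hGadd : ∀ p q, G (p + q) = G p + G q := fun p q => by
      simp only [G, map_add, add_mul, Finset.sum_add_distrib]; ring
    have hGmul : ∀ p q, G (p * q) = eval x p * G q + eval x q * G p := fun p q => by
      simp only [G, map_mul, Derivation.leibniz, smul_eq_mul, pderiv_mul, map_add, add_mul,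
        Finset.sum_add_distrib, mul_sub, Finset.mul_sum, mul_assoc]
      simp only [mul_left_comm (eval x q)]
      ring
    have hGC : ∀ c, G (C c) = D j c := fun c => by simp [G]
    have hGX : ∀ i, G (X i) = 0 := fun i => by
      simp only [G, eval_X, pderiv_X]
      rw [Finset.sum_eq_single i]
      · simp
      · intro b _ hb; simp [Pi.single_eq_of_ne (Ne.symm hb)]
      · simp
    have hG1 : G 1 = 0 := by simpa using hGC 1
    have hGpow : ∀ i e, G (X i ^ e) = 0 := by
      intro i e
      induction e with
      | zero => simpa using hG1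
      | succ e ihe => rw [pow_succ, hGmul, hGX, ihe, mul_zero, mul_zero, add_zero]
    have hGprod : ∀ (s : Finset (Fin n)) (e : Fin n → ℕ), G (∏ i ∈ s, X i ^ e i) = 0 := by
      intro s e
      induction s using Finset.induction_on with
      | empty => simpa using hG1
      | @insert a s ha ihs => rw [Finset.prod_insert ha, hGmul, hGpow, ihs, mul_zero, mul_zero, add_zero]
    have hG : G P ∈ maximalIdeal R ^ (N + 1) := by
      have hsum : G P = ∑ e ∈ P.support, G (monomial e (P.coeff e)) := by
        conv_lhs => rw [P.as_sum]
        exact map_sum (AddMonoidHom.mk' G hGadd) _ _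
      rw [hsum]
      refine sum_mem fun e he => ?_
      rw [monomial_eq, Finsupp.prod, hGmul, hGprod, mul_zero, zero_add, hGC, mul_comm]
      refine Ideal.mul_mem_left _ _ ?_
      have hdeg : (∏ i ∈ e.support, (X i : MvPolynomial (Fin n) R) ^ e i).IsHomogeneous (N + 1) := by
        rw [show ∏ i ∈ e.support, (X i : MvPolynomial (Fin n) R) ^ e i = monomial e 1 from by
          rw [monomial_eq, C_1, one_mul]; rfl]
        refine isHomogeneous_monomial 1 ?_
        by_contra hne
        exact (mem_support_iff.1 he) (hP.coeff_eq_zero hne)
      rw [← hx]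
      exact QReg6.eval_mem_pow x hdeg
    have hder : D j (eval x P) ∈ maximalIdeal R ^ (N + 1) := by
      have hmem : ∀ k, ∀ z ∈ maximalIdeal R ^ (k + 1), D j z ∈ maximalIdeal R ^ k := by
        intro k
        induction k with
        | zero => intro z _; rw [pow_zero, Ideal.one_eq_top]; trivial
        | succ k ihk =>
          intro z hz
          rw [pow_succ'] at hz
          refine Submodule.mul_induction_on hz (fun a ha b hb => ?_) (fun a b ha hb => by
            rw [map_add]; exact add_mem ha hb)
          rw [Derivation.leibniz, smul_eq_mul, smul_eq_mul]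
          refine add_mem ?_ (Ideal.mul_mem_right _ _ hb)
          rw [pow_succ']
          exact Ideal.mul_mem_mul ha (ihk b hb)
      exact hmem (N + 1) _ h
    have hpd : eval x (pderiv j P) ∈ maximalIdeal R ^ (N + 1) := by
      have e : eval x (pderiv j P) = D j (eval x P) - G P -
          ∑ i, eval x (pderiv i P) * (D j (x i) - (if j = i then 1 else 0)) := by
        simp only [G, mul_sub, Finset.sum_sub_distrib, mul_ite, mul_one, mul_zero, Finset.sum_ite_eq,
          Finset.mem_univ, if_true]
        ring
      rw [e]
      refine sub_mem (sub_mem hder hG) (sum_mem fun i _ => ?_)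
      rw [pow_succ]
      refine Ideal.mul_mem_mul ?_ (hD j i)
      rw [← hx]
      exact QReg6.eval_mem_pow x hP.pderiv
    have h1 := ih (pderiv j P) hP.pderiv hpd (d - Finsupp.single j 1)
    rw [coeff_pderiv] at h1
    have hd' : d - Finsupp.single j 1 + Finsupp.single j 1 = d :=
      Finsupp.sub_add_single_one_cancel hj
    rw [hd'] at h1
    have hu : IsUnit ((((d - Finsupp.single j 1 : Fin n →₀ ℕ) j : ℕ) : R) + 1) := by
      exact_mod_cast h0 _ (Nat.succ_pos _)
    exact (Ideal.mul_unit_mem_iff_mem _ hu).1 h1

/-- Quasi-regular generators of the maximal ideal make a Noetherian local ring regular. -/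
theorem isRegularLocalRing_of_isQuasiRegular : ∀ (n : ℕ) (R : Type u) [CommRing R] [IsLocalRing R]
    [IsNoetherianRing R] (x : Fin n → R), Ideal.span (Set.range x) = maximalIdeal R →
    CAlgX.IsQuasiRegular x → IsRegularLocalRing R := by
  classical
  intro n
  induction n with
  | zero =>
    intro R _ _ _ x hx _
    refine IsRegularLocalRing.of_spanFinrank_maximalIdeal_le (R := R) ?_
    have h0 : (maximalIdeal R).spanFinrank = 0 := by
      rw [← hx, Set.range_eq_empty, Ideal.span_empty]; exact Submodule.spanFinrank_bot
    rw [h0]
    exact_mod_cast ringKrullDim_nonneg_of_nontrivial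
  | succ n ih =>
    intro R _ _ _ x hx hq
    have hx0 : x 0 ∈ maximalIdeal R := hx ▸ Ideal.subset_span ⟨0, rfl⟩
    have horder : ∀ (p : ℕ) (a : R), a * x 0 ∈ maximalIdeal R ^ (p + 1) → a ∈ maximalIdeal R ^ p := by
      intro p
      induction p with
      | zero => intro a _; rw [pow_zero, Ideal.one_eq_top]; trivial
      | succ p ihp =>
        intro a ha
        have ha' := ihp a (Ideal.pow_le_pow_right (Nat.le_succ _) ha)
        rw [← hx] at ha'
        obtain ⟨P, hP, rfl⟩ := QReg6.exists_homogeneous_eval x ha'
        have hc := hq (p + 1) (X 0 * P) (Nat.add_comm 1 p ▸ (isHomogeneous_X R (0 : Fin (n + 1))).mul hP)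
          (by rw [map_mul, eval_X, mul_comm, hx]; exact ha)
        rw [eval_eq]
        refine sum_mem fun e he => ?_
        rw [pow_succ']
        have hee := hc (Finsupp.single 0 1 + e)
        rw [coeff_X_mul, hx] at hee
        refine Ideal.mul_mem_mul hee ?_
        rw [← hx]
        have : (monomial e (1 : R)).IsHomogeneous p := by
          refine isHomogeneous_monomial 1 ?_
          by_contra hne
          exact (mem_support_iff.1 he) (hP.coeff_eq_zero hne)
        have h2 := QReg6.eval_mem_pow x this
        rwa [eval_monomial, one_mul, Finsupp.prod] at h2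
    have hreg : IsSMulRegular R (x 0) := by
      refine isSMulRegular_iff_right_eq_zero_of_smul.2 fun a ha => ?_
      rw [smul_eq_mul, mul_comm] at ha
      have h : a ∈ ⨅ p : ℕ, maximalIdeal R ^ p := by
        rw [Ideal.mem_iInf]
        exact fun p => horder p a (ha ▸ zero_mem _)
      rwa [Ideal.iInf_pow_eq_bot_of_isLocalRing (maximalIdeal R) (maximalIdeal.isMaximal R).ne_top,
        Ideal.mem_bot] at h
    let I := Ideal.span {x 0}
    have := CAlgH3.isLocalRing_quotient (CAlgH3.span_singleton_le_maximal hx0)
    have hmax : maximalIdeal (R ⧸ I) = Ideal.span (Set.range fun i : Fin n => Ideal.Quotient.mk I (x i.succ)) := by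
      rw [← IsLocalRing.map_maximalIdeal_of_surjective (Ideal.Quotient.mk I) Ideal.Quotient.mk_surjective, ← hx,
        Ideal.map_span, ← Set.range_comp]
      refine le_antisymm (Ideal.span_le.2 ?_) (Ideal.span_mono ?_)
      · rintro - ⟨i, rfl⟩
        refine Fin.cases ?_ (fun i => Ideal.subset_span ⟨i, rfl⟩) i
        show Ideal.Quotient.mk I (x 0) ∈ _
        rw [Ideal.Quotient.eq_zero_iff_mem.2 (Ideal.mem_span_singleton_self (x 0))]
        exact zero_mem _
      · rintro - ⟨i, rfl⟩; exact ⟨i.succ, rfl⟩
    have : IsRegularLocalRing (R ⧸ I) := by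
      refine ih (R ⧸ I) (fun i => Ideal.Quotient.mk I (x i.succ)) hmax.symm fun N P hP h d => ?_
      rw [← hmax] at h ⊢
      obtain ⟨P', rfl⟩ := map_surjective (Ideal.Quotient.mk I) Ideal.Quotient.mk_surjective P
      let Q := homogeneousComponent N P'
      have hQ : Q.IsHomogeneous N := homogeneousComponent_isHomogeneous N P'
      have hmapQ : map (Ideal.Quotient.mk I) Q = map (Ideal.Quotient.mk I) P' := by
        ext e
        simp only [Q, coeff_map, coeff_homogeneousComponent]
        split_ifs with he
        · rfl
        · rw [← coeff_map, hP.coeff_eq_zero he, map_zero]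
      rw [← hmapQ] at h ⊢
      rw [eval_map, ← IsLocalRing.map_maximalIdeal_of_surjective (Ideal.Quotient.mk I) Ideal.Quotient.mk_surjective,
        ← Ideal.map_pow] at h
      have e1 : eval₂ (Ideal.Quotient.mk I) (fun i => Ideal.Quotient.mk I (x i.succ)) Q =
          Ideal.Quotient.mk I (eval x (rename Fin.succ Q)) := by
        rw [eval_rename, eval₂_comp]; rfl
      rw [e1, Ideal.mem_map_iff_of_surjective _ Ideal.Quotient.mk_surjective] at h
      obtain ⟨u, hu, hu'⟩ := h
      obtain ⟨a, ha⟩ := Ideal.mem_span_singleton'.1 (Ideal.Quotient.eq.1 hu'.symm)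
      have hQ' : eval x (rename Fin.succ Q) ∈ maximalIdeal R ^ N :=
        hx ▸ QReg6.eval_mem_pow x hQ.rename_isHomogeneous
      rw [coeff_map, IsLocalRing.mem_maximalIdeal, mem_nonunits_iff]
      intro hunit
      have hm : Q.coeff d ∈ maximalIdeal R := by
        cases N with
        | zero =>
          by_cases hd : d = 0
          · subst hd
            have e : Q = C (Q.coeff 0) := (totalDegree_eq_zero_iff_eq_C (p := Q)).1 (Nat.le_zero.1 hQ.totalDegree_le)
            rw [e, rename_C, eval_C] at ha
            rw [show Q.coeff 0 = u + a * x 0 from by rw [ha]; ring]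
            exact add_mem (by simpa using hu) (Ideal.mul_mem_left _ _ hx0)
          · rw [hQ.coeff_eq_zero (fun hdd => hd ((Finsupp.degree_eq_zero_iff d).1 hdd))]; exact zero_mem _
        | succ N =>
          have hax : a * x 0 ∈ maximalIdeal R ^ (N + 1) := by
            rw [ha]; exact sub_mem hQ' (Ideal.pow_le_pow_right (Nat.le_succ _) hu)
          obtain ⟨S, hS, hSa⟩ := QReg6.exists_homogeneous_eval x (hx.symm ▸ horder N a hax)
          have hc := hq (N + 1) (rename Fin.succ Q - X 0 * S) (hQ.rename_isHomogeneous.sub
              (Nat.add_comm 1 N ▸ (isHomogeneous_X R (0 : Fin (n + 1))).mul hS))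
            (by rw [map_sub, map_mul, eval_X, hSa, mul_comm, ha, hx]; simpa using hu) (d.mapDomain Fin.succ)
          rw [coeff_sub, coeff_rename_mapDomain _ (Fin.succ_injective n), coeff_X_mul', if_neg, sub_zero, hx] at hc
          · exact hc
          · rw [Finsupp.mem_support_iff, not_not]
            refine Finsupp.mapDomain_of_notMem_range d _ ?_
            rintro ⟨i, hi⟩; exact Fin.succ_ne_zero i hi
      exact (IsLocalRing.mem_maximalIdeal _).1
        ((IsLocalRing.map_maximalIdeal_of_surjective (Ideal.Quotient.mk I) Ideal.Quotient.mk_surjective).le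
          (Ideal.mem_map_of_mem _ hm)) hunit
    exact CAlgH3.isRegularLocalRing_of_quotient hx0 hreg

/-- A Noetherian local ring of characteristic zero with dual derivations is regular. -/
theorem isRegularLocalRing_of_derivations {R : Type u} [CommRing R] [IsLocalRing R] [IsNoetherianRing R]
    {n : ℕ} (x : Fin n → R) (hx : Ideal.span (Set.range x) = maximalIdeal R) (D : Fin n → Derivation ℤ R R)
    (hD : ∀ i j, D i (x j) - (if i = j then 1 else 0) ∈ maximalIdeal R)
    (h0 : ∀ d : ℕ, 0 < d → IsUnit (d : R)) : IsRegularLocalRing R :=
  isRegularLocalRing_of_isQuasiRegular n R x hx (isQuasiRegular_of_derivations x hx D hD h0)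

end Groth.Agent.HopfLib
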