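import Groth.Agent.PLieLib.RestrictedEnv
import Mathlib.RingTheory.HopfAlgebra.Convolution
import Mathlib.RingTheory.Bialgebra.Basic
import Mathlib.RingTheory.Ideal.Quotient.Operations
import Mathlib.LinearAlgebra.FreeModule.Basic

/-! The restricted enveloping algebra of a restricted Lie algebra as a cocommutative Hopf algebra, with
its Poincaré–Birkhoff–Witt coordinates and the computation of its primitive elements. -/

universe u

namespace Groth.Agent.HopfLib.REnv

open Groth.Agent.PBWLib Groth.Agent.PLieLib TensorProduct
open scoped Classical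
attribute [local instance 100] LieRing.ofAssociativeRing

variable {k : Type u} [Field k] {L : Type u} [LieRing L] [LieAlgebra k L] {ι : Type} [LinearOrder ι]
  (b : Module.Basis ι k L) (p : ℕ) [hp : Fact p.Prime] [CharP k p] (φ : PLie.PMap k p L)

local notation "U" => UniversalEnvelopingAlgebra k L

/-- the defining ideal -/
noncomputable def J : Ideal U where
  carrier := relIdeal b p φ
  add_mem' := fun ha hb => add_mem ha hb
  zero_mem' := zero_mem _
  smul_mem' := fun c _ hx => mul_mem_relIdeal b p φ c hx

theorem mem_J {x : U} : x ∈ J b p φ ↔ x ∈ relIdeal b p φ := Iff.rfl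

theorem relIdeal_induction {P : U → Prop} (h0 : P 0) (hadd : ∀ x y, P x → P y → P (x + y))
    (hsmul : ∀ (c : k) x, P x → P (c • x)) (hgen : ∀ i v, P (pDiff p φ (b i) * v))
    {w : U} (hw : w ∈ relIdeal b p φ) : P w := by
  obtain ⟨v, hv, rfl⟩ := hw
  rw [Finsupp.supported_eq_span_single] at hv
  induction hv using Submodule.span_induction with
  | mem v hv =>
    obtain ⟨M, ⟨i, hi⟩, rfl⟩ := hv
    obtain ⟨M', rfl⟩ := Multiset.le_iff_exists_add.mp (Multiset.le_count_iff_replicate_le.mp hi)
    rw [famMap, Finsupp.linearCombination_single, one_smul, T_add]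
    exact hgen _ _
  | zero => rw [map_zero]; exact h0
  | add v w _ _ hv hw => rw [map_add]; exact hadd _ _ hv hw
  | smul c v _ hv => rw [map_smul]; exact hsmul _ _ hv

instance instIsTwoSided : (J b p φ).IsTwoSided := ⟨fun {a} c ha => by
  rw [mem_J] at ha ⊢
  refine relIdeal_induction b p φ (P := fun x => x * c ∈ relIdeal b p φ) ?_ ?_ ?_ ?_ ha
  · rw [zero_mul]; exact zero_mem _
  · intro x y hx hy; rw [add_mul]; exact add_mem hx hy
  · intro r x hx; rw [smul_mul_assoc]; exact Submodule.smul_mem _ _ hx
  · intro i v; rw [mul_assoc]; exact pDiff_mul_mem b p φ i _⟩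

/-- the restricted enveloping algebra -/
abbrev Env : Type u := U ⧸ J b p φ

local notation "E" => Env b p φ

/-- the canonical map -/
noncomputable def j : L →ₗ[k] E :=
  (Ideal.Quotient.mkₐ k (J b p φ)).toLinearMap ∘ₗ
    (UniversalEnvelopingAlgebra.ι k : L →ₗ⁅k⁆ U).toLinearMap

theorem j_lie (x y : L) : j b p φ ⁅x, y⁆ = j b p φ x * j b p φ y - j b p φ y * j b p φ x := by
  simp only [j, LinearMap.comp_apply, AlgHom.toLinearMap_apply, LieHom.coe_toLinearMap, LieHom.map_lie,
    LieRing.of_associative_ring_bracket, map_sub, map_mul]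

theorem j_pow (x : L) : j b p φ (φ x) = j b p φ x ^ p := by
  rw [eq_comm, ← sub_eq_zero]
  simp only [j, LinearMap.comp_apply, AlgHom.toLinearMap_apply, LieHom.coe_toLinearMap, ← map_pow, ← map_sub]
  refine Ideal.Quotient.eq_zero_iff_mem.mpr ?_
  have := pDiff_mul_mem' b p φ x 1
  rwa [mul_one] at this

/-- a bracket preserving linear map as a Lie morphism -/
def toLie {B : Type u} [Ring B] [Algebra k B] (f : L →ₗ[k] B)
    (h1 : ∀ x y, f ⁅x, y⁆ = f x * f y - f y * f x) : L →ₗ⁅k⁆ B where
  toLinearMap := f
  map_lie' := fun {a c} => h1 a c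

/-- the universal property -/
noncomputable def lift {B : Type u} [Ring B] [Algebra k B] (f : L →ₗ[k] B)
    (h1 : ∀ x y, f ⁅x, y⁆ = f x * f y - f y * f x) (h2 : ∀ x, f (φ x) = f x ^ p) : E →ₐ[k] B :=
  Ideal.Quotient.liftₐ (J b p φ)
    (UniversalEnvelopingAlgebra.lift k (toLie f h1))
    (fun a ha => by
      refine relIdeal_induction b p φ
        (P := fun x => UniversalEnvelopingAlgebra.lift k (toLie f h1) x = 0) ?_ ?_ ?_ ?_ ((mem_J b p φ).mp ha)
      · exact map_zero _
      · intro x y hx hy; rw [map_add, hx, hy, add_zero]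
      · intro c x hx; rw [map_smul, hx, smul_zero]
      · intro i v
        rw [map_mul, pDiff, map_sub, map_pow, UniversalEnvelopingAlgebra.lift_ι_apply,
          UniversalEnvelopingAlgebra.lift_ι_apply]
        change (f (b i) ^ p - f (φ (b i))) * _ = 0
        rw [h2, sub_self, zero_mul])

@[simp] theorem lift_j {B : Type u} [Ring B] [Algebra k B] (f : L →ₗ[k] B) (h1) (h2) (x : L) :
    lift b p φ f h1 h2 (j b p φ x) = f x := by
  change UniversalEnvelopingAlgebra.lift k _ (UniversalEnvelopingAlgebra.ι k x) = _
  rw [UniversalEnvelopingAlgebra.lift_ι_apply]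
  rfl

theorem hom_ext {B : Type u} [Ring B] [Algebra k B] {f g : E →ₐ[k] B}
    (h : ∀ x, f (j b p φ x) = g (j b p φ x)) : f = g :=
  Ideal.Quotient.algHom_ext k (UniversalEnvelopingAlgebra.hom_ext k (LieHom.ext h))

theorem induction_on {P : E → Prop} (h0 : P 1) (hadd : ∀ x y, P x → P y → P (x + y))
    (hsmul : ∀ (c : k) x, P x → P (c • x)) (hmul : ∀ x a, P a → P (j b p φ x * a)) (a : E) : P a := by
  obtain ⟨u, rfl⟩ := Ideal.Quotient.mk_surjective (I := J b p φ) a
  obtain ⟨t, rfl⟩ : ∃ t, UniversalEnvelopingAlgebra.mkAlgHom k L t = u := RingCon.mk'_surjective _ u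
  suffices h : ∀ w, P w → P (Ideal.Quotient.mk (J b p φ) (UniversalEnvelopingAlgebra.mkAlgHom k L t) * w) by
    simpa using h 1 h0
  induction t using TensorAlgebra.induction with
  | algebraMap r =>
    intro w hw
    rw [AlgHom.commutes]
    exact (Algebra.smul_def r w) ▸ hsmul r w hw
  | ι x => exact fun w hw => hmul x w hw
  | mul a c ha hc => intro w hw; rw [map_mul, map_mul, mul_assoc]; exact ha _ (hc _ hw)
  | add a c ha hc => intro w hw; rw [map_add, map_add, add_mul]; exact hadd _ _ (ha _ hw) (hc _ hw)

/-- the counit -/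
noncomputable def εE : E →ₐ[k] k :=
  lift b p φ 0 (fun _ _ => by simp) (fun _ => by simp [zero_pow hp.out.ne_zero])

@[simp] theorem εE_j (x : L) : εE b p φ (j b p φ x) = 0 := lift_j b p φ _ _ _ x

instance instNontrivial : Nontrivial E := (εE b p φ).toRingHom.domain_nontrivial

instance instCharP : CharP E p := charP_of_injective_algebraMap (algebraMap k E).injective p

instance instCharP₂ : CharP (E ⊗[k] E) p := by
  have : Nontrivial (E ⊗[k] E) := (Algebra.TensorProduct.lift (εE b p φ) (εE b p φ)
    (fun _ _ => Commute.all _ _)).toRingHom.domain_nontrivial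
  exact charP_of_injective_algebraMap (algebraMap k (E ⊗[k] E)).injective p

/-- the comultiplication -/
noncomputable def ΔE : E →ₐ[k] E ⊗[k] E :=
  lift b p φ (((TensorProduct.mk k E E).flip 1 + TensorProduct.mk k E E 1) ∘ₗ j b p φ)
    (fun x y => by
      simp only [LinearMap.comp_apply, LinearMap.add_apply, LinearMap.flip_apply, TensorProduct.mk_apply,
        j_lie, TensorProduct.sub_tmul, TensorProduct.tmul_sub, add_mul, mul_add,
        Algebra.TensorProduct.tmul_mul_tmul, one_mul, mul_one]
      abel)
    (fun x => by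
      simp only [LinearMap.comp_apply, LinearMap.add_apply, LinearMap.flip_apply, TensorProduct.mk_apply, j_pow]
      rw [add_pow_char_of_commute (p := p) (show Commute (j b p φ x ⊗ₜ[k] (1 : E)) ((1 : E) ⊗ₜ[k] j b p φ x) by
        simp [commute_iff_eq, Algebra.TensorProduct.tmul_mul_tmul]),
        Algebra.TensorProduct.tmul_pow, Algebra.TensorProduct.tmul_pow, one_pow])

@[simp] theorem ΔE_j (x : L) : ΔE b p φ (j b p φ x) = j b p φ x ⊗ₜ 1 + 1 ⊗ₜ j b p φ x :=
  lift_j b p φ _ _ _ x

noncomputable instance instBialgebra : Bialgebra k E :=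
  Bialgebra.ofAlgHom (ΔE b p φ) (εE b p φ)
    (hom_ext b p φ fun x => by
      simp [Algebra.TensorProduct.one_def, TensorProduct.add_tmul, TensorProduct.tmul_add, add_assoc])
    (hom_ext b p φ fun x => by simp)
    (hom_ext b p φ fun x => by simp)

theorem comul_eq (a : E) : Coalgebra.comul (R := k) a = ΔE b p φ a := rfl

theorem counit_eq (a : E) : Coalgebra.counit (R := k) a = εE b p φ a := rfl

instance instIsCocomm : Coalgebra.IsCocomm k E where
  comm_comp_comul := by
    have : (Algebra.TensorProduct.comm k E E).toAlgHom.comp (ΔE b p φ) = ΔE b p φ :=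
      hom_ext b p φ fun x => by simp [add_comm]
    exact congrArg AlgHom.toLinearMap this

theorem neg_one_pow' : ((-1 : E)) ^ p = -1 := neg_one_pow_char E p

/-- the antipode as an algebra map into the opposite algebra -/
noncomputable def SE : E →ₐ[k] Eᵐᵒᵖ :=
  lift b p φ (-((MulOpposite.opLinearEquiv k).toLinearMap ∘ₗ j b p φ))
    (fun x y => by
      apply MulOpposite.unop_injective
      simp [j_lie])
    (fun x => by
      apply MulOpposite.unop_injective
      simp only [LinearMap.neg_apply, LinearMap.comp_apply, LinearEquiv.coe_coe, MulOpposite.unop_neg,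
        MulOpposite.unop_pow, MulOpposite.coe_opLinearEquiv, MulOpposite.unop_op, j_pow]
      rw [neg_pow (j b p φ x) p, neg_one_pow' b p φ, neg_one_mul])

theorem SE_j (x : L) : (SE b p φ (j b p φ x)).unop = -j b p φ x := by
  rw [SE, lift_j]; simp

/-- the antipode -/
noncomputable def antipodeE : E →ₗ[k] E :=
  (MulOpposite.opLinearEquiv k).symm.toLinearMap ∘ₗ (SE b p φ).toLinearMap

theorem antipodeE_mul (x y : E) : antipodeE b p φ (x * y) = antipodeE b p φ y * antipodeE b p φ x := by
  simp [antipodeE]

theorem antipodeE_j (x : L) : antipodeE b p φ (j b p φ x) = -j b p φ x := SE_j b p φ x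

theorem antipodeE_one : antipodeE b p φ 1 = 1 := by simp [antipodeE]

theorem comul_j_mul (x : L) (a : E) : Coalgebra.comul (R := k) (j b p φ x * a) =
    (j b p φ x ⊗ₜ[k] 1) * Coalgebra.comul a + ((1 : E) ⊗ₜ[k] j b p φ x) * Coalgebra.comul a := by
  rw [comul_eq, comul_eq, map_mul, ΔE_j, add_mul]

theorem counit_j_mul (x : L) (a : E) : Coalgebra.counit (R := k) (j b p φ x * a) = 0 := by
  rw [counit_eq, map_mul, εE_j, zero_mul]

noncomputable instance instHopf : HopfAlgebra k E where
  antipode := antipodeE b p φ
  mul_antipode_rTensor_comul := by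
    apply LinearMap.ext
    intro a
    induction a using induction_on b p φ with
    | h0 => simp [Algebra.TensorProduct.one_def, antipodeE_one]
    | hadd x y hx hy => rw [map_add, map_add, hx, hy]
    | hsmul c x hx => rw [map_smul, map_smul, hx]
    | hmul x a _ =>
      simp only [LinearMap.comp_apply, comul_j_mul, counit_j_mul, map_zero, map_add]
      induction Coalgebra.comul (R := k) a using TensorProduct.induction_on with
      | zero => simp
      | tmul u v =>
        simp [Algebra.TensorProduct.tmul_mul_tmul, antipodeE_mul, antipodeE_j, mul_assoc]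
      | add s t hs ht =>
        simp only [mul_add, map_add]
        rw [add_add_add_comm, hs, ht, add_zero]
  mul_antipode_lTensor_comul := by
    apply LinearMap.ext
    intro a
    induction a using induction_on b p φ with
    | h0 => simp [Algebra.TensorProduct.one_def, antipodeE_one]
    | hadd x y hx hy => rw [map_add, map_add, hx, hy]
    | hsmul c x hx => rw [map_smul, map_smul, hx]
    | hmul x a ha =>
      simp only [LinearMap.comp_apply] at ha
      simp only [LinearMap.comp_apply, comul_j_mul, counit_j_mul, map_zero, map_add]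
      have key : ∀ t : E ⊗[k] E,
          LinearMap.mul' k E ((antipodeE b p φ).lTensor E ((j b p φ x ⊗ₜ[k] 1) * t)) =
            j b p φ x * LinearMap.mul' k E ((antipodeE b p φ).lTensor E t) ∧
          LinearMap.mul' k E ((antipodeE b p φ).lTensor E (((1 : E) ⊗ₜ[k] j b p φ x) * t)) =
            - (LinearMap.mul' k E ((antipodeE b p φ).lTensor E t) * j b p φ x) := by
        intro t
        induction t using TensorProduct.induction_on with
        | zero => simp
        | tmul u v =>
          simp [Algebra.TensorProduct.tmul_mul_tmul, antipodeE_mul, antipodeE_j, mul_assoc]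
        | add s t hs ht =>
          simp only [mul_add, add_mul, map_add, hs.1, hs.2, ht.1, ht.2, neg_add]
          exact ⟨trivial, trivial⟩
      rw [(key _).1, (key _).2, ha, Algebra.linearMap_apply, ← Algebra.commutes, add_neg_cancel]

/-! ### coordinates -/

/-- the monomial of a list -/
noncomputable def P (l : List ι) : E := (l.map fun i => j b p φ (b i)).prod

@[simp] theorem P_nil : P b p φ [] = 1 := by simp [P]

@[simp] theorem P_cons (i : ι) (l : List ι) : P b p φ (i :: l) = j b p φ (b i) * P b p φ l := by simp [P]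

theorem mk_mon (M : Multiset ι) :
    Ideal.Quotient.mk (J b p φ) (mon b M) = P b p φ (M.sort (· ≤ ·)) := by
  rw [mon, map_list_prod, List.map_map]
  rfl

/-- coordinates on the enveloping algebra adapted to the ideal -/
noncomputable def coordU (M : Multiset ι) : U →ₗ[k] k :=
  Finsupp.lapply M ∘ₗ (LinearEquiv.ofBijective (famMap (T b p φ))
    (famMap_bijective b (hasLead_T b p φ))).symm.toLinearMap

theorem coordU_famMap (M : Multiset ι) (v : Multiset ι →₀ k) : coordU b p φ M (famMap (T b p φ) v) = v M := by
  change ((LinearEquiv.ofBijective (famMap (T b p φ)) (famMap_bijective b (hasLead_T b p φ))).symm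
    (LinearEquiv.ofBijective (famMap (T b p φ)) (famMap_bijective b (hasLead_T b p φ)) v)) M = _
  rw [LinearEquiv.symm_apply_apply]

/-- small multisets -/
def Small (M : Multiset ι) : Prop := ∀ i, M.count i < p

omit hp in
theorem Small.not_big {M : Multiset ι} (h : Small p M) : M ∉ big p := by
  rintro ⟨i, hi⟩; exact absurd hi (not_le.mpr (h i))

omit hp in
theorem small_of_not_big {M : Multiset ι} (h : M ∉ big p) : Small p M :=
  fun i => not_le.mp fun hi => h ⟨i, hi⟩

/-- coordinates on the restricted enveloping algebra -/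
noncomputable def coord {M : Multiset ι} (hM : Small p M) : E →ₗ[k] k :=
  Submodule.liftQ ((J b p φ).restrictScalars k) (coordU b p φ M) (by
    rintro x ⟨v, hv, rfl⟩
    rw [LinearMap.mem_ker, coordU_famMap]
    exact Finsupp.notMem_support_iff.mp fun hi => hM.not_big p ((Finsupp.mem_supported k v).mp hv hi)) ∘ₗ
  (Submodule.Quotient.restrictScalarsEquiv k (J b p φ)).symm.toLinearMap

theorem coord_mk {M : Multiset ι} (hM : Small p M) (u : U) :
    coord b p φ hM (Ideal.Quotient.mk (J b p φ) u) = coordU b p φ M u := rfl

theorem T_small {M : Multiset ι} (hM : Small p M) : T b p φ M = mon b M := by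
  have hq : mquot p M = 0 := Multiset.ext.mpr fun i => by
    rw [count_mquot, Multiset.count_zero, Nat.div_eq_of_lt (hM i)]
  have hr : mres p M = M := Multiset.ext.mpr fun i => by rw [count_mres, Nat.mod_eq_of_lt (hM i)]
  rw [T, hq, hr, Multiset.map_zero, Multiset.prod_zero, OneMemClass.coe_one, one_mul]

theorem coord_P {M : Multiset ι} (hM : Small p M) {l : List ι} (hs : l.Pairwise (· ≤ ·))
    (hl : Small p (l : Multiset ι)) :
    coord b p φ hM (P b p φ l) = if (l : Multiset ι) = M then 1 else 0 := by
  have h1 : P b p φ l = Ideal.Quotient.mk (J b p φ) (famMap (T b p φ) (Finsupp.single (l : Multiset ι) 1)) := by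
    rw [famMap, Finsupp.linearCombination_single, one_smul, T_small b p φ hl, mk_mon, sort_coe hs]
  rw [h1, coord_mk, coordU_famMap, Finsupp.single_apply]

omit hp in
theorem finite_small [Finite ι] : {M : Multiset ι | Small p M}.Finite := by
  let _ := Fintype.ofFinite ι
  refine Set.Finite.subset ((Set.finite_univ (α := ι → Fin p)).image
    fun c => ∑ i, Multiset.replicate (c i : ℕ) i) fun M hM => ?_
  refine ⟨fun i => ⟨M.count i, hM i⟩, trivial, Multiset.ext.mpr fun i => ?_⟩
  simp [Multiset.count_sum', Multiset.count_replicate]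

theorem eq_sum_coord [Finite ι] (d : E) :
    d = ∑ M ∈ (finite_small (ι := ι) p).toFinset.attach,
      coord b p φ ((finite_small (ι := ι) p).mem_toFinset.mp M.2) d • P b p φ (M.1.sort (· ≤ ·)) := by
  set S := (finite_small (ι := ι) p).toFinset with hS
  obtain ⟨u, rfl⟩ := Ideal.Quotient.mk_surjective (I := J b p φ) d
  obtain ⟨v, rfl⟩ := (famMap_bijective b (hasLead_T b p φ)).2 u
  induction v using Finsupp.induction_linear with
  | zero => simp
  | add v w hv hw =>
    simp only [map_add, add_smul, Finset.sum_add_distrib]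
    exact congrArg₂ (· + ·) hv hw
  | single N c =>
    simp only [coord_mk, coordU_famMap]
    by_cases hN : Small p N
    · rw [Finset.sum_eq_single ⟨N, (finite_small (ι := ι) p).mem_toFinset.mpr hN⟩]
      · rw [Finsupp.single_eq_same, famMap, Finsupp.linearCombination_single, T_small b p φ hN,
          ← mk_mon, ← Ideal.Quotient.mkₐ_eq_mk k, map_smul]
      · intro M _ hM
        rw [Finsupp.single_apply, if_neg fun h => hM (Subtype.ext h.symm), zero_smul]
      · exact fun h => (h (Finset.mem_attach _ _)).elim
    · rw [Ideal.Quotient.eq_zero_iff_mem.mpr, Finset.sum_eq_zero]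
      · intro M _
        have hM2 : Small p M.1 := (finite_small (ι := ι) p).mem_toFinset.mp M.2
        rw [Finsupp.single_apply, if_neg fun h => hN (by rw [h]; exact hM2), zero_smul]
      · exact ⟨_, Finsupp.single_mem_supported k c (by by_contra h; exact hN (small_of_not_big p h)), rfl⟩

instance instFinite [Finite ι] : Module.Finite k E := by
  refine ⟨⟨(finite_small (ι := ι) p).toFinset.image (fun M => P b p φ (M.sort (· ≤ ·))), ?_⟩⟩
  rw [eq_top_iff]
  rintro d -
  rw [eq_sum_coord b p φ d]
  exact Submodule.sum_mem _ fun M _ => Submodule.smul_mem _ _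
    (Submodule.subset_span (Finset.mem_coe.mpr (Finset.mem_image_of_mem _ M.2)))

omit hp in
theorem small_of_le {M N : Multiset ι} (h : N ≤ M) (hM : Small p M) : Small p N :=
  fun i => lt_of_le_of_lt (Multiset.count_le_of_le i h) (hM i)

theorem small_singleton (i : ι) : Small p ({i} : Multiset ι) := fun j =>
  lt_of_le_of_lt (Multiset.nodup_iff_count_le_one.mp (Multiset.nodup_singleton i) j) hp.out.one_lt

theorem small_zero : Small p (0 : Multiset ι) := fun i => by simpa using hp.out.pos

/-- the first-factor coordinate of the comultiplication -/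
noncomputable def C (i : ι) : E ⊗[k] E →ₗ[k] E :=
  (TensorProduct.lid k E).toLinearMap ∘ₗ (coord b p φ (small_singleton p i)).rTensor E

theorem C_tmul (i : ι) (u v : E) : C b p φ i (u ⊗ₜ v) = coord b p φ (small_singleton p i) u • v := by
  simp [C]

theorem C_mul_right (i : ι) (x : E) (t : E ⊗[k] E) :
    C b p φ i (((1 : E) ⊗ₜ[k] x) * t) = x * C b p φ i t := by
  induction t using TensorProduct.induction_on with
  | zero => simp
  | tmul u v => simp [Algebra.TensorProduct.tmul_mul_tmul, C_tmul]
  | add s t hs ht => simp [mul_add, hs, ht]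

theorem comul_P {l : List ι} (hs : l.Pairwise (· ≤ ·)) (hl : Small p (l : Multiset ι)) :
    Coalgebra.comul (R := k) (P b p φ l) - 1 ⊗ₜ P b p φ l ∈
      Submodule.span k {t | ∃ (s : List ι) (v : Env b p φ), s.Sublist l ∧ s ≠ [] ∧ t = P b p φ s ⊗ₜ[k] v} ∧
    ∀ i, C b p φ i (Coalgebra.comul (R := k) (P b p φ l)) = (l.count i : k) • P b p φ (l.erase i) := by
  induction l with
  | nil =>
    refine ⟨by simp [Algebra.TensorProduct.one_def], fun i => ?_⟩
    rw [P_nil, Bialgebra.comul_one, Algebra.TensorProduct.one_def, C_tmul, ← P_nil b p φ,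
      coord_P b p φ _ List.Pairwise.nil (by simpa using small_zero p), if_neg (by simp)]
    simp
  | cons x l ih =>
    obtain ⟨hx, hs'⟩ := List.pairwise_cons.mp hs
    have hl' : Small p (l : Multiset ι) := small_of_le p (by rw [← Multiset.cons_coe]; exact Multiset.le_cons_self _ _) hl
    obtain ⟨hW, hC⟩ := ih hs' hl'
    set W := Submodule.span k {t | ∃ (s : List ι) (v : Env b p φ), s.Sublist l ∧ s ≠ [] ∧ t = P b p φ s ⊗ₜ[k] v}
    set W' := Submodule.span k {t | ∃ (s : List ι) (v : Env b p φ), s.Sublist (x :: l) ∧ s ≠ [] ∧ t = P b p φ s ⊗ₜ[k] v}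
    rw [P_cons, comul_j_mul]
    refine ⟨?_, fun i => ?_⟩
    · have h1 : ∀ t ∈ W, (j b p φ (b x) ⊗ₜ[k] (1 : E)) * t ∈ W' ∧ ((1 : E) ⊗ₜ[k] j b p φ (b x)) * t ∈ W' := by
        intro t ht
        induction ht using Submodule.span_induction with
        | mem t ht =>
          obtain ⟨s, v, hs1, hs2, rfl⟩ := ht
          rw [Algebra.TensorProduct.tmul_mul_tmul, Algebra.TensorProduct.tmul_mul_tmul, one_mul, one_mul]
          exact ⟨Submodule.subset_span ⟨x :: s, v, hs1.cons_cons x, by simp, by rw [P_cons]⟩,
            Submodule.subset_span ⟨s, _, hs1.cons x, hs2, rfl⟩⟩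
        | zero => simp
        | add s t _ _ hs ht =>
          rw [mul_add, mul_add]; exact ⟨add_mem hs.1 ht.1, add_mem hs.2 ht.2⟩
        | smul c t _ ht =>
          rw [mul_smul_comm, mul_smul_comm]
          exact ⟨Submodule.smul_mem _ _ ht.1, Submodule.smul_mem _ _ ht.2⟩
      obtain ⟨ha, hb⟩ := h1 _ hW
      rw [mul_sub, Algebra.TensorProduct.tmul_mul_tmul, mul_one, one_mul] at ha
      rw [mul_sub, Algebra.TensorProduct.tmul_mul_tmul, mul_one] at hb
      have hgen : j b p φ (b x) ⊗ₜ[k] P b p φ l ∈ W' :=
        Submodule.subset_span ⟨[x], P b p φ l, List.Sublist.cons_cons x (List.nil_sublist _), by simp, by simp⟩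
      convert add_mem (add_mem ha hb) hgen using 1
      abel
    · have h2 : C b p φ i ((j b p φ (b x) ⊗ₜ[k] (1 : E)) * Coalgebra.comul (P b p φ l)) =
          if x = i then P b p φ l else 0 := by
        have h3 : ∀ t ∈ W, C b p φ i ((j b p φ (b x) ⊗ₜ[k] (1 : E)) * t) = 0 := by
          intro t ht
          induction ht using Submodule.span_induction with
          | mem t ht =>
            obtain ⟨s, v, hs1, hs2, rfl⟩ := ht
            rw [Algebra.TensorProduct.tmul_mul_tmul, C_tmul, ← P_cons,
              coord_P b p φ _ (hs.sublist (hs1.cons_cons x))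
                (small_of_le p (Multiset.coe_le.mpr (hs1.cons_cons x).subperm) hl), if_neg, zero_smul]
            intro h
            have := congrArg Multiset.card h
            simp at this
            exact hs2 this
          | zero => simp
          | add s t _ _ hs ht => simp [mul_add, hs, ht]
          | smul c t _ ht => rw [mul_smul_comm, map_smul, ht, smul_zero]
        have h4 := h3 _ hW
        rw [mul_sub, map_sub, sub_eq_zero] at h4
        rw [h4, Algebra.TensorProduct.tmul_mul_tmul, C_tmul, mul_one, one_mul]
        have h5 : j b p φ (b x) = P b p φ [x] := by simp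
        rw [h5, coord_P b p φ _ (by simp) (small_singleton p x)]
        by_cases hxi : x = i
        · subst hxi; simp
        · rw [if_neg hxi, if_neg (by simpa using hxi), zero_smul]
      rw [map_add, h2, C_mul_right, hC, mul_smul_comm]
      by_cases hxi : x = i
      · subst hxi
        rw [if_pos rfl, List.erase_cons_head, List.count_cons_self, Nat.cast_add, Nat.cast_one, add_smul,
          one_smul, add_comm]
        congr 1
        by_cases hm : x ∈ l
        · obtain ⟨y, l', rfl⟩ := List.exists_cons_of_ne_nil (List.ne_nil_of_mem hm)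
          have hy : y = x := by
            rcases List.mem_cons.mp hm with h | h
            · exact h.symm
            · exact le_antisymm ((List.pairwise_cons.mp hs').1 _ h) (hx y List.mem_cons_self)
          subst hy
          rw [List.erase_cons_head, P_cons]
        · rw [List.count_eq_zero.mpr hm]; simp
      · rw [if_neg hxi, zero_add, List.count_cons_of_ne hxi,
          List.erase_cons_tail (by simpa using hxi), P_cons]

theorem j_mem_primitive (x : L) :
    Coalgebra.comul (R := k) (j b p φ x) = j b p φ x ⊗ₜ 1 + 1 ⊗ₜ j b p φ x := ΔE_j b p φ x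

theorem j_injective : Function.Injective (j b p φ) := by
  refine (injective_iff_map_eq_zero _).mpr fun x hx => b.repr.injective ?_
  rw [map_zero]
  ext i
  have key : coord b p φ (small_singleton p i) ∘ₗ j b p φ = Finsupp.lapply i ∘ₗ b.repr.toLinearMap :=
    b.ext fun m => by
      have h5 : j b p φ (b m) = P b p φ [m] := by simp
      rw [LinearMap.comp_apply, h5, coord_P b p φ _ (by simp) (small_singleton p m)]
      simp [Finsupp.single_apply]
  have := LinearMap.congr_fun key x
  rw [LinearMap.comp_apply, hx, map_zero] at this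
  simpa using this.symm

theorem exists_of_primitive [Finite ι] (d : E)
    (hd : Coalgebra.comul (R := k) d = d ⊗ₜ 1 + 1 ⊗ₜ d) : ∃ x : L, j b p φ x = d := by
  set S := (finite_small (ι := ι) p).toFinset
  have hS : ∀ M : S, Small p M.1 := fun M => (finite_small (ι := ι) p).mem_toFinset.mp M.2
  have hexp := eq_sum_coord b p φ d
  -- coordinates of degree at least two vanish
  have hvan : ∀ M : S, 2 ≤ M.1.card → coord b p φ (hS M) d = 0 := by
    intro M hM
    obtain ⟨i, hi⟩ := Multiset.exists_mem_of_ne_zero (s := M.1) (by rintro h; simp [h] at hM)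
    have he : Small p (M.1.erase i) := small_of_le p (Multiset.erase_le i M.1) (hS M)
    have h1 : coord b p φ he (C b p φ i (Coalgebra.comul (R := k) d)) = 0 := by
      have hz : coord b p φ (small_singleton p i) (1 : E) = 0 := by
        rw [← P_nil b p φ, coord_P b p φ _ List.Pairwise.nil (by simpa using small_zero p), if_neg (by simp)]
      rw [hd, map_add, C_tmul, C_tmul, hz, zero_smul, add_zero, map_smul, ← P_nil b p φ,
        coord_P b p φ _ List.Pairwise.nil (by simpa using small_zero p), if_neg, smul_zero]
      intro h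
      have := congrArg Multiset.card h
      rw [Multiset.card_erase_of_mem hi] at this
      simp at this
      omega
    have hcast : ((M.1.count i : ℕ) : k) ≠ 0 := fun h => by
      rw [CharP.cast_eq_zero_iff k p] at h
      have := Nat.le_of_dvd (Multiset.count_pos.mpr hi) h
      have := hS M i
      omega
    have h2 : coord b p φ he (C b p φ i (Coalgebra.comul (R := k) d)) =
        (M.1.count i : k) * coord b p φ (hS M) d := by
      conv_lhs => rw [hexp]
      simp only [map_sum, map_smul, smul_eq_mul]
      rw [Finset.sum_eq_single M]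
      · rw [(comul_P b p φ (Multiset.pairwise_sort _ _) (by rw [Multiset.sort_eq]; exact hS M)).2,
          map_smul, smul_eq_mul, coord_P b p φ _ ((Multiset.pairwise_sort _ _).erase i)
            (by rw [← Multiset.coe_erase, Multiset.sort_eq]; exact he),
          if_pos (by rw [← Multiset.coe_erase, Multiset.sort_eq]), mul_one, ← Multiset.coe_count,
          Multiset.sort_eq, mul_comm]
      · intro N _ hN
        rw [(comul_P b p φ (Multiset.pairwise_sort _ _) (by rw [Multiset.sort_eq]; exact hS N)).2,
          map_smul, smul_eq_mul, ← Multiset.coe_count, Multiset.sort_eq]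
        by_cases hiN : i ∈ N.1
        · rw [coord_P b p φ _ ((Multiset.pairwise_sort _ _).erase i)
            (by rw [← Multiset.coe_erase, Multiset.sort_eq]; exact small_of_le p (Multiset.erase_le i _) (hS N)),
            if_neg, mul_zero, mul_zero]
          rw [← Multiset.coe_erase, Multiset.sort_eq]
          intro h
          exact hN (Subtype.ext (by rw [← Multiset.cons_erase hiN, h, Multiset.cons_erase hi]))
        · rw [Multiset.count_eq_zero.mpr hiN]; simp
      · exact fun h => (h (Finset.mem_attach _ _)).elim
    rcases mul_eq_zero.mp (h2.symm.trans h1) with h | h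
    · exact absurd h hcast
    · exact h
  -- so `d` is a scalar plus an element of `L`
  have hmem : d ∈ (k ∙ (1 : E)) ⊔ LinearMap.range (j b p φ) := by
    rw [hexp]
    refine Submodule.sum_mem _ fun M _ => ?_
    by_cases hM : 2 ≤ M.1.card
    · rw [hvan M hM, zero_smul]; exact zero_mem _
    refine Submodule.smul_mem _ _ ?_
    rcases (show M.1.card = 0 ∨ M.1.card = 1 by omega) with h | h
    · rw [Multiset.card_eq_zero.mp h, Multiset.sort_zero, P_nil]
      exact Submodule.mem_sup_left (Submodule.mem_span_singleton_self _)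
    · obtain ⟨i, hi⟩ := Multiset.card_eq_one.mp h
      rw [hi, Multiset.sort_singleton, P_cons, P_nil, mul_one]
      exact Submodule.mem_sup_right ⟨_, rfl⟩
  obtain ⟨a, ha, c, ⟨x, rfl⟩, hac⟩ := Submodule.mem_sup.mp hmem
  obtain ⟨r, rfl⟩ := Submodule.mem_span_singleton.mp ha
  refine ⟨x, ?_⟩
  have hε : εE b p φ d = 0 := by
    have := congrArg (LinearMap.mul' k k ∘ₗ TensorProduct.map (εE b p φ).toLinearMap (εE b p φ).toLinearMap) hd
    simp only [LinearMap.comp_apply, map_add, TensorProduct.map_tmul, LinearMap.mul'_apply,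
      AlgHom.toLinearMap_apply, map_one, mul_one, one_mul] at this
    have h0 : ∀ a : E, LinearMap.mul' k k (TensorProduct.map (εE b p φ).toLinearMap (εE b p φ).toLinearMap
        (Coalgebra.comul (R := k) a)) = εE b p φ a := by
      have hh : (Algebra.TensorProduct.lift (εE b p φ) (εE b p φ) (fun _ _ => Commute.all _ _)).comp
          (ΔE b p φ) = εE b p φ := hom_ext b p φ fun x => by simp
      intro a
      refine Eq.trans ?_ (AlgHom.congr_fun hh a)
      rw [comul_eq, AlgHom.comp_apply]
      induction ΔE b p φ a using TensorProduct.induction_on with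
      | zero => simp
      | tmul u v => simp
      | add s t hs ht => simp [hs, ht]
    rw [h0] at this
    exact left_eq_add.mp this
  rw [← hac, map_add, map_smul, map_one, εE_j, add_zero, smul_eq_mul, mul_one] at hε
  rw [← hac, hε, zero_smul, zero_add]

end Groth.Agent.HopfLib.REnv
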