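import Groth.Agent.HopfLib.Comod
import Groth.Agent.HopfLib.Slices
import Groth.Prelude.Def_W4c6stackyreslrsPsRefl
import Mathlib.RingTheory.HopfAlgebra.Quotient

/-!
# The Hopf ideal of the stabiliser of a vector
-/

open TensorProduct HopfRep

universe u v w

namespace Groth.Agent.HopfLib

set_option maxHeartbeats 400000

variable {k : Type u} [Field k] {A : Type v} [CommRing A] [HopfAlgebra k A]
  {V : Type w} [AddCommGroup V] [Module k V] [Comod k A V]

/-- The equations of the stabiliser of `v`. -/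
noncomputable def fixIdeal (k : Type u) [Field k] (A : Type v) [CommRing A] [HopfAlgebra k A]
    {V : Type w} [AddCommGroup V] [Module k V] [Comod k A V] (v : V) : Ideal A :=
  Ideal.span (Set.range fun f : V →ₗ[k] k => cf (A := A) f v - f v • (1 : A))

theorem cf_sub_mem_fixIdeal (f : V →ₗ[k] k) (v : V) : cf (A := A) f v - f v • (1 : A) ∈ fixIdeal k A v :=
  Ideal.subset_span ⟨f, rfl⟩

theorem sliceL_coact_sub_tmul_one (f : V →ₗ[k] k) (v : V) :
    sliceL f (Comod.coact (k := k) (A := A) v - v ⊗ₜ[k] (1 : A)) = cf (A := A) f v - f v • (1 : A) := by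
  rw [map_sub, sliceL_tmul, cf_apply]

theorem mem_quotInvariants_iff_fixIdeal_le (I : Ideal A) (v : V) :
    v ∈ GLin.quotInvariants k A V I ↔ fixIdeal k A v ≤ I := by
  rw [GLin.mem_quotInvariants_iff, fixIdeal, Ideal.span_le]
  constructor
  · rintro h _ ⟨f, rfl⟩
    have h' := congrArg (sliceL f) h
    rw [sliceL_lTensor, sliceL_tmul, ← cf_apply] at h'
    show cf (A := A) f v - f v • (1 : A) ∈ I
    rw [← Ideal.Quotient.eq_zero_iff_mem, map_sub, sub_eq_zero, ← Ideal.Quotient.mkₐ_eq_mk k,
      map_smul, map_one]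
    exact h'
  · intro h
    refine eq_of_forall_sliceL_eq fun f => ?_
    rw [sliceL_lTensor, sliceL_tmul, ← cf_apply]
    have h' := h ⟨f, rfl⟩
    rw [SetLike.mem_coe, ← Ideal.Quotient.eq_zero_iff_mem, map_sub, sub_eq_zero,
      ← Ideal.Quotient.mkₐ_eq_mk k, map_smul, map_one] at h'
    exact h'

instance fixIdeal_isHopfIdeal (v : V) : (fixIdeal k A v).IsHopfIdeal k := by
  set K := fixIdeal k A v with hK
  let Q : A ⊗[k] A →ₐ[k] (A ⧸ K) ⊗[k] (A ⧸ K) :=
    Algebra.TensorProduct.map (Ideal.Quotient.mkₐ k K) (Ideal.Quotient.mkₐ k K)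
  let e := Submodule.Quotient.restrictScalarsEquiv k K
  have hQ : ∀ t, TensorProduct.map (K.restrictScalars k).mkQ (K.restrictScalars k).mkQ t =
      TensorProduct.map e.symm.toLinearMap e.symm.toLinearMap (Q t) := by
    intro t
    induction t using TensorProduct.induction_on with
    | zero => simp
    | add p q hp hq => simp only [map_add, hp, hq]
    | tmul a b => rfl
  have hd : ∀ (φ : V →ₗ[k] A) (f : V →ₗ[k] k), φ v - f v • (1 : A) ∈ K →
      Q (φ.rTensor A (Comod.coact (k := k) (A := A) v - v ⊗ₜ[k] (1 : A))) = 0 ∧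
      LinearMap.mul' k A ((HopfAlgebraStruct.antipode k).rTensor A
        (φ.rTensor A (Comod.coact (k := k) (A := A) v - v ⊗ₜ[k] (1 : A)))) ∈ K := by
    intro φ f _
    obtain ⟨s, hs⟩ := (mem_range_lTensor_subtype_iff (W := K.restrictScalars k)).2
      fun g => (sliceL_coact_sub_tmul_one (A := A) g v).symm ▸ cf_sub_mem_fixIdeal g v
    rw [← hs]
    clear hs
    induction s using TensorProduct.induction_on with
    | zero => simp
    | add p q hp hq => simp only [map_add]; exact ⟨by rw [hp.1, hq.1, add_zero], add_mem hp.2 hq.2⟩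
    | tmul x c =>
      have hc : (c : A) ∈ K := c.2
      refine ⟨?_, ?_⟩
      · simp [Q, Ideal.Quotient.eq_zero_iff_mem.2 hc]
      · simp only [LinearMap.lTensor_tmul, LinearMap.rTensor_tmul, Submodule.subtype_apply,
          LinearMap.mul'_apply]
        exact K.mul_mem_left _ hc
  have hgen : ∀ f : V →ₗ[k] k, Q (CoalgebraStruct.comul (R := k) (cf (A := A) f v - f v • (1 : A))) = 0 ∧
      HopfAlgebraStruct.antipode k (cf (A := A) f v - f v • (1 : A)) ∈ K := by
    intro f
    set c := cf (A := A) f v - f v • (1 : A) with hc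
    have hcK : c ∈ K := cf_sub_mem_fixIdeal f v
    have hexp : CoalgebraStruct.comul (R := k) c = c ⊗ₜ[k] (1 : A) +
        (cf (A := A) f).rTensor A (Comod.coact (k := k) (A := A) v - v ⊗ₜ[k] (1 : A)) := by
      rw [hc, map_sub, map_sub, LinearMap.rTensor_tmul, map_smul, TensorProduct.sub_tmul,
        ← TensorProduct.smul_tmul', show CoalgebraStruct.comul (R := k) (cf (A := A) f v) = _ from
          sliceL_coact_comul f v, show CoalgebraStruct.comul (R := k) (1 : A) = (1 : A) ⊗ₜ[k] (1 : A) from
          Bialgebra.comul_one]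
      abel
    obtain ⟨h1, h2⟩ := hd (cf (A := A) f) f hcK
    refine ⟨?_, ?_⟩
    · rw [hexp, map_add, h1, add_zero]
      simp [Q, Ideal.Quotient.eq_zero_iff_mem.2 hcK]
    · have h := HopfAlgebra.mul_antipode_rTensor_comul_apply (R := k) c
      have hcounit : CoalgebraStruct.counit (R := k) c = 0 := by
        rw [hc, map_sub, map_smul, counit_cf, show CoalgebraStruct.counit (R := k) (1 : A) = 1 from
          Bialgebra.counit_one, smul_eq_mul, mul_one, sub_self]
      rw [show Coalgebra.comul (R := k) c = CoalgebraStruct.comul (R := k) c from rfl, hexp, map_add,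
        map_add, show Coalgebra.counit (R := k) c = CoalgebraStruct.counit (R := k) c from rfl, hcounit,
        map_zero, LinearMap.rTensor_tmul, LinearMap.mul'_apply, mul_one] at h
      rw [eq_neg_of_add_eq_zero_left h]
      exact neg_mem h2
  have main : ∀ x ∈ K, CoalgebraStruct.counit (R := k) x = 0 ∧ Q (CoalgebraStruct.comul (R := k) x) = 0 ∧
      HopfAlgebraStruct.antipode k x ∈ K := by
    intro x hx
    refine Submodule.span_induction (p := fun x _ => CoalgebraStruct.counit (R := k) x = 0 ∧
      Q (CoalgebraStruct.comul (R := k) x) = 0 ∧ HopfAlgebraStruct.antipode k x ∈ K) ?_ ?_ ?_ ?_ hx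
    · rintro _ ⟨f, rfl⟩
      refine ⟨?_, hgen f⟩
      rw [map_sub, map_smul, counit_cf, show CoalgebraStruct.counit (R := k) (1 : A) = 1 from
        Bialgebra.counit_one, smul_eq_mul, mul_one, sub_self]
    · simp
    · rintro a b _ _ ⟨a1, a2, a3⟩ ⟨b1, b2, b3⟩
      exact ⟨by simp [a1, b1], by simp [a2, b2], by rw [map_add]; exact add_mem a3 b3⟩
    · rintro a b _ ⟨b1, b2, b3⟩
      refine ⟨?_, ?_, ?_⟩
      · rw [smul_eq_mul]; exact (Bialgebra.counit_mul a b).trans (by rw [show Coalgebra.counit (R := k) b = 0 from b1, mul_zero])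
      · rw [smul_eq_mul, show CoalgebraStruct.comul (R := k) (a * b) = _ from Bialgebra.comul_mul a b,
          map_mul, show Q (Coalgebra.comul (R := k) b) = 0 from b2, mul_zero]
      · rw [smul_eq_mul, mul_comm a b, HopfAlgebra.antipode_mul_antidistrib]
        exact K.mul_mem_left _ b3
  exact
    { counit_eq_zero := fun x hx => (main x hx).1
      map_mkQ_comul_eq_zero := fun x hx => by rw [hQ, (main x hx).2.1, map_zero]
      antipode_mem := fun x hx => (main x hx).2.2 }

/-- A vector fixed by every pseudo-reflection is fixed by the subgroup they generate. -/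
theorem mem_quotInvariants_genIdeal {ι : Type*} [Comod k A (MvPolynomial ι k)] {v : V}
    (h : ∀ I, GLin.IsPseudoRefl k A ι I → v ∈ GLin.quotInvariants k A V I) :
    v ∈ GLin.quotInvariants k A V (GLin.genIdeal k A ι) := by
  rw [mem_quotInvariants_iff_fixIdeal_le]
  exact le_sSup ⟨inferInstance, fun I hI => (mem_quotInvariants_iff_fixIdeal_le I v).1 (h I hI)⟩

theorem mem_fixedPts_of_mem_quotInvariants_bot {v : V} (h : v ∈ GLin.quotInvariants k A V ⊥) :
    v ∈ fixedPts k A V := by
  rw [mem_quotInvariants_iff_fixIdeal_le, fixIdeal, Ideal.span_le] at h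
  refine eq_of_forall_sliceL_eq fun f => ?_
  rw [sliceL_tmul, ← cf_apply, ← sub_eq_zero]
  exact Ideal.mem_bot.1 (h ⟨f, rfl⟩)

end Groth.Agent.HopfLib
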