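import Groth.Agent.HopfLib.Slices
import Mathlib.RingTheory.Coalgebra.Basic

/-!
# The fundamental theorem of coalgebras
-/

open TensorProduct

universe u v

namespace Groth.Agent.HopfLib

variable {k : Type u} [CommRing k] {A : Type v} [AddCommGroup A] [Module k A] [Coalgebra k A]

/-- `x ↦ (id ⊗ g) (Δ x)`. -/
noncomputable def hitR (g : A →ₗ[k] k) : A →ₗ[k] A := sliceR g ∘ₗ Coalgebra.comul

/-- `x ↦ (f ⊗ id) (Δ x)`. -/
noncomputable def hitL (f : A →ₗ[k] k) : A →ₗ[k] A := sliceL f ∘ₗ Coalgebra.comul

theorem hitR_counit (x : A) : hitR (Coalgebra.counit (R := k)) x = x := by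
  have := Coalgebra.lTensor_counit_comul (R := k) x
  simp [hitR, sliceR, this]

theorem hitL_counit (x : A) : hitL (Coalgebra.counit (R := k)) x = x := by
  have := Coalgebra.rTensor_counit_comul (R := k) x
  simp [hitL, sliceL, this]

theorem comul_sliceR {V : Type*} [AddCommGroup V] [Module k V] (g : V →ₗ[k] k) (t : A ⊗[k] V) :
    Coalgebra.comul (sliceR g t) = sliceR g ((Coalgebra.comul (R := k) (A := A)).rTensor V t) :=
  (sliceR_rTensor _ g t).symm

theorem comul_sliceL {V : Type*} [AddCommGroup V] [Module k V] (f : V →ₗ[k] k) (t : V ⊗[k] A) :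
    Coalgebra.comul (sliceL f t) = sliceL f ((Coalgebra.comul (R := k) (A := A)).lTensor V t) :=
  (sliceL_lTensor _ f t).symm

theorem hitR_hitL (g f : A →ₗ[k] k) (x : A) : hitR g (hitL f x) = hitL f (hitR g x) := by
  simp only [hitR, hitL, LinearMap.comp_apply]
  rw [comul_sliceL, comul_sliceR, ← Coalgebra.coassoc_apply (R := k) x]
  generalize (Coalgebra.comul (R := k) (A := A)).rTensor A (Coalgebra.comul x) = Y
  induction Y using TensorProduct.induction_on with
  | zero => simp
  | add p q hp hq => simp only [map_add, hp, hq]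
  | tmul ab c =>
    induction ab using TensorProduct.induction_on with
    | zero => simp
    | add p q hp hq => simp only [TensorProduct.add_tmul, map_add, hp, hq]
    | tmul a b => simp [smul_comm (f a) (g c)]

theorem hitR_hitR (g h : A →ₗ[k] k) (x : A) :
    hitR g (hitR h x) = hitR ((LinearMap.mul' k k ∘ₗ TensorProduct.map g h) ∘ₗ Coalgebra.comul) x := by
  simp only [hitR, LinearMap.comp_apply]
  rw [comul_sliceR]
  have e : ∀ Y : (A ⊗[k] A) ⊗[k] A, sliceR g (sliceR h Y) =
      sliceR (LinearMap.mul' k k ∘ₗ TensorProduct.map g h) (TensorProduct.assoc k A A A Y) := by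
    intro Y
    induction Y using TensorProduct.induction_on with
    | zero => simp
    | add p q hp hq => simp only [map_add, hp, hq]
    | tmul ab c =>
      induction ab using TensorProduct.induction_on with
      | zero => simp
      | add p q hp hq => simp only [TensorProduct.add_tmul, map_add, hp, hq]
      | tmul a b => simp [smul_smul, mul_comm]
  rw [e, Coalgebra.coassoc_apply]
  generalize Coalgebra.comul (R := k) x = t
  induction t using TensorProduct.induction_on with
  | zero => simp
  | add p q hp hq => simp only [map_add, hp, hq]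
  | tmul a b => simp

theorem hitL_hitL (f h : A →ₗ[k] k) (x : A) :
    hitL f (hitL h x) = hitL ((LinearMap.mul' k k ∘ₗ TensorProduct.map h f) ∘ₗ Coalgebra.comul) x := by
  simp only [hitL, LinearMap.comp_apply]
  rw [comul_sliceL, ← Coalgebra.coassoc_apply (R := k) x]
  have e : ∀ Y : (A ⊗[k] A) ⊗[k] A, sliceL f (sliceL h (TensorProduct.assoc k A A A Y)) =
      sliceL (LinearMap.mul' k k ∘ₗ TensorProduct.map h f) Y := by
    intro Y
    induction Y using TensorProduct.induction_on with
    | zero => simp
    | add p q hp hq => simp only [map_add, hp, hq]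
    | tmul ab c =>
      induction ab using TensorProduct.induction_on with
      | zero => simp
      | add p q hp hq => simp only [TensorProduct.add_tmul, map_add, hp, hq]
      | tmul a b => simp [smul_smul, mul_comm]
  rw [e]
  generalize Coalgebra.comul (R := k) x = t
  induction t using TensorProduct.induction_on with
  | zero => simp
  | add p q hp hq => simp only [map_add, hp, hq]
  | tmul a b => simp

section Field

variable {K : Type u} [Field K] {C : Type v} [AddCommGroup C] [Module K C] [Coalgebra K C]

/-- A subspace stable under both actions of the dual is a subcoalgebra, and conversely. -/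
theorem comul_mem_range_map_iff (B : Submodule K C) :
    (∀ b ∈ B, Coalgebra.comul (R := K) b ∈ LinearMap.range (TensorProduct.map B.subtype B.subtype)) ↔
      ∀ g : C →ₗ[K] K, ∀ b ∈ B, hitR g b ∈ B ∧ hitL g b ∈ B := by
  constructor
  · intro h g b hb
    have := mem_range_map_subtype_iff.1 (h b hb)
    exact ⟨this.1 g, this.2 g⟩
  · intro h b hb
    exact mem_range_map_subtype_iff.2 ⟨fun g => (h g b hb).1, fun g => (h g b hb).2⟩

/-- Fundamental theorem of coalgebras. -/
theorem exists_finite_subcoalgebra (s : Set C) (hs : s.Finite) :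
    ∃ B : Submodule K C, Module.Finite K B ∧ s ⊆ B ∧
      ∀ b ∈ B, Coalgebra.comul (R := K) b ∈ LinearMap.range (TensorProduct.map B.subtype B.subtype) := by
  let U : Submodule K C := Submodule.span K {y | ∃ g : C →ₗ[K] K, ∃ x ∈ s, hitR g x = y}
  let B : Submodule K C := Submodule.span K {y | ∃ f : C →ₗ[K] K, ∃ x ∈ U, hitL f x = y}
  have hUfg : U.FG := by
    choose W hW hW' using fun x : C => exists_fg_forall_sliceR_mem (Coalgebra.comul (R := K) x)
    have hfg : (hs.toFinset.sup W).FG := by
      refine Finset.sup_induction Submodule.fg_bot (fun a ha b hb => ha.sup hb) fun x _ => hW x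
    refine Submodule.FG.of_le hfg ?_
    rw [Submodule.span_le]
    rintro y ⟨g, x, hx, rfl⟩
    exact Finset.le_sup (f := W) (hs.mem_toFinset.2 hx) (hW' x g)
  have hUstab : ∀ g : C →ₗ[K] K, ∀ x ∈ U, hitR g x ∈ U := by
    intro g x hx
    induction hx using Submodule.span_induction with
    | mem y hy =>
      obtain ⟨h, x, hx, rfl⟩ := hy
      exact Submodule.subset_span ⟨_, x, hx, (hitR_hitR g h x).symm⟩
    | zero => simp
    | add y z _ _ hy hz => rw [map_add]; exact add_mem hy hz
    | smul c y _ hy => rw [map_smul]; exact Submodule.smul_mem _ _ hy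
  have hBfg : B.FG := by
    obtain ⟨t, ht⟩ := hUfg
    choose W hW hW' using fun x : C => exists_fg_forall_sliceL_mem (Coalgebra.comul (R := K) x)
    have hfg : (t.sup W).FG :=
      Finset.sup_induction Submodule.fg_bot (fun a ha b hb => ha.sup hb) fun x _ => hW x
    refine Submodule.FG.of_le hfg ?_
    rw [Submodule.span_le]
    rintro y ⟨f, x, hx, rfl⟩
    rw [← ht] at hx
    induction hx using Submodule.span_induction with
    | mem z hz => exact Finset.le_sup (f := W) hz (hW' z f)
    | zero => simp
    | add y z _ _ hy hz => rw [map_add]; exact add_mem hy hz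
    | smul c y _ hy => rw [map_smul]; exact Submodule.smul_mem _ _ hy
  refine ⟨B, Module.Finite.iff_fg.2 hBfg, fun x hx => ?_, (comul_mem_range_map_iff B).2 ?_⟩
  · exact Submodule.subset_span ⟨_, x, Submodule.subset_span ⟨_, x, hx, hitR_counit x⟩, hitL_counit x⟩
  · intro g b hb
    induction hb using Submodule.span_induction with
    | mem y hy =>
      obtain ⟨f, x, hx, rfl⟩ := hy
      exact ⟨Submodule.subset_span ⟨f, _, hUstab g x hx, (hitR_hitL g f x).symm⟩,
        Submodule.subset_span ⟨_, x, hx, (hitL_hitL g f x).symm⟩⟩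
    | zero => simp
    | add y z _ _ hy hz => rw [map_add, map_add]; exact ⟨add_mem hy.1 hz.1, add_mem hy.2 hz.2⟩
    | smul c y _ hy =>
      rw [map_smul, map_smul]
      exact ⟨Submodule.smul_mem _ _ hy.1, Submodule.smul_mem _ _ hy.2⟩

end Field

end Groth.Agent.HopfLib
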