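import Groth.Agent.HopfLib.Integral
import Groth.Prelude.Def_GLin

/-!
# Comodule algebras with a total integral
-/

open TensorProduct HopfRep

universe u v w

namespace Groth.Agent.HopfLib

set_option linter.unusedSectionVars false
set_option maxHeartbeats 400000

variable {k : Type u} [CommRing k] {A : Type v} [CommRing A] [HopfAlgebra k A]
  {B : Type w} [CommRing B] [Algebra k B] [Comod k A B] [GLin.IsCoactAlg k A B]

/-- The retraction `B ⊗ A → B` defined by a total integral. -/
noncomputable def tameLam (α : A →ₗ[k] B) : B ⊗[k] A →ₗ[k] B := avgMap α (LinearMap.mul' k B)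

theorem tameLam_colinear {α : A →ₗ[k] B} (hα : Hoch.IsComodHom A α) (x : B ⊗[k] A) :
    Comod.coact (k := k) (A := A) (tameLam α x) =
      (tameLam α).rTensor A (Hoch.Ind.coactAux k A B x) := by
  refine avgMap_colinear α _ (Comod.coact (k := k) (A := A)) _
    (fun y => IsComodHom.coact_apply hα y) (fun v b => ?_) x
  simp only [LinearMap.mul'_apply, GLin.IsCoactAlg.coact_mul]
  generalize Comod.coact (k := k) (A := A) v = s
  generalize Comod.coact (k := k) (A := A) b = t
  induction s using TensorProduct.induction_on with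
  | zero => simp
  | add p q hp hq => simp only [add_mul, TensorProduct.add_tmul, map_add, hp, hq]
  | tmul v' a =>
    induction t using TensorProduct.induction_on with
    | zero => simp
    | add p q hp hq => simp only [mul_add, TensorProduct.tmul_add, map_add, hp, hq]
    | tmul b' a' => simp

theorem tameLam_coact {α : A →ₗ[k] B} (h1 : α 1 = 1) (b : B) : tameLam α (Comod.coact b) = b := by
  simp [tameLam, avgMap_coact, h1]

theorem isComodHom_tameLam {α : A →ₗ[k] B} (hα : Hoch.IsComodHom A α) :
    Hoch.IsComodHom A (tameLam α ∘ₗ (Hoch.Ind.equiv k A B).symm.toLinearMap : Hoch.Ind k A B →ₗ[k] B) :=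
  LinearMap.ext fun x => tameLam_colinear hα ((Hoch.Ind.equiv k A B).symm x)

/-- The generalised Reynolds operator `B → B^G`. -/
noncomputable def tameRey (α : A →ₗ[k] B) : B →ₗ[k] B := tameLam α ∘ₗ (TensorProduct.mk k B A).flip 1

theorem tameRey_mem {α : A →ₗ[k] B} (hα : Hoch.IsComodHom A α) (b : B) :
    tameRey α b ∈ GLin.invariants k A B := by
  rw [GLin.mem_invariants_iff]
  simp only [tameRey, LinearMap.comp_apply, LinearMap.flip_apply, TensorProduct.mk_apply]
  rw [tameLam_colinear hα, Hoch.Ind.coactAux_tmul, Bialgebra.comul_one]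
  simp [Algebra.TensorProduct.one_def]

theorem tameRey_apply (α : A →ₗ[k] B) (b : B) : tameRey α b = LinearMap.mul' k B
    ((α ∘ₗ HopfAlgebraStruct.antipode k).lTensor B (Comod.coact (k := k) (A := A) b)) := by
  simp only [tameRey, LinearMap.comp_apply, LinearMap.flip_apply, TensorProduct.mk_apply, tameLam,
    avgMap_tmul]
  rw [show LinearMap.mulRight k (1 : A) = LinearMap.id from LinearMap.ext mul_one, LinearMap.id_comp]

theorem tameRey_mul (α : A →ₗ[k] B) {c : B} (hc : c ∈ GLin.invariants k A B) (b : B) :
    tameRey α (c * b) = c * tameRey α b := by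
  rw [tameRey_apply, tameRey_apply, GLin.IsCoactAlg.coact_mul, (GLin.mem_invariants_iff k A B c).1 hc]
  generalize Comod.coact (k := k) (A := A) b = t
  induction t using TensorProduct.induction_on with
  | zero => simp
  | add p q hp hq => simp only [mul_add, map_add, hp, hq]
  | tmul x y => simp [mul_assoc]

theorem tameRey_one {α : A →ₗ[k] B} (h1 : α 1 = 1) : tameRey α (1 : B) = 1 := by
  have := tameLam_coact h1 (1 : B)
  rw [GLin.IsCoactAlg.coact_one (k := k) (A := A) (R := B), Algebra.TensorProduct.one_def] at this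
  exact this

theorem tameRey_of_mem {α : A →ₗ[k] B} (h1 : α 1 = 1) {c : B} (hc : c ∈ GLin.invariants k A B) :
    tameRey α c = c := by
  have := tameRey_mul α hc 1
  rwa [mul_one, tameRey_one h1, mul_one] at this

theorem tameRey_mem_ideal (α : A →ₗ[k] B) {I : Ideal B}
    (hI : IsSubcomod (k := k) (A := A) (I.restrictScalars k)) {b : B} (hb : b ∈ I) :
    tameRey α b ∈ I := by
  obtain ⟨t, ht⟩ := hI b hb
  rw [tameRey_apply, ← ht]
  clear ht
  induction t using TensorProduct.induction_on with
  | zero => simp
  | add p q hp hq => simp only [map_add]; exact add_mem hp hq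
  | tmul x y => simpa using I.mul_mem_right _ x.2

theorem comap_map_invariants (htame : ∃ α : A →ₗ[k] B, Hoch.IsComodHom A α ∧ α 1 = 1)
    (c : Ideal (GLin.invariants k A B)) :
    (c.map (algebraMap (GLin.invariants k A B) B)).comap (algebraMap (GLin.invariants k A B) B) = c := by
  obtain ⟨α, hα, h1⟩ := htame
  refine le_antisymm (fun x hx => ?_) Ideal.le_comap_map
  have key : ∀ y ∈ c.map (algebraMap (GLin.invariants k A B) B), ∀ b : B,
      (⟨tameRey α (b * y), tameRey_mem hα _⟩ : GLin.invariants k A B) ∈ c := by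
    intro y hy
    induction hy using Submodule.span_induction with
    | mem y hy =>
      obtain ⟨a, ha, rfl⟩ := hy
      intro b
      have e : (⟨tameRey α (b * algebraMap (GLin.invariants k A B) B a), tameRey_mem hα _⟩ :
          GLin.invariants k A B) = a * ⟨tameRey α b, tameRey_mem hα b⟩ := by
        apply Subtype.ext
        change tameRey α (b * (a : B)) = (a : B) * tameRey α b
        rw [mul_comm b, tameRey_mul α a.2]
      rw [e]
      exact c.mul_mem_right _ ha
    | zero =>
      intro b
      have e : (⟨tameRey α (b * 0), tameRey_mem hα _⟩ : GLin.invariants k A B) = 0 := Subtype.ext (by simp)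
      rw [e]; exact c.zero_mem
    | add y z _ _ hy hz =>
      intro b
      have e : (⟨tameRey α (b * (y + z)), tameRey_mem hα _⟩ : GLin.invariants k A B) =
          ⟨tameRey α (b * y), tameRey_mem hα _⟩ + ⟨tameRey α (b * z), tameRey_mem hα _⟩ :=
        Subtype.ext (by simp [mul_add])
      rw [e]; exact c.add_mem (hy b) (hz b)
    | smul r y _ hy =>
      intro b
      have e : (⟨tameRey α (b * r • y), tameRey_mem hα _⟩ : GLin.invariants k A B) =
          ⟨tameRey α (b * r * y), tameRey_mem hα _⟩ := Subtype.ext (by simp [mul_assoc])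
      rw [e]; exact hy (b * r)
  have h := key _ hx 1
  convert h using 1
  exact Subtype.ext ((one_mul (x : B)).symm ▸ (tameRey_of_mem h1 x.2).symm)

theorem exists_prime_over_of_le (htame : ∃ α : A →ₗ[k] B, Hoch.IsComodHom A α ∧ α 1 = 1)
    {I : Ideal B} (hI : IsSubcomod (k := k) (A := A) (I.restrictScalars k))
    {p : Ideal (GLin.invariants k A B)} [p.IsPrime]
    (hp : I.comap (algebraMap (GLin.invariants k A B) B) ≤ p) :
    ∃ q : Ideal B, q.IsPrime ∧ I ≤ q ∧ q.comap (algebraMap (GLin.invariants k A B) B) = p := by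
  obtain ⟨α, hα, h1⟩ := htame
  let f := algebraMap (GLin.invariants k A B) B
  have key : (I ⊔ p.map f).comap f ≤ p := by
    intro x hx
    obtain ⟨i, hi, y, hy, hxy⟩ := Submodule.mem_sup.1 hx
    have h := congrArg (tameRey α) hxy
    rw [map_add, show f x = (x : B) from rfl, tameRey_of_mem h1 x.2] at h
    have e : x = (⟨tameRey α i, tameRey_mem hα i⟩ : GLin.invariants k A B) +
        ⟨tameRey α y, tameRey_mem hα y⟩ := Subtype.ext h.symm
    rw [e]
    refine p.add_mem (hp (tameRey_mem_ideal α hI hi)) ?_
    rw [← comap_map_invariants ⟨α, hα, h1⟩ p, Ideal.mem_comap]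
    clear h hxy e hx
    induction hy using Submodule.span_induction with
    | mem y hy =>
      obtain ⟨a, ha, rfl⟩ := hy
      change tameRey α (a : B) ∈ _
      rw [tameRey_of_mem h1 a.2]
      exact Ideal.mem_map_of_mem f ha
    | zero => change tameRey α 0 ∈ _; simp
    | add y z _ _ hy hz =>
      change tameRey α (y + z) ∈ _; rw [map_add]; exact add_mem hy hz
    | smul r y hy' hy =>
      change tameRey α (r • y) ∈ _
      obtain ⟨n, c, g, rfl⟩ := Submodule.mem_span_set'.1 hy'
      rw [Finset.smul_sum, map_sum]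
      refine Submodule.sum_mem _ fun j _ => ?_
      obtain ⟨a, ha, hga⟩ := (g j).2
      rw [← hga, smul_eq_mul, smul_eq_mul, ← mul_assoc, mul_comm, show f a = (a : B) from rfl,
        tameRey_mul α a.2]
      exact Ideal.mul_mem_right _ _ (Ideal.mem_map_of_mem f ha)
  let M : Submonoid B := p.primeCompl.map (f : GLin.invariants k A B →* B)
  have hdis : Disjoint ((I ⊔ p.map f : Ideal B) : Set B) (M : Set B) := by
    rw [Set.disjoint_left]
    rintro x hx ⟨a, ha, rfl⟩
    exact ha (key hx)
  obtain ⟨q, hq, hle, hqdis⟩ := Ideal.exists_le_prime_disjoint _ _ hdis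
  refine ⟨q, hq, le_sup_left.trans hle, le_antisymm (fun x hx => ?_) (Ideal.map_le_iff_le_comap.1 (le_sup_right.trans hle))⟩
  by_contra hxp
  exact Set.disjoint_left.1 hqdis hx ⟨x, hxp, rfl⟩

end Groth.Agent.HopfLib
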