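import Groth.Agent.HopfLib.UnipotentPow
import Groth.Prelude.Def_Lie2
import Groth.Prelude.Def_GLin

/-!
# The Lie algebra of a unipotent group in characteristic zero
-/

open TensorProduct HopfRep

universe u w

namespace Groth.Agent.HopfLib

set_option linter.unusedSectionVars false
set_option maxHeartbeats 400000

variable {k : Type u} [Field k] [CharZero k] {A : Type u} [CommRing A] [HopfAlgebra k A]

/-- A linear form composed with the logarithm of the identity is an `ε`-derivation. -/
noncomputable def lieOfLog (hU : IsUnipotent k A) (φ : A →ₗ[k] k) : LieHopf.Lie k A :=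
  Derivation.mk' ((φ ∘ₗ logMap hU (AlgHom.id k A) : A →ₗ[k] k) : A →ₗ[k] LieHopf.K k A) fun a b => by
    show φ (logMap hU (AlgHom.id k A) (a * b)) =
      Bialgebra.counitAlgHom k A a • φ (logMap hU (AlgHom.id k A) b) +
        Bialgebra.counitAlgHom k A b • φ (logMap hU (AlgHom.id k A) a)
    rw [logMap_mul, map_add, map_smul, map_smul]
    simp only [Bialgebra.counitAlgHom_apply]

theorem sliceR_lTensor_logMap (hU : IsUnipotent k A) {V : Type w} [AddCommGroup V] [Module k V]
    (φ : A →ₗ[k] k) (t : V ⊗[k] A) :
    sliceR φ ((logMap hU (AlgHom.id k A)).lTensor V t) =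
      TensorProduct.rid k V (((lieOfLog hU φ).toLinearMap.restrictScalars k).lTensor V t) := by
  induction t using TensorProduct.induction_on with
  | zero =>
    rw [map_zero, map_zero, map_zero]
    exact (map_zero (TensorProduct.rid k V)).symm
  | add p q hp hq =>
    rw [map_add, map_add, map_add, hp, hq]
    exact (map_add (TensorProduct.rid k V) _ _).symm
  | tmul v a => simp; rfl

end Groth.Agent.HopfLib
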