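import Groth.Agent.HopfLib.ComodFlag
import Mathlib.RingTheory.Bialgebra.Convolution
import Mathlib.RingTheory.Polynomial.Pochhammer
import Mathlib.RingTheory.Polynomial.Nilpotent
import Mathlib.RingTheory.Idempotents
import Mathlib.Algebra.Polynomial.Taylor

/-!
# Polynomial powers of points of a unipotent group in characteristic zero
-/

open TensorProduct HopfRep WithConv Polynomial

universe u v w

namespace Groth.Agent.HopfLib

set_option linter.unusedSectionVars false
set_option maxHeartbeats 400000

variable {k : Type u} [Field k] {A : Type v} [CommRing A] [Bialgebra k A]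
  {B : Type w} [CommRing B] [Algebra k B]

theorem comul_sub_mem_socFil {r : ℕ} {a : A} (ha : a ∈ socFil k A (r + 1)) :
    CoalgebraStruct.comul (R := k) a - a ⊗ₜ[k] (1 : A) ∈
      LinearMap.range ((socFil k A r).subtype.rTensor A) := by
  refine mem_range_rTensor_subtype_iff.2 fun g => ?_
  have h' := mem_socFil_succ.1 ha (g - g 1 • CoalgebraStruct.counit) (by simp [Bialgebra.counit_one])
  have e : hit (V := A) (g - g 1 • CoalgebraStruct.counit (R := k) (A := A)) a = hit g a - g 1 • a := by
    rw [sub_eq_add_neg, ← neg_one_smul k, hit_add, hit_smul, hit_smul]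
    simp [sub_eq_add_neg]
  rw [e] at h'
  rw [map_sub, sliceR_tmul]
  exact h'

/-- A linear map killing `1` has locally nilpotent convolution powers. -/
theorem convPow_apply_eq_zero (f : WithConv (A →ₗ[k] B)) (hf : f.ofConv 1 = 0) :
    ∀ r, ∀ a ∈ socFil k A r, ∀ j, r ≤ j → (f ^ j).ofConv a = 0 := by
  intro r
  induction r with
  | zero => intro a ha j _; rw [socFil, Submodule.mem_bot] at ha; rw [ha, map_zero]
  | succ r ih =>
    intro a ha j hj
    obtain ⟨i, rfl⟩ : ∃ i, j = i + 1 := ⟨j - 1, by omega⟩
    obtain ⟨y, hy⟩ := comul_sub_mem_socFil ha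
    rw [pow_succ]
    change LinearMap.mul' k B (TensorProduct.map (f ^ i).ofConv f.ofConv (CoalgebraStruct.comul (R := k) a)) = 0
    rw [← sub_add_cancel (CoalgebraStruct.comul (R := k) a) (a ⊗ₜ[k] (1 : A)), ← hy, map_add, map_add]
    have h1 : TensorProduct.map (f ^ i).ofConv f.ofConv ((socFil k A r).subtype.rTensor A y) = 0 := by
      clear hy
      induction y using TensorProduct.induction_on with
      | zero => simp
      | add p q hp hq => rw [map_add, map_add, hp, hq, add_zero]
      | tmul s b => simp [ih s.1 s.2 i (by omega)]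
    rw [h1]
    simp [hf]

theorem exists_mem_socFil (hU : IsUnipotent k A) (a : A) : ∃ r, a ∈ socFil k A r := by
  have h : a ∈ ⨆ r, socFil k A (r + 1) := by rw [iSup_socFil_eq_top hU]; exact Submodule.mem_top
  obtain ⟨r, hr⟩ := (Submodule.mem_iSup_of_directed _
    (Monotone.directed_le fun _ _ h => socFil_mono (Nat.succ_le_succ h))).1 h
  exact ⟨r + 1, hr⟩

/-- A polynomial vanishing at all naturals is zero, in an algebra over a field of characteristic zero. -/
theorem poly_eq_zero_of_eval_nat (k : Type u) [Field k] [CharZero k] {B : Type w} [CommRing B] [Algebra k B]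
    (p : B[X]) (h : ∀ n : ℕ, p.eval (n : B) = 0) : p = 0 := by
  ext i
  rw [coeff_zero, ← Module.forall_dual_apply_eq_zero_iff k]
  intro φ
  let q : k[X] := p.sum fun i c => monomial i (φ c)
  have hq : q.coeff i = φ (p.coeff i) := by
    simp only [q, sum_def, finsetSum_coeff, coeff_monomial]
    rw [Finset.sum_ite_eq', ite_eq_left_iff]
    intro hi
    rw [notMem_support_iff.1 hi, map_zero]
  have : q = 0 := by
    refine eq_zero_of_infinite_isRoot q ((Set.infinite_range_of_injective (Nat.cast_injective (R := k))).mono ?_)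
    rintro _ ⟨n, rfl⟩
    show q.eval (n : k) = 0
    have e : q.eval (n : k) = φ (p.eval (n : B)) := by
      simp only [q, sum_def, eval_finsetSum, eval_monomial]
      rw [eval_eq_sum, sum_def, map_sum]
      refine Finset.sum_congr rfl fun i _ => ?_
      rw [← Nat.cast_pow, ← Nat.cast_pow, mul_comm (p.coeff i), ← nsmul_eq_mul, map_nsmul, nsmul_eq_mul,
        mul_comm]
    rw [e, h, map_zero]
  rw [← hq, this, coeff_zero]

theorem poly_ext_eval_nat (k : Type u) [Field k] [CharZero k] {B : Type w} [CommRing B] [Algebra k B]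
    {p q : B[X]} (h : ∀ n : ℕ, p.eval (n : B) = q.eval (n : B)) : p = q :=
  sub_eq_zero.1 (poly_eq_zero_of_eval_nat k _ fun n => by rw [eval_sub, h, sub_self])

theorem exists_poly_convPow [CharZero k] (hU : IsUnipotent k A) (g : A →ₐ[k] B) (a : A) :
    ∃ p : B[X], ∀ n : ℕ, p.eval (n : B) = (toConv g ^ n).ofConv a := by
  obtain ⟨r, hr⟩ := exists_mem_socFil hU a
  let f : WithConv (A →ₗ[k] B) := toConv g.toLinearMap - 1
  have hf : f.ofConv 1 = 0 := by simp [f, Algebra.algebraMap_eq_smul_one]
  refine ⟨∑ j ∈ Finset.range r, C (algebraMap k B (j.factorial : k)⁻¹ * (f ^ j).ofConv a) *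
    descPochhammer B j, fun n => ?_⟩
  have e : (toConv g ^ n).ofConv a = ∑ j ∈ Finset.range (n + 1), n.choose j • (f ^ j).ofConv a := by
    have := (Commute.one_right f).add_pow n
    rw [sub_add_cancel] at this
    have h' := congrArg (fun x : WithConv (A →ₗ[k] B) => x.ofConv a)
      ((AlgHom.toLinearMap_convPow (toConv g) n).trans this)
    simp only at h'
    refine h'.trans ?_
    rw [WithConv.ofConv_sum, LinearMap.sum_apply]
    refine Finset.sum_congr rfl fun j _ => ?_
    rw [one_pow, mul_one, ← (Nat.cast_commute _ (f ^ j)).eq, ← nsmul_eq_mul]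
    rfl
  rw [e, eval_finsetSum]
  have e1 : ∀ j, (C (algebraMap k B (j.factorial : k)⁻¹ * (f ^ j).ofConv a) * descPochhammer B j).eval (n : B) =
      n.choose j • (f ^ j).ofConv a := fun j => by
    rw [eval_mul, eval_C, descPochhammer_eval_eq_descFactorial, Nat.descFactorial_eq_factorial_mul_choose,
      Nat.cast_mul, ← map_natCast (algebraMap k B) j.factorial, nsmul_eq_mul]
    calc algebraMap k B (j.factorial : k)⁻¹ * (f ^ j).ofConv a * (algebraMap k B (j.factorial : k) * (n.choose j : B))
        = algebraMap k B ((j.factorial : k)⁻¹ * (j.factorial : k)) * ((n.choose j : B) * (f ^ j).ofConv a) := by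
          rw [map_mul]; ring
      _ = (n.choose j : B) * (f ^ j).ofConv a := by
          rw [inv_mul_cancel₀ (Nat.cast_ne_zero.2 j.factorial_ne_zero), map_one, one_mul]
  simp only [e1]
  rcases le_total r (n + 1) with h | h
  · refine Finset.sum_subset (Finset.range_subset_range.2 h) fun j _ hj => ?_
    rw [convPow_apply_eq_zero f hf r a hr j (by simpa using hj), smul_zero]
  · refine (Finset.sum_subset (Finset.range_subset_range.2 h) fun j _ hj => ?_).symm
    rw [Nat.choose_eq_zero_of_lt (by simpa using hj), zero_smul]

variable [CharZero k]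

/-- The polynomial family `t ↦ g ^ t` of powers of a point of a unipotent group. -/
noncomputable def powPoly (hU : IsUnipotent k A) (g : A →ₐ[k] B) : A →ₐ[k] B[X] where
  toFun a := (exists_poly_convPow hU g a).choose
  map_one' := poly_ext_eval_nat k fun n => by
    rw [(exists_poly_convPow hU g 1).choose_spec, map_one, eval_one]
  map_mul' a b := poly_ext_eval_nat k fun n => by
    rw [(exists_poly_convPow hU g (a * b)).choose_spec, map_mul, eval_mul,
      (exists_poly_convPow hU g a).choose_spec, (exists_poly_convPow hU g b).choose_spec]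
  map_zero' := poly_ext_eval_nat k fun n => by
    rw [(exists_poly_convPow hU g 0).choose_spec, map_zero, eval_zero]
  map_add' a b := poly_ext_eval_nat k fun n => by
    rw [(exists_poly_convPow hU g (a + b)).choose_spec, map_add, eval_add,
      (exists_poly_convPow hU g a).choose_spec, (exists_poly_convPow hU g b).choose_spec]
  commutes' c := poly_ext_eval_nat k fun n => by
    rw [(exists_poly_convPow hU g _).choose_spec, AlgHom.commutes, Polynomial.algebraMap_apply, eval_C]

theorem powPoly_eval (hU : IsUnipotent k A) (g : A →ₐ[k] B) (n : ℕ) (a : A) :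
    (powPoly hU g a).eval (n : B) = (toConv g ^ n).ofConv a :=
  (exists_poly_convPow hU g a).choose_spec n

theorem powPoly_eval_one (hU : IsUnipotent k A) (g : A →ₐ[k] B) (a : A) :
    (powPoly hU g a).eval 1 = g a := by
  rw [← Nat.cast_one, powPoly_eval, pow_one]

theorem powPoly_coeff_zero (hU : IsUnipotent k A) (g : A →ₐ[k] B) (a : A) :
    (powPoly hU g a).coeff 0 = algebraMap k B (CoalgebraStruct.counit a) := by
  rw [coeff_zero_eq_eval_zero, ← Nat.cast_zero, powPoly_eval, pow_zero]
  rfl

/-- In characteristic zero a unipotent group is connected. -/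
theorem idempotent_trivial_of_isUnipotent (hU : IsUnipotent k A) {e : A} (he : IsIdempotentElem e) :
    e = 0 ∨ e = 1 := by
  set p := powPoly hU (AlgHom.id k A) e with hp'
  have hp : IsIdempotentElem p := he.map _
  have hu : IsUnit (2 * p - 1) :=
    IsUnit.of_mul_eq_one (2 * p - 1) (by linear_combination (4 : A[X]) * hp.eq)
  have hc : IsIdempotentElem (C (p.coeff 0)) := (show IsIdempotentElem (p.coeff 0) by
    rw [coeff_zero_eq_eval_zero]; exact hp.map (evalRingHom (0 : A))).map C
  have hpc : p = C (p.coeff 0) := by
    refine eq_of_isNilpotent_sub_of_isIdempotentElem hp hc (Polynomial.isNilpotent_iff.2 fun i => ?_)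
    rcases Nat.eq_zero_or_pos i with rfl | hi
    · simp
    · have h2 := (isUnit_iff_coeff_isUnit_isNilpotent.1 hu).2 i (by omega)
      have e2 : (2 * p - 1).coeff i = ((2 : ℕ) : A) * p.coeff i := by
        rw [coeff_sub, two_mul, coeff_add, coeff_one, if_neg (by omega)]; push_cast; ring
      have : IsUnit ((2 : ℕ) : A) := by
        rw [← map_natCast (algebraMap k A)]
        exact (IsUnit.mk0 _ (by norm_num)).map _
      rw [coeff_sub, coeff_C_of_ne_zero (by omega), sub_zero]
      rw [e2] at h2
      obtain ⟨c, hc'⟩ := this.exists_left_inv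
      rw [← one_mul (p.coeff i), ← hc', mul_assoc]
      exact mem_nilradical.1 (Ideal.mul_mem_left _ _ (mem_nilradical.2 h2))
  have h1 := powPoly_eval_one hU (AlgHom.id k A) e
  rw [← hp', hpc, eval_C, hp', powPoly_coeff_zero, AlgHom.id_apply] at h1
  rcases IsIdempotentElem.iff_eq_zero_or_one.1 (he.map (Bialgebra.counitAlgHom k A)) with h | h <;>
    rw [Bialgebra.counitAlgHom_apply] at h <;> rw [← h1, h] <;> simp

/-- Evaluation of `B`-polynomials at a scalar. -/
noncomputable def evalK (t : k) : B[X] →ₐ[k] B := (Polynomial.aeval (algebraMap k B t)).restrictScalars k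

theorem evalK_apply (t : k) (p : B[X]) : evalK t p = p.eval (algebraMap k B t) := by
  simp [evalK, coe_aeval_eq_eval]

theorem comp_convPow {C : Type*} [CommRing C] [Algebra k C] (h : B →ₐ[k] C) (f : WithConv (A →ₐ[k] B)) (n : ℕ) :
    toConv (h.comp (f ^ n).ofConv) = toConv (h.comp f.ofConv) ^ n := by
  induction n with
  | zero =>
    rw [pow_zero, pow_zero]
    exact congrArg toConv (AlgHom.ext fun a => h.commutes _)
  | succ n ih => rw [pow_succ, pow_succ, AlgHom.comp_convMul_distrib, ih]

theorem evalK_nat_powPoly (hU : IsUnipotent k A) (g : A →ₐ[k] B) (n : ℕ) :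
    toConv ((evalK (n : k)).comp (powPoly hU g)) = toConv g ^ n := by
  apply ofConv_injective
  refine AlgHom.ext fun a => ?_
  rw [ofConv_toConv, AlgHom.comp_apply, evalK_apply, map_natCast, powPoly_eval]

/-- Powers by an invertible natural number are bijective. -/
theorem pow_bijective_of_isUnipotent (hU : IsUnipotent k A) {e : ℕ} (he : e ≠ 0) :
    Function.Bijective fun g : WithConv (A →ₐ[k] B) => g ^ e := by
  have hek : (e : k) ≠ 0 := Nat.cast_ne_zero.2 he
  have key : ∀ (g : A →ₐ[k] B) (n : ℕ), (toConv ((evalK (n : k)).comp (powPoly hU g))) ^ e =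
      toConv ((evalK ((e * n : ℕ) : k)).comp (powPoly hU g)) := fun g n => by
    rw [evalK_nat_powPoly, evalK_nat_powPoly, ← pow_mul, mul_comm]
  constructor
  · intro g h hgh
    have : ∀ x : WithConv (A →ₐ[k] B), ∀ a, (powPoly hU (x ^ e).ofConv a).eval (algebraMap k B (e : k)⁻¹) = x.ofConv a := by
      intro x a
      have E : powPoly hU (x ^ e).ofConv a = (powPoly hU x.ofConv a).comp (C (e : B) * Polynomial.X) := by
        refine poly_ext_eval_nat k fun n => ?_
        rw [powPoly_eval, eval_comp, eval_mul, eval_C, eval_X, ← Nat.cast_mul, powPoly_eval, toConv_ofConv,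
          toConv_ofConv, pow_mul]
      rw [E, eval_comp, eval_mul, eval_C, eval_X, ← map_natCast (algebraMap k B), ← map_mul,
        mul_inv_cancel₀ hek, map_one, powPoly_eval_one]
    apply ofConv_injective
    refine AlgHom.ext fun a => ?_
    rw [← this g a, ← this h a]
    simp only at hgh
    rw [hgh]
  · intro g
    refine ⟨toConv ((evalK (e : k)⁻¹).comp (powPoly hU g.ofConv)), ?_⟩
    have hP : toConv (powPoly hU g.ofConv) ^ e =
        toConv (((Polynomial.aeval (C (e : B) * Polynomial.X)).restrictScalars k).comp (powPoly hU g.ofConv)) := by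
      apply ofConv_injective
      refine AlgHom.ext fun a => poly_ext_eval_nat k fun n => ?_
      have hl : ((toConv (powPoly hU g.ofConv) ^ e).ofConv a).eval (n : B) =
          evalK (n : k) ((toConv (powPoly hU g.ofConv) ^ e).ofConv a) := by rw [evalK_apply, map_natCast]
      rw [hl, ← AlgHom.comp_apply, ← ofConv_toConv ((evalK (n : k)).comp (toConv (powPoly hU g.ofConv) ^ e).ofConv),
        comp_convPow, ofConv_toConv, evalK_nat_powPoly, ← pow_mul]
      simp only [ofConv_toConv, AlgHom.comp_apply, AlgHom.restrictScalars_apply]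
      rw [← Polynomial.comp_eq_aeval, eval_comp, eval_mul, eval_C, eval_X, ← Nat.cast_mul, powPoly_eval,
        mul_comm]
    show toConv ((evalK (e : k)⁻¹).comp (powPoly hU g.ofConv)) ^ e = g
    rw [← ofConv_toConv (powPoly hU g.ofConv), ← comp_convPow, hP]
    apply ofConv_injective
    refine AlgHom.ext fun a => ?_
    simp only [ofConv_toConv, AlgHom.comp_apply, AlgHom.restrictScalars_apply]
    rw [← Polynomial.comp_eq_aeval, evalK_apply, eval_comp, eval_mul, eval_C, eval_X,
      ← map_natCast (algebraMap k B), ← map_mul, mul_inv_cancel₀ hek, map_one, powPoly_eval_one]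

/-! ### Derivatives -/

/-- The logarithm `g ↦ d/dt (g ^ t)` at `0`. -/
noncomputable def logMap (hU : IsUnipotent k A) (g : A →ₐ[k] B) : A →ₗ[k] B :=
  ((Polynomial.lcoeff B 1).restrictScalars k) ∘ₗ (powPoly hU g).toLinearMap

theorem logMap_apply (hU : IsUnipotent k A) (g : A →ₐ[k] B) (a : A) :
    logMap hU g a = (powPoly hU g a).coeff 1 := rfl

theorem logMap_mul (hU : IsUnipotent k A) (g : A →ₐ[k] B) (a b : A) :
    logMap hU g (a * b) =
      CoalgebraStruct.counit (R := k) a • logMap hU g b + CoalgebraStruct.counit (R := k) b • logMap hU g a := by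
  simp only [logMap_apply, map_mul, mul_coeff_one, powPoly_coeff_zero, Algebra.smul_def]
  ring

theorem derivative_powPoly (hU : IsUnipotent k A) (g : A →ₐ[k] B) (a : A) :
    derivative (powPoly hU g a) = LinearMap.mul' k B[X] (TensorProduct.map (powPoly hU g).toLinearMap
      ((Polynomial.CAlgHom (R := B)).toLinearMap.restrictScalars k ∘ₗ logMap hU g)
      (CoalgebraStruct.comul (R := k) a)) := by
  refine poly_ext_eval_nat k fun m => ?_
  let gm : A →ₐ[k] B := (toConv g ^ m).ofConv
  let sh : B[X] →ₐ[k] B[X] := (Polynomial.aeval (Polynomial.X + C (m : B))).restrictScalars k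
  let cC : B →ₐ[k] B[X] := (Polynomial.CAlgHom (R := B)).restrictScalars k
  have E : toConv (sh.comp (powPoly hU g)) = toConv (cC.comp gm) * toConv (powPoly hU g) := by
    apply ofConv_injective
    refine AlgHom.ext fun b => poly_ext_eval_nat k fun n => ?_
    have hl : ((toConv (cC.comp gm) * toConv (powPoly hU g)).ofConv b).eval (n : B) =
        ((evalK (n : k)).comp (toConv (cC.comp gm) * toConv (powPoly hU g)).ofConv) b := by
      rw [AlgHom.comp_apply, evalK_apply, map_natCast]
    rw [hl, AlgHom.comp_convMul_distrib]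
    simp only [ofConv_toConv]
    rw [evalK_nat_powPoly, show toConv ((evalK (n : k)).comp (cC.comp gm)) = toConv g ^ m from
      ofConv_injective (AlgHom.ext fun c => by simp [cC, gm, evalK_apply]), ← pow_add]
    simp only [sh, AlgHom.comp_apply, AlgHom.restrictScalars_apply]
    rw [← Polynomial.comp_eq_aeval, eval_comp, eval_add, eval_X, eval_C, ← Nat.cast_add, powPoly_eval,
      add_comm]
  have h1 : (derivative (powPoly hU g a)).eval (m : B) = (sh (powPoly hU g a)).coeff 1 := by
    rw [← taylor_coeff_one, taylor_apply, comp_eq_aeval]; rfl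
  rw [h1, show sh (powPoly hU g a) = (toConv (sh.comp (powPoly hU g))).ofConv a from rfl, E]
  change ((LinearMap.mul' k B[X] (TensorProduct.map (cC.comp gm).toLinearMap (powPoly hU g).toLinearMap
    (CoalgebraStruct.comul (R := k) a))).coeff 1) = _
  generalize CoalgebraStruct.comul (R := k) a = t
  induction t using TensorProduct.induction_on with
  | zero => simp
  | add p q hp hq => simp only [map_add, coeff_add, eval_add, hp, hq]
  | tmul b c => simp [cC, gm, logMap_apply, powPoly_eval]

/-- The recursion computing the Taylor coefficients of powers of matrix coefficients. -/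
theorem derivative_powPoly_cf (hU : IsUnipotent k A) (g : A →ₐ[k] B) {V : Type*} [AddCommGroup V] [Module k V]
    [Comod k A V] (ψ : V →ₗ[k] k) (x : V) :
    derivative (powPoly hU g (cf (A := A) ψ x)) = LinearMap.mul' k B[X] (TensorProduct.map
      ((powPoly hU g).toLinearMap ∘ₗ cf (A := A) ψ)
      ((Polynomial.CAlgHom (R := B)).toLinearMap.restrictScalars k)
      ((logMap hU g).lTensor V (Comod.coact x))) := by
  rw [derivative_powPoly, sliceL_coact_comul]
  generalize Comod.coact (k := k) (A := A) x = t
  induction t using TensorProduct.induction_on with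
  | zero => simp
  | add p q hp hq => simp only [map_add, hp, hq]
  | tmul b c => simp

theorem coeff_succ_eq_zero (k : Type u) [Field k] [CharZero k] {B : Type w} [CommRing B] [Algebra k B]
    {p : B[X]} {j : ℕ} (h : (derivative p).coeff j = 0) : p.coeff (j + 1) = 0 := by
  rw [coeff_derivative, ← Nat.cast_succ, ← map_natCast (algebraMap k B)] at h
  exact ((IsUnit.mk0 ((j + 1 : ℕ) : k) (Nat.cast_ne_zero.2 (Nat.succ_ne_zero j))).map
    (algebraMap k B)).mul_left_eq_zero.1 h

/-- A subspace stable under the logarithm is a subcomodule. -/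
theorem isSubcomod_of_logMap_stable (hU : IsUnipotent k A) {V : Type*} [AddCommGroup V] [Module k V]
    [Comod k A V] (W : Submodule k V)
    (h : ∀ x ∈ W, (logMap hU (AlgHom.id k A)).lTensor V (Comod.coact x) ∈
      LinearMap.range (W.subtype.rTensor A)) : IsSubcomod (k := k) (A := A) W := by
  intro x hx
  refine mem_range_rTensor_subtype_iff.2 fun φ => ?_
  by_contra hmem
  obtain ⟨ψ, hψ, hψW⟩ := Submodule.exists_dual_map_eq_bot_of_notMem hmem inferInstance
  have hψ0 : ∀ w ∈ W, ψ w = 0 := fun w hw => by
    have := Submodule.mem_map_of_mem (f := ψ) hw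
    rwa [hψW, Submodule.mem_bot] at this
  have hc : ∀ j, ∀ w ∈ W, (powPoly hU (AlgHom.id k A) (cf (A := A) ψ w)).coeff j = 0 := by
    intro j
    induction j with
    | zero => intro w hw; rw [powPoly_coeff_zero, counit_cf, hψ0 w hw, map_zero]
    | succ j ih =>
      intro w hw
      refine coeff_succ_eq_zero k ?_
      rw [derivative_powPoly_cf]
      obtain ⟨y, hy⟩ := h w hw
      rw [← hy]
      clear hy
      induction y using TensorProduct.induction_on with
      | zero => simp
      | add p q hp hq => simp only [map_add, coeff_add, hp, hq, add_zero]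
      | tmul s b => simp [coeff_mul_C, ih s.1 s.2]
  have h0 : cf (A := A) ψ x = 0 := by
    rw [← AlgHom.id_apply (R := k) (cf (A := A) ψ x), ← powPoly_eval_one hU,
      show powPoly hU (AlgHom.id k A) (cf (A := A) ψ x) = 0 from Polynomial.ext fun j => by
        rw [hc j x hx, coeff_zero], eval_zero]
  apply hψ
  have := congrArg φ h0
  rw [map_zero, cf_apply] at this
  rw [← this]
  generalize Comod.coact (k := k) (A := A) x = t
  induction t using TensorProduct.induction_on with
  | zero => simp
  | add p q hp hq => simp only [map_add, hp, hq]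
  | tmul b c => simp [mul_comm]

/-- A linear map intertwining the logarithms is a comodule map. -/
theorem coact_map_eq_of_logMap (hU : IsUnipotent k A) {V W : Type*} [AddCommGroup V] [Module k V]
    [Comod k A V] [AddCommGroup W] [Module k W] [Comod k A W] (e : V →ₗ[k] W)
    (h : ∀ x, (logMap hU (AlgHom.id k A)).lTensor W (Comod.coact (e x)) =
      e.rTensor A ((logMap hU (AlgHom.id k A)).lTensor V (Comod.coact x))) (x : V) :
    Comod.coact (k := k) (A := A) (e x) = e.rTensor A (Comod.coact x) := by
  refine eq_of_forall_sliceL_eq fun ψ => ?_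
  have hc : ∀ j v, (powPoly hU (AlgHom.id k A) (cf (A := A) ψ (e v))).coeff j =
      (powPoly hU (AlgHom.id k A) (cf (A := A) (ψ ∘ₗ e) v)).coeff j := by
    intro j
    induction j with
    | zero => intro v; simp [powPoly_coeff_zero, counit_cf]
    | succ j ih =>
      intro v
      rw [← sub_eq_zero, ← coeff_sub]
      refine coeff_succ_eq_zero k ?_
      rw [map_sub, coeff_sub, sub_eq_zero, derivative_powPoly_cf, derivative_powPoly_cf, h]
      generalize (logMap hU (AlgHom.id k A)).lTensor V (Comod.coact v) = t
      induction t using TensorProduct.induction_on with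
      | zero => simp
      | add p q hp hq => simp only [map_add, coeff_add, hp, hq]
      | tmul b c => simp [coeff_mul_C, ih b]
  have : cf (A := A) ψ (e x) = cf (A := A) (ψ ∘ₗ e) x := by
    have h1 := congrArg (Polynomial.eval (1 : A)) (Polynomial.ext fun j => hc j x)
    rwa [powPoly_eval_one, powPoly_eval_one, AlgHom.id_apply, AlgHom.id_apply] at h1
  rw [← cf_apply, this, cf_apply]
  generalize Comod.coact (k := k) (A := A) x = t
  induction t using TensorProduct.induction_on with
  | zero => simp
  | add p q hp hq => simp only [map_add, hp, hq]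
  | tmul b c => simp

end Groth.Agent.HopfLib
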